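import Cfsg.Agent.Lib.Linear.AschSp.Coord
import Cfsg.Agent.Lib.Linear.AschGen.Core
import Cfsg.Agent.Lib.Recog.Icosahedral

/-!
# Tensor powers stabilised by a group of isometries
-/

set_option autoImplicit false
set_option linter.unusedSectionVars false
set_option linter.style.haveILetI false

namespace Cfsg.Lib.Linear.AschSp

open Cfsg.Geo Cfsg.Lib.Linear Cfsg.Lib.Linear.Asch
open Cfsg.Lib.Linear.AschGen (pureTens pureTens_mul pureTens_one powStd powStd_apply powStd_mul powStd_one
  powStdLin powEmb PowData conjA conjA_apply exists_conjA powEmb_injective adj adj_map_conj)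
open scoped Matrix MatrixGroups

variable {m : ℕ} {F : Type*} [Field F] {H : Subgroup (GL (Ix m) F)} {d t : ℕ}

theorem pureTens_transpose (A : Fin t → Matrix (Fin d) (Fin d) F) :
    (pureTens A)ᵀ = pureTens fun i => (A i)ᵀ :=
  Matrix.ext fun _ _ => rfl

theorem pureTens_smul (c : Fin t → F) (A : Fin t → Matrix (Fin d) (Fin d) F) :
    pureTens (fun i => c i • A i) = (∏ i, c i) • pureTens A := by
  refine Matrix.ext fun x y => ?_
  simp [pureTens, Finset.prod_mul_distrib]

theorem powStd_transpose (i : Fin t) (a : Matrix (Fin d) (Fin d) F) : (powStd i a)ᵀ = powStd i aᵀ := by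
  rw [powStd, powStd, pureTens_transpose]
  congr 1
  funext j
  rcases eq_or_ne j i with rfl | hj
  · simp
  · simp [hj]

/-- A pure tensor of vectors. -/
def pureVec (u : Fin t → Fin d → F) : (Fin t → Fin d) → F := fun x => ∏ i, u i (x i)

theorem pureTens_mulVec (A : Fin t → Matrix (Fin d) (Fin d) F) (u : Fin t → Fin d → F) :
    pureTens A *ᵥ pureVec u = pureVec fun i => A i *ᵥ u i := by
  funext x
  simp only [Matrix.mulVec, dotProduct, pureTens, Matrix.of_apply, pureVec, ← Finset.prod_mul_distrib]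
  exact (Fintype.prod_sum fun i z => A i (x i) z * u i z).symm

theorem pureVec_dot (u v : Fin t → Fin d → F) : pureVec u ⬝ᵥ pureVec v = ∏ i, u i ⬝ᵥ v i := by
  simp only [dotProduct, pureVec, ← Finset.prod_mul_distrib]
  exact (Fintype.prod_sum fun i z => u i z * v i z).symm

theorem pureTens_inv {A : Fin t → Matrix (Fin d) (Fin d) F} (hA : ∀ i, IsUnit (A i).det) :
    pureTens A * pureTens (fun i => (A i)⁻¹) = 1 ∧ pureTens (fun i => (A i)⁻¹) * pureTens A = 1 := by
  constructor <;> rw [pureTens_mul, ← pureTens_one] <;> congr 1 <;> funext i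
  · exact Matrix.mul_nonsing_inv _ (hA i)
  · exact Matrix.nonsing_inv_mul _ (hA i)

theorem scalar_of_comm_powStd [NeZero d] {M : Matrix (Fin t → Fin d) (Fin t → Fin d) F}
    (h : ∀ i a, Commute M (powStd i a)) : ∃ c : F, M = c • 1 := by
  classical
  have h1 : ∀ (S : Finset (Fin t)) (X : Fin t → Matrix (Fin d) (Fin d) F),
      Commute M (pureTens fun j => if j ∈ S then X j else 1) := by
    intro S X
    induction S using Finset.induction_on with
    | empty => simp [pureTens_one]
    | insert i S hi ih =>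
      have e0 : (pureTens fun j => if j ∈ insert i S then X j else 1) =
          powStd i (X i) * pureTens fun j => if j ∈ S then X j else 1 := by
        rw [powStd, pureTens_mul]
        congr 1
        funext j
        rcases eq_or_ne j i with rfl | hj
        · simp [hi]
        · simp [hj]
      rw [e0]
      exact Commute.mul_right (h i (X i)) ih
  obtain ⟨c, hc⟩ := Matrix.mem_range_scalar_of_commute_single (M := M) fun x y _ => by
    have e0 : Matrix.single x y (1 : F) = pureTens fun j => Matrix.single (x j) (y j) (1 : F) := by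
      ext p q
      simp only [pureTens, Matrix.of_apply, Matrix.single_apply]
      by_cases hpq : x = p ∧ y = q
      · obtain ⟨rfl, rfl⟩ := hpq; simp
      · rw [if_neg hpq]
        have : ∃ j, ¬ (x j = p j ∧ y j = q j) := by
          by_contra hne
          push Not at hne
          exact hpq ⟨funext fun j => (hne j).1, funext fun j => (hne j).2⟩
        obtain ⟨j, hj⟩ := this
        exact (Finset.prod_eq_zero (Finset.mem_univ j) (if_neg hj)).symm
    have h2 := h1 Finset.univ fun j => Matrix.single (x j) (y j) (1 : F)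
    simp only [Finset.mem_univ, if_true] at h2
    show Commute (Matrix.single x y (1 : F)) M
    rw [e0]
    exact h2.symm
  exact ⟨c, by rw [← hc, Matrix.scalar_apply, Matrix.smul_one_eq_diagonal]⟩

theorem powEmb_eq_tm (e : Ix m ≃ (Fin t → Fin d)) (P : GL (Ix m) F) (i : Fin t) (a : Matrix (Fin d) (Fin d) F) :
    powEmb e P i a = tm e P (powStd i a) := rfl

/-- Elements of the standard wreath group send pure tensors to pure tensors. -/
theorem wreath_pureVec [Fintype F] {k : GL (Fin t → Fin d) F} (hk : k ∈ tensorWreathStandard d t F)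
    (u : Fin t → Fin d → F) : ∃ u', k.val *ᵥ pureVec u = pureVec u' := by
  suffices h : ∀ v ∈ Set.range (pureVec (F := F) (t := t) (d := d)), k.val *ᵥ v ∈ Set.range (pureVec (F := F) (t := t) (d := d)) by
    obtain ⟨u', hu'⟩ := h _ ⟨u, rfl⟩
    exact ⟨u', hu'.symm⟩
  clear u
  induction hk using Subgroup.closure_induction with
  | mem g hg =>
    rintro _ ⟨u, rfl⟩
    rcases hg with ⟨gs, hgs⟩ | ⟨σ, hσ⟩
    · refine ⟨fun i => (gs i).val *ᵥ u i, ?_⟩
      rw [← pureTens_mulVec, show g.val = pureTens fun i => (gs i).val from Matrix.ext hgs]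
    · refine ⟨fun i => u (σ.symm i), ?_⟩
      funext x
      have h1 : (g.val *ᵥ pureVec u) x = pureVec u (x ∘ σ) := by
        simp only [Matrix.mulVec, dotProduct, hσ, ite_mul, one_mul, zero_mul, Finset.sum_ite_eq', Finset.mem_univ,
          if_true]
      rw [h1]
      show ∏ i, u (σ.symm i) (x i) = ∏ i, u i (x (σ i))
      rw [← Equiv.prod_comp σ fun i => u (σ.symm i) (x i)]
      exact Finset.prod_congr rfl fun i _ => by rw [Equiv.symm_apply_apply]
  | one => intro v hv; simpa using hv
  | mul a b _ _ ha hb => intro v hv; rw [Units.val_mul, ← Matrix.mulVec_mulVec]; exact ha _ (hb _ hv)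
  | inv a _ ha =>
    intro v hv
    haveI : Finite (Set.range (pureVec (F := F) (t := t) (d := d))) := Finite.Set.finite_range _
    let φ : Set.range (pureVec (F := F) (t := t) (d := d)) → Set.range (pureVec (F := F) (t := t) (d := d)) :=
      fun w => ⟨_, ha _ w.2⟩
    have hφ : Function.Injective φ := fun w w' h => Subtype.ext (by
      have h1 := congrArg ((a⁻¹).val *ᵥ ·) (congrArg Subtype.val h)
      simpa [φ, inv_mulVec_mulVec] using h1)
    obtain ⟨w, hw⟩ := Finite.injective_iff_surjective.1 hφ ⟨v, hv⟩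
    have h1 : a.val *ᵥ (w : (Fin t → Fin d) → F) = v := congrArg Subtype.val hw
    rw [← h1, inv_mulVec_mulVec]
    exact w.2

/-- Data of a member of class seven. -/
def PowMember [Fintype F] (H : Subgroup (GL (Ix m) F)) : Prop :=
  ∃ (k t : ℕ) (e : Ix m ≃ (Fin t → Fin k)) (P : GL (Ix m) F) (f₁ : (Fin k → F) → (Fin k → F) → F),
    Odd (Fintype.card F) ∧ Odd t ∧ 3 ≤ t ∧ 2 ≤ k ∧ Even k ∧ ¬ (Fintype.card F = 3 ∧ k = 2) ∧
      IsSymplecticForm f₁ ∧ IsTensorPowerFormStructure id (Cfsg.sympForm m F) f₁ e P ∧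
      H ≤ tensorWreathSubgroup k t e P

theorem perfect_trivial {G : Type*} [Group G] [Finite G] (hG : Nat.card G < 60) (K : Subgroup G)
    (hK : ⁅K, K⁆ = K) : K = ⊥ := by
  have hs : Group.IsSolvable K := Cfsg.Lib.Recog.Icosa.solvable_of_lt_sixty _ K rfl
    (lt_of_le_of_lt (Nat.card_le_card_of_injective _ K.subtype_injective) hG)
  by_contra hne
  haveI : Nontrivial K := (Subgroup.nontrivial_iff_ne_bot K).2 hne
  have h1 := IsSolvable.commutator_lt_top_of_nontrivial K
  refine h1.ne ?_
  refine Subgroup.map_injective K.subtype_injective ?_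
  rw [commutator_def, Subgroup.map_commutator, ← MonoidHom.range_eq_map, K.range_subtype, hK]

set_option maxHeartbeats 1000000 in
/-- A tensor power decomposition stabilised through its perfect factors carries a form. -/
theorem pow_cases [Fintype F] (hH : H ≤ Cfsg.spGL m F) (hd : 2 ≤ d) (ht : 2 ≤ t)
    {M : Fin t → Subgroup (GL (Ix m) F)} {e : Ix m ≃ (Fin t → Fin d)} {P : GL (Ix m) F} (hM : PowData H M e P) :
    PowMember H ∨
    (¬ Odd (Fintype.card F) ∧ ∃ Q : (Ix m → F) → F, IsNondegenerateQuadraticForm Q ∧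
      (∀ u v, QuadraticMap.polar Q u v = Cfsg.sympForm m F u v) ∧ H ≤ quadSimilarityGroup Q) := by
  classical
  haveI : NeZero d := ⟨by omega⟩
  have hinj : ∀ i, Function.Injective fun a : Matrix (Fin d) (Fin d) F => tm e P (powStd i a) :=
    fun i => powEmb_injective (by omega) e P i
  have hσ : ∀ i a, ∃ a', adjM (tm e P (powStd i a)) = tm e P (powStd i a') := fun i a => by
    have h1 := adjM_mem_adjoin ((hM.le i).trans hH) ((hM.span i _).2 ⟨a, rfl⟩)
    exact (hM.span i _).1 h1
  choose σ hσ using hσ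
  have hσσ : ∀ i a, σ i (σ i a) = a := fun i a => hinj i (by
    show tm e P _ = tm e P _
    rw [← hσ, ← hσ, adjM_adjM])
  have hA : ∀ i, ∃ A : Matrix (Fin d) (Fin d) F, IsUnit A.det ∧ ∀ a, σ i a = A⁻¹ * aᵀ * A := by
    intro i
    have hadd : ∀ a b, σ i (a + b) = σ i a + σ i b := fun a b => hinj i (by
      show tm e P _ = tm e P _
      rw [← hσ, show powStd i (a + b) = powStd i a + powStd i b from (powStdLin i).map_add a b, tm_add, adjM_add,
        hσ, hσ, ← tm_add, ← show powStd i (σ i a + σ i b) = powStd i (σ i a) + powStd i (σ i b) from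
          (powStdLin i).map_add _ _])
    have hsmul : ∀ (c : F) a, σ i (c • a) = c • σ i a := fun c a => hinj i (by
      show tm e P _ = tm e P _
      rw [← hσ, show powStd i (c • a) = c • powStd i a from (powStdLin i).map_smul c a, tm_smul, adjM_smul,
        hσ, ← tm_smul, ← show powStd i (c • σ i a) = c • powStd i (σ i a) from (powStdLin i).map_smul c _])
    have hmul : ∀ a b, σ i (a * b) = σ i b * σ i a := fun a b => hinj i (by
      show tm e P _ = tm e P _
      rw [← hσ, ← powStd_mul, tm_mul, adjM_mul, hσ, hσ, ← tm_mul, powStd_mul])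
    have hone : σ i 1 = 1 := hinj i (by
      show tm e P _ = tm e P _
      rw [← hσ, powStd_one, tm_one, adjM_one])
    let L : Matrix (Fin d) (Fin d) F →ₗ[F] Matrix (Fin d) (Fin d) F :=
      { toFun := fun a => (σ i a)ᵀ
        map_add' := fun a b => by simp [hadd]
        map_smul' := fun c a => by simp [hsmul] }
    let Φ : Matrix (Fin d) (Fin d) F →ₐ[F] Matrix (Fin d) (Fin d) F :=
      AlgHom.ofLinearMap L (by show (σ i 1)ᵀ = 1; rw [hone, Matrix.transpose_one])
        (fun a b => by show (σ i (a * b))ᵀ = _; rw [hmul, Matrix.transpose_mul]; rfl)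
    have hΦ : Function.Bijective Φ := by
      refine ⟨fun a b hab => ?_, fun a => ⟨σ i aᵀ, ?_⟩⟩
      · have h1 : σ i a = σ i b := Matrix.transpose_injective hab
        rw [← hσσ i a, h1, hσσ]
      · show (σ i (σ i aᵀ))ᵀ = a
        rw [hσσ, Matrix.transpose_transpose]
    obtain ⟨B, hB⟩ := exists_conjA (AlgEquiv.ofBijective Φ hΦ)
    refine ⟨B.valᵀ, by rw [Matrix.det_transpose]; exact B.isUnit.map Matrix.detMonoidHom, fun a => ?_⟩
    have h1 : (σ i a)ᵀ = B.val * a * (B⁻¹).val := hB a
    have h2 := congrArg Matrix.transpose h1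
    rw [Matrix.transpose_transpose, Matrix.transpose_mul, Matrix.transpose_mul, Matrix.coe_units_inv,
      Matrix.transpose_nonsing_inv] at h2
    rw [h2, Matrix.mul_assoc]
  choose A hAu hA using hA
  have hscal : ∀ Z : Matrix (Fin d) (Fin d) F, (∀ a, Commute a Z) → ∃ c : F, Z = c • 1 := fun Z hZ => by
    obtain ⟨c, hc⟩ := Matrix.mem_range_scalar_of_commute_single (M := Z) fun x y _ => hZ _
    exact ⟨c, by rw [← hc, Matrix.scalar_apply, Matrix.smul_one_eq_diagonal]⟩
  obtain ⟨c, hG⟩ : ∃ c : F, gC e P = c • pureTens A := by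
    obtain ⟨c, hc⟩ := scalar_of_comm_powStd (M := gC e P * pureTens fun i => (A i)⁻¹) fun i a => by
      have h1 := tm_adjM e P (hσ i aᵀ)
      rw [powStd_transpose, Matrix.transpose_transpose, hA, Matrix.transpose_transpose] at h1
      have h2 : powStd i ((A i)⁻¹ * a * A i) * pureTens (fun j => (A j)⁻¹) =
          pureTens (fun j => (A j)⁻¹) * powStd i a := by
        rw [powStd, powStd, pureTens_mul, pureTens_mul]
        congr 1
        funext j
        rcases eq_or_ne j i with rfl | hj
        · simp [Matrix.mul_assoc, Matrix.mul_nonsing_inv _ (hAu j)]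
        · simp [hj]
      show _ * _ = _ * _
      rw [Matrix.mul_assoc, ← h2, ← Matrix.mul_assoc, ← h1, Matrix.mul_assoc]
    refine ⟨c, ?_⟩
    have h1 := congrArg (· * pureTens A) hc
    simp only [Matrix.mul_assoc, (pureTens_inv hAu).2, Matrix.mul_one, Matrix.smul_mul, Matrix.one_mul] at h1
    exact h1
  have hc0 : c ≠ 0 := fun h => by
    have hu := gC_isUnit e P
    rw [hG, h, zero_smul] at hu
    exact hu.ne_zero (Matrix.det_eq_zero_of_row_eq_zero (fun _ => ⟨0, by omega⟩) fun _ => rfl)
  have hsign : ∀ i, ∃ ε : F, (A i)ᵀ = ε • A i := by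
    intro i
    obtain ⟨ε, hε⟩ := hscal ((A i)⁻¹ * (A i)ᵀ) fun a => by
      have h1 := hσσ i a
      rw [hA, hA, Matrix.transpose_mul, Matrix.transpose_mul, Matrix.transpose_transpose,
        Matrix.transpose_nonsing_inv] at h1
      have h2 := congrArg (fun z => z * ((A i)⁻¹ * (A i)ᵀ)) h1
      simp only [Matrix.mul_assoc] at h2
      have hu : IsUnit (A i)ᵀ.det := by rw [Matrix.det_transpose]; exact hAu i
      rw [← Matrix.mul_assoc (A i) (A i)⁻¹, Matrix.mul_nonsing_inv _ (hAu i), Matrix.one_mul,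
        Matrix.nonsing_inv_mul _ hu, Matrix.mul_one] at h2
      show a * _ = _ * a
      rw [← h2]
      simp only [Matrix.mul_assoc]
    refine ⟨ε, ?_⟩
    have h1 := congrArg (A i * ·) hε
    simpa [← Matrix.mul_assoc, Matrix.mul_nonsing_inv _ (hAu i)] using h1
  choose ε hε using hsign
  let i₀ : Fin t := ⟨0, by omega⟩
  have hY : ∀ j, ∃ (Y : GL (Fin d) F) (ν : F), ν ≠ 0 ∧ Y.valᵀ * A j * Y.val = ν • A i₀ := by
    intro j
    obtain ⟨h, hh, hMh⟩ := hM.trans i₀ j
    have hmove : ∀ a, ∃ b, h.val * tm e P (powStd i₀ a) * (h⁻¹).val = tm e P (powStd j b) := fun a => by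
      refine (hM.span j _).1 ?_
      rw [← hMh, adj_map_conj]
      exact ⟨_, (hM.span i₀ _).2 ⟨a, rfl⟩, rfl⟩
    choose ψ hψ using hmove
    have hadd : ∀ a b, ψ (a + b) = ψ a + ψ b := fun a b => hinj j (by
      show tm e P _ = tm e P _
      rw [← hψ, show powStd i₀ (a + b) = powStd i₀ a + powStd i₀ b from (powStdLin i₀).map_add a b, tm_add,
        Matrix.mul_add, Matrix.add_mul, hψ, hψ, ← tm_add,
        ← show powStd j (ψ a + ψ b) = powStd j (ψ a) + powStd j (ψ b) from (powStdLin j).map_add _ _])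
    have hsmul : ∀ (r : F) a, ψ (r • a) = r • ψ a := fun r a => hinj j (by
      show tm e P _ = tm e P _
      rw [← hψ, show powStd i₀ (r • a) = r • powStd i₀ a from (powStdLin i₀).map_smul r a, tm_smul,
        Matrix.mul_smul, Matrix.smul_mul, hψ, ← tm_smul,
        ← show powStd j (r • ψ a) = r • powStd j (ψ a) from (powStdLin j).map_smul r _])
    have hmul : ∀ a b, ψ (a * b) = ψ a * ψ b := fun a b => hinj j (by
      show tm e P _ = tm e P _
      rw [← hψ, ← powStd_mul, ← powStd_mul, tm_mul, tm_mul, ← hψ, ← hψ]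
      simp only [Matrix.mul_assoc]
      rw [← Matrix.mul_assoc (h⁻¹).val h.val, ← Units.val_mul, inv_mul_cancel, Units.val_one, Matrix.one_mul])
    have hone : ψ 1 = 1 := hinj j (by
      show tm e P _ = tm e P _
      rw [← hψ, powStd_one, powStd_one, tm_one, Matrix.mul_one, ← Units.val_mul, mul_inv_cancel, Units.val_one])
    let Φ : Matrix (Fin d) (Fin d) F →ₐ[F] Matrix (Fin d) (Fin d) F :=
      AlgHom.ofLinearMap { toFun := ψ, map_add' := hadd, map_smul' := hsmul } hone hmul
    have hΦi : Function.Injective Φ := fun a b hab => hinj i₀ (by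
      have h1 : h.val * tm e P (powStd i₀ a) * (h⁻¹).val = h.val * tm e P (powStd i₀ b) * (h⁻¹).val := by
        rw [hψ, hψ]; exact congrArg (fun z => tm e P (powStd j z)) hab
      exact (conjA h).injective h1)
    obtain ⟨Y, hY⟩ := exists_conjA (AlgEquiv.ofBijective Φ
      ⟨hΦi, LinearMap.surjective_of_injective (f := Φ.toLinearMap) hΦi⟩)
    have hY' : ∀ a, ψ a = Y.val * a * (Y⁻¹).val := hY
    have hu : IsUnit Y.valᵀ.det := by
      rw [Matrix.det_transpose]; exact Y.isUnit.map Matrix.detMonoidHom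
    have hcomm : ∀ a, σ j (ψ a) = ψ (σ i₀ a) := fun a => hinj j (by
      show tm e P _ = tm e P _
      rw [← hσ, ← hψ, adjM_conj hH hh, hσ, hψ])
    obtain ⟨ν, hν⟩ := hscal (Y.valᵀ * A j * Y.val * (A i₀)⁻¹) fun a => by
      have h1 := hcomm aᵀ
      rw [hA, hA, hY', hY', Matrix.transpose_mul, Matrix.transpose_mul, Matrix.transpose_transpose,
        Matrix.coe_units_inv, Matrix.transpose_nonsing_inv] at h1
      have h2 := congrArg (fun z => Y.valᵀ * A j * z * Y.val * (A i₀)⁻¹) h1
      simp only [Matrix.mul_assoc] at h2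
      rw [← Matrix.mul_assoc (A j) (A j)⁻¹, Matrix.mul_nonsing_inv _ (hAu j), Matrix.one_mul,
        ← Matrix.mul_assoc Y.valᵀ Y.valᵀ⁻¹, Matrix.mul_nonsing_inv _ hu, Matrix.one_mul,
        ← Matrix.mul_assoc (Y.val)⁻¹ Y.val, Matrix.nonsing_inv_mul _ (Y.isUnit.map Matrix.detMonoidHom),
        Matrix.one_mul, Matrix.mul_nonsing_inv _ (hAu i₀), Matrix.mul_one] at h2
      show a * _ = _ * a
      simp only [Matrix.mul_assoc]
      exact h2
    have h3 : Y.valᵀ * A j * Y.val = ν • A i₀ := by
      have h1 := congrArg (· * A i₀) hν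
      simpa [Matrix.mul_assoc, Matrix.nonsing_inv_mul _ (hAu i₀)] using h1
    refine ⟨Y, ν, fun h0 => ?_, h3⟩
    have h4 : IsUnit (Y.valᵀ * A j * Y.val).det := by
      rw [Matrix.det_mul, Matrix.det_mul]
      exact (hu.mul (hAu j)).mul (Y.isUnit.map Matrix.detMonoidHom)
    rw [h3, h0, zero_smul] at h4
    exact h4.ne_zero (Matrix.det_eq_zero_of_row_eq_zero ⟨0, by omega⟩ fun _ => rfl)
  choose Y ν hν hY using hY
  let pt : GL (Fin t → Fin d) F := ⟨pureTens fun j => (Y j).val, pureTens fun j => ((Y j)⁻¹).val,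
    by rw [pureTens_mul]; simp [pureTens_one], by rw [pureTens_mul]; simp [pureTens_one]⟩
  set P' := P * glReindex e.symm pt with hP'
  have hsame : tensorWreathSubgroup d t e P' = tensorWreathSubgroup d t e P := by
    have hpt : pt ∈ tensorWreathStandard d t F := Subgroup.subset_closure (Or.inl ⟨Y, fun x y => rfl⟩)
    have hmem : glReindex e.symm pt ∈ (tensorWreathStandard d t F).map (glReindex e.symm).toMonoidHom :=
      ⟨pt, hpt, rfl⟩
    unfold tensorWreathSubgroup
    rw [hP', map_mul]
    refine le_antisymm ?_ ?_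
    · rintro _ ⟨x, hx, rfl⟩
      exact ⟨_, mul_mem (mul_mem hmem hx) (inv_mem hmem), by simp [mul_assoc]⟩
    · rintro _ ⟨x, hx, rfl⟩
      exact ⟨_, mul_mem (mul_mem (inv_mem hmem) hx) hmem, by simp [mul_assoc]⟩
  set A₀ := A i₀
  obtain ⟨c', hc', hG'⟩ : ∃ c' : F, c' ≠ 0 ∧ gC e P' = c' • pureTens fun _ : Fin t => A₀ := by
    refine ⟨c * ∏ j, ν j, mul_ne_zero hc0 (Finset.prod_ne_zero_iff.2 fun j _ => hν j), ?_⟩
    have h1 : gC e P' = (pt.val)ᵀ * gC e P * pt.val := by
      have h2 : (glReindex e.symm pt).val = pt.val.submatrix e e := rfl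
      simp only [gC, hP', Units.val_mul, Matrix.transpose_mul, h2, Matrix.transpose_submatrix]
      rw [show pt.valᵀ.submatrix e e * P.valᵀ * Matrix.J (Fin m) F * (P.val * pt.val.submatrix e e) =
        pt.valᵀ.submatrix e e * (P.valᵀ * Matrix.J (Fin m) F * P.val) * pt.val.submatrix e e by
          simp only [Matrix.mul_assoc], ← Matrix.submatrix_mul_equiv _ _ e.symm e.symm e.symm,
        ← Matrix.submatrix_mul_equiv _ _ e.symm e.symm e.symm]
      simp
    rw [h1, hG, Matrix.mul_smul, Matrix.smul_mul, show pt.val = pureTens fun j => (Y j).val from rfl,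
      pureTens_transpose, pureTens_mul, pureTens_mul, mul_smul, ← pureTens_smul]
    exact congrArg (fun z => c • pureTens z) (funext hY)
  have hA0u : IsUnit A₀.det := hAu i₀
  have hprod : ε i₀ ^ t = -1 := by
    have h1 := gC_transpose e P'
    rw [hG', Matrix.transpose_smul, pureTens_transpose,
      show (fun _ : Fin t => A₀ᵀ) = fun _ : Fin t => ε i₀ • A₀ from funext fun _ => hε i₀, pureTens_smul,
      Finset.prod_const, Finset.card_univ, Fintype.card_fin, smul_smul, ← neg_smul] at h1
    by_contra hne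
    have h2 : c' * ε i₀ ^ t - -c' ≠ 0 := fun h => hne (mul_left_cancel₀ hc' (by linear_combination h))
    have h3 : (pureTens fun _ : Fin t => A₀) = 0 := by
      have := sub_eq_zero.2 h1
      rw [← sub_smul, smul_eq_zero_iff_right h2] at this
      exact this
    have h4 := (pureTens_inv (A := fun _ : Fin t => A₀) fun _ => hA0u).1
    rw [h3, Matrix.zero_mul] at h4
    simpa using congrFun (congrFun h4 fun _ => ⟨0, by omega⟩) fun _ => ⟨0, by omega⟩
  have hεε : ε i₀ * ε i₀ = 1 := by
    have h1 := congrArg Matrix.transpose (hε i₀)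
    rw [Matrix.transpose_transpose, Matrix.transpose_smul, hε, smul_smul] at h1
    obtain ⟨i, j, hij⟩ : ∃ i j, A₀ i j ≠ 0 := by
      by_contra hne
      push Not at hne
      exact hA0u.ne_zero (by rw [show A₀ = 0 from Matrix.ext hne]; exact Matrix.det_eq_zero_of_row_eq_zero ⟨0, by omega⟩ fun _ => rfl)
    have h3 := congrFun (congrFun h1 i) j
    rw [Matrix.smul_apply, smul_eq_mul] at h3
    exact (mul_eq_right₀ hij).1 h3.symm
  by_cases h2 : (2 : F) = 0
  · right
    have hone : ε i₀ = 1 := by
      have h1 : (ε i₀ - 1) * (ε i₀ - 1) = 0 := by linear_combination hεε - (ε i₀ - 1) * h2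
      exact sub_eq_zero.1 (mul_self_eq_zero.1 h1)
    have hAs : A₀ᵀ = A₀ := by rw [hε, hone, one_smul]
    have hdiag : ∀ b, A₀ b b = 0 := fun b => by
      have h1 := gC_diag e P' fun _ => b
      rw [hG'] at h1
      simpa [pureTens, hc', show t ≠ 0 by omega] using h1
    let U0 : Matrix (Fin d) (Fin d) F := Matrix.of fun i j => if i < j then A₀ i j else 0
    have hU0 : U0 + U0ᵀ = A₀ := by
      refine Matrix.ext fun i j => ?_
      simp only [U0, Matrix.add_apply, Matrix.transpose_apply, Matrix.of_apply]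
      rcases lt_trichotomy i j with h | h | h
      · simp [h, h.asymm]
      · subst h; simp [hdiag i]
      · simp [h, h.asymm, show A₀ j i = A₀ i j from congrFun (congrFun hAs i) j]
    let i₁ : Fin t := ⟨1, by omega⟩
    refine quad_coord e P' h2 hH (U := c' • pureTens (Function.update (fun _ => A₀) i₀ U0)) ?_
      (S := Set.range (pureVec (F := F) (t := t) (d := d))) ?_ ?_ ?_
    · rw [hG', Matrix.transpose_smul, pureTens_transpose, ← smul_add]
      congr 1
      refine Matrix.ext fun x y => ?_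
      have hsplit : ∀ Z : Matrix (Fin d) (Fin d) F, (∏ i, Function.update (fun _ => A₀) i₀ Z i (x i) (y i)) =
          Z (x i₀) (y i₀) * ∏ i ∈ Finset.univ.erase i₀, A₀ (x i) (y i) := fun Z => by
        rw [← Finset.mul_prod_erase _ _ (Finset.mem_univ i₀), Function.update_self]
        congr 1
        exact Finset.prod_congr rfl fun i hi => by rw [Function.update_of_ne (Finset.ne_of_mem_erase hi)]
      have htr : (fun i => (Function.update (fun _ => A₀) i₀ U0 i)ᵀ) = Function.update (fun _ => A₀) i₀ U0ᵀ := by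
        funext i
        rcases eq_or_ne i i₀ with rfl | hi
        · simp
        · simp [hi, hAs]
      rw [htr]
      simp only [Matrix.add_apply, pureTens, Matrix.of_apply, hsplit]
      rw [← add_mul, ← Matrix.add_apply, hU0]
      exact (Finset.mul_prod_erase Finset.univ (fun i => A₀ (x i) (y i)) (Finset.mem_univ i₀))
    · intro b
      refine ⟨fun i => Pi.single (b i) 1, funext fun x => ?_⟩
      by_cases hx : x = b
      · subst hx; simp [pureVec]
      · obtain ⟨i, hi⟩ := Function.ne_iff.1 hx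
        rw [Pi.single_eq_of_ne hx, pureVec]
        exact Finset.prod_eq_zero (Finset.mem_univ i) (Pi.single_eq_of_ne hi _)
    · rintro _ ⟨u, rfl⟩
      rw [Matrix.smul_mulVec, dotProduct_smul, pureTens_mulVec, pureVec_dot]
      rw [Finset.prod_eq_zero (Finset.mem_univ i₁) ?_, smul_zero]
      rw [Function.update_of_ne (by simp [i₀, i₁, Fin.ext_iff]), ← hU0, Matrix.add_mulVec, dotProduct_add,
        ← formOfGram_mat U0ᵀ, formOfGram_swap, Matrix.transpose_transpose, formOfGram_mat]
      linear_combination (u i₁ ⬝ᵥ U0 *ᵥ u i₁) * h2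
    · rintro g hg _ ⟨u, rfl⟩
      have h3 := hM.stab hg
      rw [← hsame] at h3
      obtain ⟨_, ⟨x, hx, rfl⟩, rfl⟩ := h3
      obtain ⟨u', hu'⟩ := wreath_pureVec hx u
      refine ⟨_, ⟨u', rfl⟩, ?_⟩
      show (P' * glReindex e.symm x * P'⁻¹).val *ᵥ _ = _
      rw [tm_glReindex, tm_act, hu']
  left
  have hε' : ε i₀ = -1 := by
    rcases mul_self_eq_one_iff.1 hεε with h | h
    · rw [h, one_pow] at hprod
      exact absurd (show (2 : F) = 0 by linear_combination hprod) h2
    · exact h
  have hskew : A₀ᵀ = -A₀ := by rw [hε, hε', neg_one_smul]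
  have hto : Odd t := by
    by_contra hne
    rw [hε', (Nat.not_odd_iff_even.1 hne).neg_one_pow] at hprod
    exact h2 (by linear_combination hprod)
  have hsymp := symp_formOfGram h2 hA0u hskew
  have hodd : Odd (Fintype.card F) := odd_card_of_two_ne_zero h2
  refine ⟨d, t, e, P', formOfGram id A₀, hodd, hto, ?_, hd, ?_, ?_, hsymp,
    ⟨c', hc', fun x y => ?_⟩, hsame ▸ hM.stab⟩
  · rcases hto with ⟨s, hs⟩; omega
  · by_contra hne
    exact not_alt_odd (f := formOfGram id A₀) (by rw [Fintype.card_fin]; exact Nat.not_even_iff_odd.1 hne)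
      hsymp.bilinear hsymp.alternating hsymp.nondegenerate
  · rintro ⟨hq, rfl⟩
    -- the factors would be perfect subgroups of `GL(2, 3)`
    have hGL : Nat.card (GL (Fin 2) F) < 60 := by
      rw [Matrix.card_GL_field, Fin.prod_univ_two, hq]; norm_num
    let ψ : GL (Fin 2) F →* GL (Ix m) F := Units.map
      { toFun := fun a => tm e P (powStd i₀ a)
        map_one' := by rw [powStd_one, tm_one]
        map_mul' := fun a b => by rw [← powStd_mul, tm_mul] }
    have hψ : Function.Injective ψ := fun a b h => Units.ext (hinj i₀ (congrArg Units.val h))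
    have hsub : M i₀ ≤ ψ.range := fun x hx => by
      obtain ⟨a, ha⟩ := (hM.span i₀ _).1 (Algebra.subset_adjoin (mem_matrixSet hx))
      obtain ⟨b, hb⟩ := (hM.span i₀ _).1 (Algebra.subset_adjoin (mem_matrixSet (inv_mem hx)))
      rw [powEmb_eq_tm] at ha hb
      have h1 : a * b = 1 := hinj i₀ (by
        show tm e P _ = tm e P _
        rw [← powStd_mul, tm_mul, ← ha, ← hb, ← Units.val_mul, mul_inv_cancel, powStd_one, tm_one, Units.val_one])
      exact ⟨⟨a, b, h1, mul_eq_one_comm.1 h1⟩, Units.ext ha.symm⟩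
    have hK : M i₀ = ((M i₀).comap ψ).map ψ := by rw [Subgroup.map_comap_eq, inf_eq_right.2 hsub]
    have htriv : M i₀ = ⊥ := by
      rw [hK, perfect_trivial hGL ((M i₀).comap ψ) ?_, Subgroup.map_bot]
      refine Subgroup.map_injective hψ ?_
      rw [Subgroup.map_commutator, ← hK, hM.perfect]
    have h1 := (hM.span i₀ _).2 ⟨Matrix.single 0 1 1, rfl⟩
    have h3 : adj (M i₀) ≤ ⊥ := Algebra.adjoin_le (by
      rintro _ ⟨x, hx, rfl⟩
      rw [htriv, SetLike.mem_coe, Subgroup.mem_bot] at hx
      rw [hx]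
      exact one_mem _)
    obtain ⟨r, hr⟩ := Algebra.mem_bot.1 (h3 h1)
    have h4 : Matrix.single (0 : Fin 2) (1 : Fin 2) (1 : F) = r • 1 := hinj i₀ (by
      show tm e P _ = tm e P _
      rw [← powEmb_eq_tm, ← hr, show powStd i₀ (r • (1 : Matrix (Fin 2) (Fin 2) F)) = r • powStd i₀ 1 from
        (powStdLin i₀).map_smul _ _, powStd_one, tm_smul, tm_one, Algebra.algebraMap_eq_smul_one])
    simpa using congrFun (congrFun h4 0) 1
  · rw [gram_formOfGram, coord_form, hG', ← formOfGram_mat]
    simp only [formOfGram, pureTens, Matrix.smul_apply, Matrix.of_apply, smul_eq_mul, id, Finset.mul_sum]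
    exact Finset.sum_congr rfl fun _ _ => Finset.sum_congr rfl fun _ _ => by ring

end Cfsg.Lib.Linear.AschSp
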