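import Cfsg.Agent.Lib.Linear.AschSp.Simple
import Cfsg.Agent.Lib.Linear.AschGen.Six

/-!
# Normal subgroups of symplectic type in a group of isometries
-/

set_option autoImplicit false
set_option linter.unusedSectionVars false
set_option linter.style.haveILetI false

namespace Cfsg.Lib.Linear.AschSp

open Cfsg.Geo Cfsg.Lib.Linear Cfsg.Lib.Linear.Asch
open Cfsg.Lib.Linear.AschGen (Six)
open scoped Matrix MatrixGroups commutatorElement

variable {m : ℕ} {F : Type*} [Field F] {H R : Subgroup (GL (Ix m) F)}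

theorem scalar_sign (hm : 0 < m) {g : GL (Ix m) F} (hg : g ∈ Cfsg.spGL m F) (hs : g ∈ scalars (Ix m) F) :
    g.val = 1 ∨ g.val = -1 := by
  obtain ⟨c, hc⟩ := (mem_scalars_iff g).1 hs
  obtain ⟨x, hx⟩ := (sp_nondeg (Pi.single (Sum.inl ⟨0, hm⟩) (1 : F)) (by simp)).1
  have h1 := mem_spGL.1 hg x (Pi.single (Sum.inl ⟨0, hm⟩) (1 : F))
  rw [hc, Matrix.smul_mulVec, Matrix.smul_mulVec, Matrix.one_mulVec, Matrix.one_mulVec, sp_bilinear.smul_left,
    sp_bilinear.smul_right, ← mul_assoc] at h1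
  rcases mul_self_eq_one_iff.1 ((mul_eq_right₀ hx).1 h1) with h | h
  · exact Or.inl (by rw [hc, h, one_smul])
  · exact Or.inr (by rw [hc, h, neg_one_smul])

theorem adjM_fix_adjoin {S : Set (Matrix (Ix m) (Ix m) F)} (hcomm : ∀ a ∈ S, ∀ b ∈ S, a * b = b * a)
    (hadj : ∀ a ∈ S, adjM a = a) {x : Matrix (Ix m) (Ix m) F} (hx : x ∈ Algebra.adjoin F S) : adjM x = x := by
  induction hx using Algebra.adjoin_induction with
  | mem a ha => exact hadj a ha
  | algebraMap c => exact adjM_algebraMap c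
  | add a b _ _ ha hb => rw [adjM_add, ha, hb]
  | mul a b ha' hb' ha hb =>
    rw [adjM_mul, ha, hb]
    exact Algebra.commute_of_mem_adjoin_of_forall_mem_commute ha' fun c hc =>
      (Algebra.commute_of_mem_adjoin_of_forall_mem_commute hb' fun d hd => hcomm c hc d hd).symm

set_option linter.deprecated false in
/-- Commuting self-adjoint involutions span at most `m` dimensions. -/
theorem finrank_span_invol_le (h2 : (2 : F) ≠ 0) (A : Finset (Matrix (Ix m) (Ix m) F))
    (hcomm : ∀ a ∈ A, ∀ b ∈ A, a * b = b * a) (hadj : ∀ a ∈ A, adjM a = a) (hsq : ∀ a ∈ A, a * a = 1) :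
    Module.finrank F (Submodule.span F (A : Set (Matrix (Ix m) (Ix m) F))) ≤ m := by
  classical
  let R := Algebra.adjoin F (A : Set (Matrix (Ix m) (Ix m) F))
  letI : CommRing R := Algebra.adjoinCommRingOfComm F hcomm
  let g : A → Bool → R := fun a b => (2 : F)⁻¹ • (1 + (if b then 1 else -1 : F) • ⟨a.1, Algebra.subset_adjoin a.2⟩)
  let e : (A → Bool) → R := fun σ => ∏ a, g a (σ a)
  have hA : ∀ a : A, (⟨a.1, Algebra.subset_adjoin a.2⟩ : R) * ⟨a.1, Algebra.subset_adjoin a.2⟩ = 1 :=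
    fun a => Subtype.ext (hsq _ a.2)
  have hsum : ∑ σ, e σ = 1 := by
    show ∑ σ : A → Bool, ∏ a, g a (σ a) = 1
    rw [← Fintype.prod_sum]
    refine Finset.prod_eq_one fun a _ => ?_
    rw [Fintype.sum_bool]
    simp only [g, if_true, Bool.false_eq_true, if_false, one_smul, neg_one_smul, ← smul_add]
    rw [show (1 + (⟨a.1, Algebra.subset_adjoin a.2⟩ : R)) + (1 + -⟨a.1, Algebra.subset_adjoin a.2⟩) =
      (2 : F) • (1 : R) by rw [two_smul]; abel, smul_smul, inv_mul_cancel₀ h2, one_smul]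
  have hmul : ∀ a b, (⟨a.1, Algebra.subset_adjoin a.2⟩ : R) * g a b = (if b then 1 else -1 : F) • g a b := by
    intro a b
    simp only [g, mul_smul_comm, mul_add, mul_one, hA, smul_comm _ ((2 : F)⁻¹)]
    congr 1
    cases b <;> simp <;> abel
  have horth : ∀ σ τ, σ ≠ τ → e σ * e τ = 0 := by
    intro σ τ hne
    obtain ⟨a, ha⟩ := Function.ne_iff.1 hne
    simp only [e, ← Finset.prod_mul_distrib]
    refine Finset.prod_eq_zero (Finset.mem_univ a) ?_
    have key : g a true * g a false = 0 := by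
      simp only [g, if_true, Bool.false_eq_true, if_false, one_smul, neg_one_smul, smul_mul_smul_comm]
      rw [show (1 + (⟨a.1, Algebra.subset_adjoin a.2⟩ : R)) * (1 + -⟨a.1, Algebra.subset_adjoin a.2⟩) =
        1 - ⟨a.1, Algebra.subset_adjoin a.2⟩ * ⟨a.1, Algebra.subset_adjoin a.2⟩ by ring, hA, sub_self, smul_zero]
    cases h1 : σ a <;> cases h3 : τ a
    · exact absurd (h1.trans h3.symm) ha
    · rw [mul_comm]; exact key
    · exact key
    · exact absurd (h1.trans h3.symm) ha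
  have hspan : Submodule.span F (A : Set (Matrix (Ix m) (Ix m) F)) ≤
      Submodule.span F ((fun σ => (e σ : Matrix (Ix m) (Ix m) F)) '' {σ | e σ ≠ 0}) := by
    rw [Submodule.span_le]
    intro a ha
    have h1 : (⟨a, Algebra.subset_adjoin ha⟩ : R) = ∑ σ, (if σ ⟨a, ha⟩ then 1 else -1 : F) • e σ := by
      rw [← mul_one (⟨a, Algebra.subset_adjoin ha⟩ : R), ← hsum, Finset.mul_sum]
      refine Finset.sum_congr rfl fun σ _ => ?_
      show _ * ∏ b, g b (σ b) = _ • ∏ b, g b (σ b)
      rw [← Finset.mul_prod_erase _ _ (Finset.mem_univ (⟨a, ha⟩ : A)), ← mul_assoc, hmul ⟨a, ha⟩, smul_mul_assoc]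
    have h3 := congrArg (fun x : R => (x : Matrix (Ix m) (Ix m) F)) h1
    simp only [AddSubmonoidClass.coe_finsetSum, Subalgebra.coe_smul] at h3
    rw [SetLike.mem_coe, h3]
    refine Submodule.sum_mem _ fun σ _ => Submodule.smul_mem _ _ ?_
    by_cases hσ : e σ = 0
    · rw [hσ]; exact zero_mem _
    · exact Submodule.subset_span ⟨σ, hσ, rfl⟩
  let T := {σ // e σ ≠ 0}
  have hv : ∀ σ : T, ∃ v, (e σ.1 : Matrix (Ix m) (Ix m) F) *ᵥ v ≠ 0 := fun σ => by
    by_contra hne
    push Not at hne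
    exact σ.2 (Subtype.ext (Matrix.ext_of_mulVec_single fun i => by rw [hne, ZeroMemClass.coe_zero, Matrix.zero_mulVec]))
  choose v hv using hv
  let w : T → (Ix m → F) := fun σ => (e σ.1 : Matrix (Ix m) (Ix m) F) *ᵥ v σ
  have hidem : ∀ σ, e σ * e σ = e σ := fun σ => by
    calc e σ * e σ = ∑ τ, e σ * e τ :=
          (Finset.sum_eq_single σ (fun τ _ hτ => horth σ τ hτ.symm) (fun h => absurd (Finset.mem_univ _) h)).symm
      _ = e σ := by rw [← Finset.mul_sum, hsum, mul_one]
  have hew : ∀ σ τ : T, (e σ.1 : Matrix (Ix m) (Ix m) F) *ᵥ w τ = if σ = τ then w τ else 0 := by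
    intro σ τ
    simp only [w, Matrix.mulVec_mulVec, ← Subalgebra.coe_mul]
    split_ifs with h
    · subst h; rw [hidem]
    · rw [horth _ _ fun h' => h (Subtype.ext h'), ZeroMemClass.coe_zero, Matrix.zero_mulVec]
  have hli : LinearIndependent F w := by
    rw [Fintype.linearIndependent_iff]
    intro c hc σ
    have h1 := congrArg ((e σ.1 : Matrix (Ix m) (Ix m) F) *ᵥ ·) hc
    simp only [Matrix.mulVec_sum, Matrix.mulVec_smul, hew, smul_ite, smul_zero, Matrix.mulVec_zero] at h1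
    rw [Finset.sum_eq_single σ (fun τ _ hτ => if_neg (Ne.symm hτ)) (fun h => absurd (Finset.mem_univ _) h),
      if_pos rfl] at h1
    exact (smul_eq_zero.1 h1).resolve_right (hv σ)
  have hts : Submodule.span F (Set.range w) ≤ perp (Submodule.span F (Set.range w)) := by
    rw [Submodule.span_le]
    rintro _ ⟨τ, rfl⟩
    rw [SetLike.mem_coe, mem_perp]
    intro x hx
    induction hx using Submodule.span_induction with
    | mem x hx =>
      obtain ⟨σ, rfl⟩ := hx
      rcases eq_or_ne σ τ with rfl | h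
      · exact sp_alt _
      · show Cfsg.sympForm m F ((e σ.1 : Matrix (Ix m) (Ix m) F) *ᵥ v σ) (w τ) = 0
        rw [adjM_spec, adjM_fix_adjoin hcomm hadj (e σ.1).2, hew, if_neg h]
        simp [Cfsg.sympForm]
    | zero => simp [Cfsg.sympForm]
    | add a b _ _ ha hb => rw [sp_bilinear.add_left, ha, hb, add_zero]
    | smul c a _ ha => rw [sp_bilinear.smul_left, ha, mul_zero]
  have h1 := finrank_perp (Submodule.span F (Set.range w))
  have h3 := Submodule.finrank_mono hts
  rw [finrank_span_eq_card hli] at h1 h3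
  have h4 : Module.finrank F (Submodule.span F ((fun σ => (e σ : Matrix (Ix m) (Ix m) F)) '' {σ | e σ ≠ 0})) ≤
      Fintype.card T := by
    rw [Set.image_eq_range]
    exact finrank_range_le_card (R := F) fun σ : T => (e σ.1 : Matrix (Ix m) (Ix m) F)
  exact le_trans (Submodule.finrank_mono hspan) (le_trans h4 (by omega))

/-- Data of a member of class six. -/
def SixMember [Fintype F] (H : Subgroup (GL (Ix m) F)) : Prop :=
  ∃ (R : Subgroup (GL (Ix m) F)) (p k : ℕ), IsSymplecticTypeGroup 2 R ∧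
    ActsAbsolutelyIrreducibly (matrixSet R) ∧ R ≤ similarityGroup (Cfsg.sympForm m F) ∧
    (R ≤ Cfsg.spGL m F ∧ (∀ x ∈ R, x ^ 4 = 1) ∧ (∀ x ∈ R, x ^ 2 ∈ scalars (Ix m) F) ∧
      ∀ x ∈ R, ∀ y ∈ R, ⁅x, y⁆ ∈ scalars (Ix m) F) ∧ p.Prime ∧ Odd p ∧
    Fintype.card F = p ∧ Nat.card R = 2 ^ (1 + 2 * k) ∧ Nat.card (Subgroup.center R) = 2 ∧ IsOfMinusType k R ∧
    2 * m = 2 ^ k ∧ H ≤ subgroupNormalizer R

/-- An absolutely irreducible group of isometries of order `2^(1+2k)` with centre of order two in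
dimension `2^k` is of minus type. -/
theorem minus_of_card [Fintype F] (hm : 0 < m) (h2 : (2 : F) ≠ 0) (hR : R ≤ Cfsg.spGL m F)
    (habs : ActsAbsolutelyIrreducibly (matrixSet R)) {k : ℕ} (hcardR : Nat.card R = 2 ^ (1 + 2 * k))
    (hZ2 : Nat.card (Subgroup.center R) = 2) (hdim : 2 * m = 2 ^ k) : IsOfMinusType k R := by
  classical
  haveI : Nonempty (Ix m) := ⟨Sum.inl ⟨0, hm⟩⟩
  have hzs : ∀ z : Subgroup.center R, (z.1 : GL (Ix m) F).val = 1 ∨ (z.1 : GL (Ix m) F).val = -1 := fun z =>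
    scalar_sign hm (hR z.1.2) (absIrr_center habs fun y hy =>
      (congrArg (fun g : R => (g : GL (Ix m) F)) (Subgroup.mem_center_iff.1 z.2 ⟨y, hy⟩)).symm)
  intro A hA hA2
  let B : Finset (Matrix (Ix m) (Ix m) F) :=
    (Set.toFinite ((fun a : R => (a : GL (Ix m) F).val) '' (A : Set R))).toFinset
  have hB : ∀ {b}, b ∈ B → ∃ a ∈ A, (a : GL (Ix m) F).val = b := fun hb => by
    simpa [B, and_comm] using hb
  have hcomm : ∀ a ∈ B, ∀ b ∈ B, a * b = b * a := by
    intro a ha b hb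
    obtain ⟨a, ha', rfl⟩ := hB ha
    obtain ⟨b, hb', rfl⟩ := hB hb
    have h1 : (⟨a, ha'⟩ : A) * ⟨b, hb'⟩ = ⟨b, hb'⟩ * ⟨a, ha'⟩ := hA.is_comm.comm _ _
    exact congrArg (fun x : A => ((x : R) : GL (Ix m) F).val) h1
  have hinv : ∀ a ∈ A, ((a : GL (Ix m) F))⁻¹ = a := fun a ha =>
    inv_eq_of_mul_eq_one_right (congrArg (fun x : R => (x : GL (Ix m) F)) (hA2 a ha))
  have hle := finrank_span_invol_le h2 B hcomm (fun b hb => by
      obtain ⟨a, ha, rfl⟩ := hB hb
      rw [adjM_of_mem (hR a.2), hinv a ha])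
    (fun b hb => by
      obtain ⟨a, ha, rfl⟩ := hB hb
      exact congrArg (fun x : R => (x : GL (Ix m) F).val) (hA2 a ha))
  -- representatives modulo the centre are linearly independent
  let Z := Subgroup.center R
  let rep : R ⧸ Z → Matrix (Ix m) (Ix m) F := fun q => (q.out : GL (Ix m) F).val
  letI : Fintype (R ⧸ Z) := Fintype.ofFinite _
  have hrep : ∀ x : R, ∃ c : F, (x : GL (Ix m) F).val = c • rep (QuotientGroup.mk x) := by
    intro x
    obtain ⟨z, hz⟩ := QuotientGroup.mk_out_eq_mul Z x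
    have hx : (x : GL (Ix m) F).val = ((QuotientGroup.mk x : R ⧸ Z).out : GL (Ix m) F).val *
        (((z : R) : GL (Ix m) F)⁻¹).val := by
      rw [hz, Subgroup.coe_mul, ← Units.val_mul, mul_inv_cancel_right]
    rcases hzs ⟨(z : R)⁻¹, inv_mem z.2⟩ with h | h
    · exact ⟨1, by rw [one_smul, hx, show (((z : R) : GL (Ix m) F)⁻¹).val = 1 from h, Matrix.mul_one]⟩
    · exact ⟨-1, by rw [neg_one_smul, hx, show (((z : R) : GL (Ix m) F)⁻¹).val = -1 from h, mul_neg, mul_one]⟩
  have hli : LinearIndependent F rep := by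
    refine linearIndependent_of_top_le_span_of_card_eq_finrank ?_ ?_
    · rw [← span_eq_top habs, Submodule.span_le]
      rintro _ ⟨x, hx, rfl⟩
      obtain ⟨c, hc⟩ := hrep ⟨x, hx⟩
      show x.val ∈ _
      rw [show x.val = _ from hc]
      exact Submodule.smul_mem _ _ (Submodule.subset_span ⟨_, rfl⟩)
    · have h1 := Subgroup.card_eq_card_quotient_mul_card_subgroup Z
      rw [show Nat.card Z = 2 from hZ2, hcardR, add_comm 1, pow_succ, Nat.card_eq_fintype_card (α := R ⧸ Z)] at h1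
      rw [Module.finrank_matrix, Module.finrank_self, mul_one, card_ix, hdim, ← pow_add, ← two_mul]
      omega
  let AZ : Finset (R ⧸ Z) := Finset.univ.filter fun q => ∃ a ∈ A, QuotientGroup.mk a = q
  have h1 : AZ.card ≤ Module.finrank F (Submodule.span F (B : Set (Matrix (Ix m) (Ix m) F))) := by
    have hli' : LinearIndependent F fun q : AZ => rep q.1 := hli.comp _ Subtype.val_injective
    rw [← Fintype.card_coe AZ, ← finrank_span_eq_card hli']
    refine Submodule.finrank_mono ?_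
    rw [Submodule.span_le]
    rintro _ ⟨⟨q, hq⟩, rfl⟩
    obtain ⟨a, ha, rfl⟩ := (Finset.mem_filter.1 hq).2
    obtain ⟨c, hc⟩ := hrep a
    have hc0 : c ≠ 0 := fun h0 => (a : GL (Ix m) F).ne_zero (by rw [hc, h0, zero_smul])
    show rep _ ∈ _
    rw [show rep (QuotientGroup.mk a) = c⁻¹ • (a : GL (Ix m) F).val by
      rw [hc, smul_smul, inv_mul_cancel₀ hc0, one_smul]]
    exact Submodule.smul_mem _ _ (Submodule.subset_span ((Set.Finite.mem_toFinset _).2 ⟨a, ha, rfl⟩))
  have h3 : Nat.card A ≤ AZ.card * 2 := by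
    let φ : A → AZ := fun a => ⟨QuotientGroup.mk (a : R), Finset.mem_filter.2 ⟨Finset.mem_univ _, a, a.2, rfl⟩⟩
    letI : Fintype A := Fintype.ofFinite A
    rw [Nat.card_eq_fintype_card, ← Finset.card_univ, ← Fintype.card_coe AZ, ← Finset.card_univ (α := AZ), mul_comm]
    refine Finset.card_le_mul_card_image_of_maps_to (f := φ) (fun a _ => Finset.mem_univ _) 2 fun q _ => ?_
    rw [← Fintype.card_coe, ← Nat.card_eq_fintype_card, ← hZ2]
    by_cases hne : (Finset.univ.filter fun a => φ a = q).Nonempty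
    · obtain ⟨a₀, ha₀⟩ := hne
      have hmem : ∀ a : {a // a ∈ Finset.univ.filter fun a => φ a = q}, (a₀ : R)⁻¹ * (a.1 : R) ∈ Z := fun a =>
        QuotientGroup.eq.1 (congrArg Subtype.val
          ((Finset.mem_filter.1 ha₀).2.trans (Finset.mem_filter.1 a.2).2.symm))
      refine Nat.card_le_card_of_injective (fun a => (⟨_, hmem a⟩ : Z)) fun a b hab => ?_
      exact Subtype.ext (Subtype.ext (mul_left_cancel (congrArg Subtype.val hab)))
    · rw [Finset.not_nonempty_iff_eq_empty.1 hne]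
      simp
  have h4 : (2 : ℕ) ^ (k + 1) = 2 * (2 * m) := by rw [hdim, pow_succ']
  omega

/-- A normal subgroup of symplectic type gives a member of class five or six. -/
theorem six_cases [Fintype F] (hm : 0 < m) (hH : H ≤ Cfsg.spGL m F) {r k : ℕ} (h6 : Six H R r k) :
    (∃ (F₁ : Subfield F) (r : ℕ) (P : GL (Ix m) F) (ζ : F), F₁ ≠ ⊤ ∧ r.Prime ∧
      Fintype.card F = Nat.card F₁ ^ r ∧ ζ ≠ 0 ∧ IsFormRationalStructure (Cfsg.sympForm m F) F₁ ζ P ∧
      H ≤ subfieldSubgroup F₁ P) ∨ SixMember H := by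
  classical
  haveI : Nonempty (Ix m) := ⟨Sum.inl ⟨0, hm⟩⟩
  have hR : R ≤ Cfsg.spGL m F := h6.sub.le.trans hH
  have hr2 : 2 ≤ r := h6.symp.prime.two_le
  let toSign : Subgroup.center R → Bool := fun z => decide ((z.1 : GL (Ix m) F).val = 1)
  have hzs : ∀ z : Subgroup.center R, (z.1 : GL (Ix m) F).val = 1 ∨ (z.1 : GL (Ix m) F).val = -1 := fun z =>
    scalar_sign hm (hR z.1.2) (Subgroup.mem_subgroupOf.1 (h6.center_eq.le z.2))
  have hle2 : Nat.card (Subgroup.center R) ≤ 2 := by
    have hinj : Function.Injective toSign := fun a b hab => by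
      simp only [toSign, decide_eq_decide] at hab
      refine Subtype.ext (Subtype.ext (Units.ext ?_))
      rcases hzs a with ha | ha
      · rw [ha, hab.1 ha]
      · rcases hzs b with hb | hb
        · rw [hb, hab.2 hb]
        · rw [ha, hb]
    simpa using Nat.card_le_card_of_injective toSign hinj
  obtain ⟨rfl, hZ2⟩ : r = 2 ∧ Nat.card (Subgroup.center R) = 2 := by
    rcases h6.center_card with ⟨ho, hc⟩ | ⟨hr, hc | hc⟩
    · obtain ⟨j, hj⟩ := ho; omega
    · exact ⟨hr, hc⟩
    · omega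
  have h2 : (2 : F) ≠ 0 := by exact_mod_cast h6.char_ne
  have hodd : Odd (Fintype.card F) := odd_card_of_two_ne_zero h2
  have hnc : ∀ x ∈ R, x ∉ scalars (Ix m) F → ∃ y ∈ R, y.val * x.val * (y⁻¹).val = -x.val := by
    intro x hx hxs
    obtain ⟨y, hy, hyx⟩ : ∃ y ∈ R, x * y ≠ y * x := by
      by_contra hne
      push Not at hne
      exact hxs (absIrr_center h6.absIrr hne)
    have hc : ⁅y, x⁆ ∈ scalars (Ix m) F := h6.comm_scalar (Subgroup.commutator_mem_commutator hy hx)
    have he : y * x * y⁻¹ = ⁅y, x⁆ * x := by rw [commutatorElement_def]; group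
    refine ⟨y, hy, ?_⟩
    rw [← Units.val_mul, ← Units.val_mul, he, Units.val_mul]
    rcases scalar_sign hm (mul_mem (mul_mem (mul_mem (hR hy) (hR hx)) (inv_mem (hR hy))) (inv_mem (hR hx))) hc with h | h
    · refine absurd ?_ hyx
      have h1 : ⁅y, x⁆ = 1 := Units.ext h
      exact (commutatorElement_eq_one_iff_mul_comm.1 h1).symm
    · rw [show (⁅y, x⁆ : GL (Ix m) F).val = -1 from h, neg_one_mul]
  let F₀ : Subfield F := ⊥
  have htr : ∀ x ∈ R, x.val.trace ∈ F₀ := by
    intro x hx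
    by_cases hxs : x ∈ scalars (Ix m) F
    · rcases scalar_sign hm (hR hx) hxs with h | h <;> rw [h]
      · rw [Matrix.trace_one]; exact natCast_mem F₀ _
      · rw [Matrix.trace_neg, Matrix.trace_one]; exact neg_mem (natCast_mem F₀ _)
    · obtain ⟨y, -, hy⟩ := hnc x hx hxs
      have h1 := congrArg Matrix.trace hy
      rw [Matrix.trace_mul_cycle, ← Units.val_mul, inv_mul_cancel, Units.val_one, Matrix.one_mul, Matrix.trace_neg] at h1
      have h3 : x.val.trace = 0 := by
        refine (mul_eq_zero.1 (?_ : (2 : F) * x.val.trace = 0)).resolve_left h2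
        linear_combination h1
      rw [h3]; exact zero_mem _
  by_cases htop : F₀ = ⊤
  swap
  · exact Or.inl (subfield_cases hm hR h6.absIrr h6.sub.normal htop (realisable_of_trace h6.absIrr F₀ htr))
  right
  obtain ⟨p, hp⟩ := CharP.exists F
  haveI := hp
  haveI : Fact p.Prime := ⟨CharP.char_is_prime F p⟩
  have hcard : Fintype.card F = p := by
    have h1 : Nat.card (⊤ : Subfield F) = p := htop ▸ Subfield.card_bot F p
    rw [← h1, ← Nat.card_eq_fintype_card]
    exact Nat.card_congr (Equiv.subtypeUnivEquiv fun _ => trivial).symm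
  have hcardR : Nat.card R = 2 ^ (1 + 2 * k) := by
    rw [h6.card, hZ2, pow_add, pow_one, mul_comm]
  have hdim : 2 * m = 2 ^ k := by rw [← card_ix (m := m), h6.card_eq]
  refine ⟨R, p, k, h6.symp, h6.absIrr, fun g hg => ⟨1, fun u v => by
      rw [Units.val_one, one_mul]; exact mem_spGL.1 (hR hg) u v⟩,
    ⟨hR, fun x hx => by simpa using h6.pow_exp x hx, h6.pow_scalar,
      fun x hx y hy => h6.comm_scalar (Subgroup.commutator_mem_commutator hx hy)⟩,
    Fact.out, hcard ▸ hodd, hcard, hcardR, hZ2, minus_of_card hm h2 hR h6.absIrr hcardR hZ2 hdim, hdim,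
    fun h hh => ?_⟩
  rw [subgroupNormalizer, Subgroup.mem_normalizer_iff]
  intro x
  refine ⟨fun hx => h6.sub.normal h hh x hx, fun hx => ?_⟩
  have h1 := h6.sub.normal h⁻¹ (inv_mem hh) _ hx
  simpa [mul_assoc] using h1

end Cfsg.Lib.Linear.AschSp
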