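import Cfsg.Agent.Lib.Linear.AschSp.Field

/-!
# Subfields of prime degree
-/

set_option autoImplicit false
set_option linter.unusedSectionVars false
set_option linter.style.haveILetI false

namespace Cfsg.Lib.Linear.AschSp

open Cfsg.Geo Cfsg.Lib.Linear Cfsg.Lib.Linear.Asch
open scoped Matrix MatrixGroups

variable {m : ℕ} {F : Type*} [Field F]

/-- Every prime divisor of the degree of a field of matrices is the degree of a subfield, which is
stable under every semilinear bijection of the field that respects powers. -/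
theorem exists_prime_subfield [Fintype F] {ι : Type} [Fintype ι] [DecidableEq ι] [Nonempty ι]
    {s r : ℕ} {K : Subalgebra F (Matrix ι ι F)} (hK : IsFieldSubalgebra s K) (hr : r.Prime) (hrs : r ∣ s) :
    ∃ K' : Subalgebra F (Matrix ι ι F), K' ≤ K ∧ IsFieldSubalgebra r K' ∧
      ∀ x ∈ K, x ∈ K' ↔ x ^ (Fintype.card F ^ r) = x := by
  classical
  letI : CommRing K := { (inferInstance : Ring K) with mul_comm := fun a b => Subtype.ext (hK.comm _ a.2 _ b.2) }
  haveI : Nontrivial K := ⟨⟨0, 1, fun h => zero_ne_one (congrArg Subtype.val h)⟩⟩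
  haveI : Finite (Matrix ι ι F) := inferInstanceAs (Finite (ι → ι → F))
  have hfield : IsField K :=
    { exists_pair_ne := ⟨0, 1, zero_ne_one⟩
      mul_comm := mul_comm
      mul_inv_cancel := fun {a} ha => by
        obtain ⟨y, hy, hay⟩ := hK.inv a a.2 fun h => ha (Subtype.ext h)
        exact ⟨⟨y, hy⟩, Subtype.ext hay⟩ }
  letI : Field K := hfield.toField
  set q := Fintype.card F with hq
  let φ : K →ₐ[F] K := FiniteField.frobeniusAlgHom F K
  have hpowφ : ∀ (j : ℕ) (x : K), (φ ^ j) x = x ^ q ^ j := by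
    intro j x
    induction j with
    | zero => simp
    | succ j ih =>
      rw [pow_succ', AlgHom.mul_apply, ih, FiniteField.coe_frobeniusAlgHom]
      show (x ^ q ^ j) ^ q = x ^ q ^ (j + 1)
      rw [← pow_mul, pow_succ]
  have hφ := hpowφ r
  let S : Subalgebra F K := AlgHom.equalizer (φ ^ r) (AlgHom.id F K)
  refine ⟨S.map K.val, ?_, ⟨?_, ?_, ?_⟩, fun x hx => ?_⟩
  · rintro _ ⟨x, -, rfl⟩
    exact x.2
  · rintro _ ⟨x, -, rfl⟩ _ ⟨y, -, rfl⟩
    exact hK.comm _ x.2 _ y.2
  · rintro _ ⟨x, hx, rfl⟩ hne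
    have hx0 : x ≠ 0 := fun h => hne (by rw [h, map_zero])
    refine ⟨_, ⟨x⁻¹, ?_, rfl⟩, ?_⟩
    · show (φ ^ r) x⁻¹ = x⁻¹
      rw [map_inv₀, show (φ ^ r) x = x from hx]
    · rw [← map_mul, mul_inv_cancel₀ hx0, map_one]
  · have hq1 : 1 < q := Fintype.one_lt_card
    haveI : Finite K := inferInstance
    let e : S ≃ₗ[F] (S.map K.val) := (S.equivMapOfInjective K.val Subtype.val_injective).toLinearEquiv
    rw [← e.finrank_eq]
    have hKc : Nat.card K = q ^ s := by
      rw [Module.natCard_eq_pow_finrank (K := F), Nat.card_eq_fintype_card, hK.finrank_eq]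
    have hker : Nat.card (powMonoidHom (q ^ r - 1) : Kˣ →* Kˣ).ker = q ^ r - 1 := by
      haveI : IsCyclic Kˣ := inferInstance
      rw [IsCyclic.card_powMonoidHom_ker, Nat.card_units, hKc]
      exact Nat.gcd_eq_right (Nat.pow_sub_one_dvd_pow_sub_one q hrs)
    have hpos : 0 < q ^ r := Nat.pow_pos (by omega)
    have hfix : ∀ x : K, x ∈ S ↔ x ^ q ^ r = x := fun x => by
      show (φ ^ r) x = x ↔ _
      rw [hφ]
    have hS : Nat.card S = q ^ r := by
      let g : Option (powMonoidHom (q ^ r - 1) : Kˣ →* Kˣ).ker → S := fun o =>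
        o.elim 0 fun u => ⟨((u : Kˣ) : K), (hfix _).2 (by
          have h1 : (u : Kˣ) ^ (q ^ r - 1) = 1 := u.2
          calc ((u : Kˣ) : K) ^ q ^ r = ((u : Kˣ) : K) ^ (q ^ r - 1) * ((u : Kˣ) : K) := by
                rw [← pow_succ, Nat.sub_add_cancel hpos]
            _ = ((u : Kˣ) : K) := by rw [← Units.val_pow_eq_pow_val, h1, Units.val_one, one_mul])⟩
      have hg : Function.Bijective g := by
        constructor
        · rintro (_ | u) (_ | v) h
          · rfl
          · exact absurd (congrArg Subtype.val h).symm (v : Kˣ).ne_zero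
          · exact absurd (congrArg Subtype.val h) (u : Kˣ).ne_zero
          · exact congrArg some (Subtype.ext (Units.ext (congrArg Subtype.val h :)))
        · rintro ⟨x, hx⟩
          by_cases h0 : x = 0
          · exact ⟨none, Subtype.ext h0.symm⟩
          · refine ⟨some ⟨Units.mk0 x h0, ?_⟩, Subtype.ext rfl⟩
            show Units.mk0 x h0 ^ (q ^ r - 1) = 1
            refine Units.ext ?_
            rw [Units.val_pow_eq_pow_val, Units.val_mk0, Units.val_one]
            refine mul_right_cancel₀ h0 ?_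
            rw [← pow_succ, Nat.sub_add_cancel hpos, one_mul, (hfix x).1 hx]
      rw [← Nat.card_eq_of_bijective g hg, Finite.card_option, hker]
      omega
    rw [Module.natCard_eq_pow_finrank (K := F), Nat.card_eq_fintype_card] at hS
    exact Nat.pow_right_injective hq1 hS
  · constructor
    · rintro ⟨y, hy, rfl⟩
      have h1 : y ^ q ^ r = y := by rw [← hφ]; exact hy
      rw [← map_pow, h1]
    · intro h
      refine ⟨⟨x, hx⟩, ?_, rfl⟩
      show (φ ^ r) ⟨x, hx⟩ = ⟨x, hx⟩
      rw [hφ]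
      exact Subtype.ext h

/-- The degree of a self-adjoint alternating field divides half the dimension. -/
theorem selfAdjoint_dvd [Fintype F] {r : ℕ} {K : Subalgebra F (Matrix (Ix m) (Ix m) F)}
    (hK : IsFieldSubalgebra r K) (hsa : IsSelfAdjointFor (Cfsg.sympForm m F) K)
    (halt : ∀ k ∈ K, ∀ v, Cfsg.sympForm m F (k *ᵥ v) v = 0) : r ∣ m := by
  classical
  let good : Submodule F (Ix m → F) → Prop := fun L =>
    L ≤ perp L ∧ (∀ k ∈ K, ∀ v ∈ L, k *ᵥ v ∈ L) ∧ r ∣ Module.finrank F L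
  obtain ⟨L, ⟨hts, hinv, hdvd⟩, hmax⟩ : ∃ L, good L ∧ ∀ L', good L' → Module.finrank F L' ≤ Module.finrank F L := by
    haveI : Finite (Submodule F (Ix m → F)) := Finite.of_injective _ SetLike.coe_injective
    obtain ⟨L, hL, hmax⟩ := Set.exists_max_image {L | good L} (fun L => Module.finrank F L) (Set.toFinite _)
      ⟨⊥, bot_le, fun k _ v hv => by rw [Submodule.mem_bot] at hv; rw [hv, Matrix.mulVec_zero]; exact zero_mem _,
        by simp⟩
    exact ⟨L, hL, hmax⟩
  by_cases heq : L = perp L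
  · have h1 := finrank_perp L
    rw [← heq] at h1
    rwa [show m = Module.finrank F L by omega]
  exfalso
  obtain ⟨v, hv, hvL⟩ := SetLike.exists_of_lt (lt_of_le_of_ne hts heq)
  let ψ : K →ₗ[F] (Ix m → F) :=
    { toFun := fun k => (k : Matrix (Ix m) (Ix m) F) *ᵥ v
      map_add' := fun a b => Matrix.add_mulVec _ _ _
      map_smul' := fun c a => Matrix.smul_mulVec _ _ _ }
  have hv0 : v ≠ 0 := fun h => hvL (h ▸ zero_mem L)
  have hinj : Function.Injective ψ := by
    rw [injective_iff_map_eq_zero]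
    intro k hk
    exact Subtype.ext (field_eq_zero hK k.2 hv0 hk)
  have hdisj : L ⊓ LinearMap.range ψ = ⊥ := by
    rw [eq_bot_iff]
    rintro _ ⟨hx, k, rfl⟩
    by_contra hne
    obtain ⟨y, hy, hky⟩ := hK.inv k k.2 fun h => hne (by
      rw [Submodule.mem_bot]; show (k : Matrix (Ix m) (Ix m) F) *ᵥ v = 0; rw [h, Matrix.zero_mulVec])
    refine hvL ?_
    have h1 := hinv y hy _ hx
    rwa [show ψ k = (k : Matrix (Ix m) (Ix m) F) *ᵥ v from rfl, Matrix.mulVec_mulVec, hK.comm y hy k k.2, hky,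
      Matrix.one_mulVec] at h1
  have hself : ∀ a ∈ L ⊔ LinearMap.range ψ, ∀ b ∈ L ⊔ LinearMap.range ψ, Cfsg.sympForm m F a b = 0 := by
    intro a ha b hb
    obtain ⟨l, hl, _, ⟨k, rfl⟩, rfl⟩ := Submodule.mem_sup.1 ha
    obtain ⟨l', hl', _, ⟨k', rfl⟩, rfl⟩ := Submodule.mem_sup.1 hb
    have h1 : ∀ x ∈ L, ∀ j : K, Cfsg.sympForm m F x (ψ j) = 0 := fun x hx j => by
      show Cfsg.sympForm m F x ((j : Matrix (Ix m) (Ix m) F) *ᵥ v) = 0
      rw [← hsa j j.2]
      exact mem_perp.1 hv _ (hinv j j.2 x hx)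
    rw [sp_bilinear.add_left, sp_bilinear.add_right, sp_bilinear.add_right, mem_perp.1 (hts hl') l hl, h1 l hl k',
      sp_refl (h1 l' hl' k), zero_add, zero_add, zero_add]
    show Cfsg.sympForm m F ((k : Matrix (Ix m) (Ix m) F) *ᵥ v) ((k' : Matrix (Ix m) (Ix m) F) *ᵥ v) = 0
    rw [← hsa k' k'.2, Matrix.mulVec_mulVec]
    exact halt _ (mul_mem k'.2 k.2) v
  have hgood : good (L ⊔ LinearMap.range ψ) := by
    refine ⟨fun x hx => mem_perp.2 fun w hw => hself w hw x hx, fun k hk x hx => ?_, ?_⟩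
    · obtain ⟨l, hl, _, ⟨j, rfl⟩, rfl⟩ := Submodule.mem_sup.1 hx
      rw [Matrix.mulVec_add]
      refine add_mem (Submodule.mem_sup_left (hinv k hk l hl)) (Submodule.mem_sup_right ⟨⟨k, hk⟩ * j, ?_⟩)
      exact (Matrix.mulVec_mulVec v k j.1).symm
    · have h1 := Submodule.finrank_sup_add_finrank_inf_eq L (LinearMap.range ψ)
      rw [hdisj, finrank_bot, add_zero, LinearMap.finrank_range_of_inj hinj, hK.finrank_eq] at h1
      rw [h1]
      exact dvd_add hdvd dvd_rfl
  have h1 := hmax _ hgood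
  have h2 := Submodule.finrank_lt_finrank_of_lt (show L < L ⊔ LinearMap.range ψ from lt_of_le_of_ne le_sup_left
    fun h => hvL (h.symm ▸ Submodule.mem_sup_right ⟨1, Matrix.one_mulVec v⟩))
  omega

end Cfsg.Lib.Linear.AschSp
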