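import Cfsg.Agent.Lib.Linear.AschSp.Tensor
import Cfsg.Agent.Lib.Linear.AschSp.TensorPow
import Cfsg.Agent.Lib.Linear.AschSp.ClassSix
import Cfsg.Agent.Lib.Linear.AschSp.PrimeField
import Cfsg.Agent.Lib.Linear.AschGen.Core

/-!
# The subgroup structure of the symplectic groups
-/

set_option autoImplicit false
set_option linter.unusedSectionVars false
set_option linter.style.haveILetI false

namespace Cfsg.Lib.Linear.AschSp

open Cfsg.Geo Cfsg.Lib.Linear Cfsg.Lib.Linear.Asch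
open scoped Matrix MatrixGroups

variable {m : ℕ} {F : Type*} [Field F] {H : Subgroup (GL (Ix m) F)}

/-- The ways in which a group of isometries of the standard symplectic form can sit. -/
inductive Cases [Fintype F] (H : Subgroup (GL (Ix m) F)) : Prop
  | totSing (W : Submodule F (Ix m → F)) (h0 : W ≠ ⊥)
      (hts : IsTotallySingularFor (Cfsg.sympForm m F) W) (hle : H ≤ subspaceStabilizer W)
  | small (W : Submodule F (Ix m → F)) (h0 : W ≠ ⊥) (hnd : IsNondegenerateOn (Cfsg.sympForm m F) W)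
      (hlt : Module.finrank F W < m) (hle : H ≤ subspaceStabilizer W)
  | orth (t k : ℕ) (D : Fin t → Submodule F (Ix m → F))
      (hD : IsNondegenerateMDecomposition (Cfsg.sympForm m F) k D) (hc : t * k = 2 * m)
      (hle : H ≤ decompositionStabilizer D)
  | pair (D : Fin 2 → Submodule F (Ix m → F)) (hodd : Odd (Fintype.card F)) (hD : IsMDecomposition m D)
      (hts : ∀ i, IsTotallySingularFor (Cfsg.sympForm m F) (D i)) (hle : H ≤ decompositionStabilizer D)
  | selfField (r : ℕ) (K : Subalgebra F (Matrix (Ix m) (Ix m) F)) (hr : r.Prime) (hK : IsFieldSubalgebra r K)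
      (hsa : IsSelfAdjointFor (Cfsg.sympForm m F) K) (halt : ∀ k ∈ K, ∀ v, Cfsg.sympForm m F (k *ᵥ v) v = 0)
      (hdvd : r ∣ m) (hle : H ≤ subalgebraNormalizer K)
  | hermField (K : Subalgebra F (Matrix (Ix m) (Ix m) F)) (hodd : Odd (Fintype.card F))
      (hK : IsFieldSubalgebra 2 K) (hadj : IsAdjointClosedFor (Cfsg.sympForm m F) K)
      (hne : ¬ IsSelfAdjointFor (Cfsg.sympForm m F) K) (hle : H ≤ subalgebraNormalizer K)
  | tensor (hodd : Odd (Fintype.card F)) (h : TensorData H)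
  | power (h : PowMember H)
  | subfld (F₁ : Subfield F) (r : ℕ) (P : GL (Ix m) F) (ζ : F) (hne : F₁ ≠ ⊤) (hr : r.Prime)
      (hcard : Fintype.card F = Nat.card F₁ ^ r) (hζ : ζ ≠ 0)
      (hP : IsFormRationalStructure (Cfsg.sympForm m F) F₁ ζ P) (hle : H ≤ subfieldSubgroup F₁ P)
  | six (h : SixMember H)
  | quad (heven : ¬ Odd (Fintype.card F)) (Q : (Ix m → F) → F) (hQ : IsNondegenerateQuadraticForm Q)
      (hpol : ∀ u v, QuadraticMap.polar Q u v = Cfsg.sympForm m F u v) (hle : H ≤ quadSimilarityGroup Q)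
  | residual (h : InSymplecticResidualClass H)

theorem adjM_pow (M : Matrix (Ix m) (Ix m) F) (n : ℕ) : adjM (M ^ n) = adjM M ^ n := by
  induction n with
  | zero => simp [adjM_one]
  | succ n ih => rw [pow_succ, adjM_mul, ih, ← pow_succ']

theorem cases_idem [Fintype F] (hH : H ≤ Cfsg.spGL m F) {t : ℕ} {e : Fin t → Matrix (Ix m) (Ix m) F}
    (S : IdemSys H e) (ht : 2 ≤ t) (hadj : ∀ i, ∃ j, adjM (e i) = e j) : Cases H := by
  rcases idem_cases hH S ht hadj with ⟨s, k, D, hD, hc, hle⟩ | ⟨D, hD, hts, hle, hq⟩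
  · exact .orth s k D hD hc hle
  · by_cases h2 : (2 : F) = 0
    · obtain ⟨Q, hQ, hpol, hle'⟩ := hq h2
      exact .quad (not_odd_of_two_zero h2) Q hQ hpol hle'
    · exact .pair D (odd_card_of_two_ne_zero h2) hD hts hle

theorem cases_field [Fintype F] (hm : 0 < m) (hH : H ≤ Cfsg.spGL m F) (hirr : ActsIrreducibly (matrixSet H))
    {r : ℕ} {K : Subalgebra F (Matrix (Ix m) (Ix m) F)} (hr : r.Prime) (hK : IsFieldSubalgebra r K)
    (hHK : H ≤ subalgebraNormalizer K) (hadj : ∀ k ∈ K, adjM k ∈ K) : Cases H := by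
  rcases field_cases hm hH hirr hr hK hHK hadj with ⟨hsa, halt⟩ | ⟨rfl, hodd, hac, hne⟩ | ⟨-, he, Q, hQ, hpol, hle⟩
  · exact .selfField r K hr hK hsa halt (selfAdjoint_dvd hK hsa halt) hHK
  · exact .hermField K hodd hK hac hne hHK
  · exact .quad he Q hQ hpol hle

theorem cases_fieldExt [Fintype F] (hm : 0 < m) (hH : H ≤ Cfsg.spGL m F) (hirr : ActsIrreducibly (matrixSet H))
    (h : AschGen.FieldExt H) : Cases H := by
  haveI : Nonempty (Ix m) := ⟨Sum.inl ⟨0, hm⟩⟩
  obtain ⟨N, hN, h1, hK⟩ := h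
  obtain ⟨r, hr, hrs⟩ := Nat.exists_prime_and_dvd (show Module.finrank F (AschGen.bicomm N) ≠ 1 by omega)
  obtain ⟨K, hKle, hKf, hmem⟩ := exists_prime_subfield hK hr hrs
  have hone : ∀ g ∈ H, ∀ k ∈ K, AschGen.conjA g k ∈ K := by
    intro g hg k hk
    have h3 := (hmem k (hKle hk)).1 hk
    refine (hmem _ (AschGen.conjA_bicomm hN hg (hKle hk))).2 ?_
    rw [← map_pow, h3]
  refine cases_field hm hH hirr hr hKf (fun g hg k => ⟨fun hk => hone g hg k hk, fun hk => ?_⟩) (fun k hk => ?_)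
  · have h3 := hone g⁻¹ (inv_mem hg) _ hk
    rwa [← AschGen.conjA_apply, AschGen.conjA_inv] at h3
  · have h3 := (hmem k (hKle hk)).1 hk
    refine (hmem _ (adjM_mem_bicomm (hN.le.trans hH) (hKle hk))).2 ?_
    rw [← adjM_pow, h3]

theorem cases_imprimitive [Fintype F] (hH : H ≤ Cfsg.spGL m F) (h : AschGen.Imprimitive H) : Cases H := by
  obtain ⟨N, t, e, ht, hN, hs⟩ := h
  have S : IdemSys H e :=
    ⟨fun i => (hs.idem.idem i).eq, fun i j hij => hs.idem.ortho hij, hs.idem.complete, hs.ne_zero,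
      fun g hg i => by obtain ⟨σ, hσ⟩ := hs.perm g hg; exact ⟨σ i, hσ i⟩, hs.trans⟩
  refine cases_idem hH S ht fun i => ?_
  have hbic : ∀ j, adjM (e j) ∈ AschGen.bicomm N := fun j => adjM_mem_bicomm (hN.le.trans hH) (hs.mem j)
  have hsq : ∀ j, adjM (e j) * adjM (e j) = adjM (e j) := fun j => by rw [← adjM_mul, S.idem]
  have hne : ∀ j, adjM (e j) ≠ 0 := fun j h => hs.ne_zero j (by rw [← adjM_adjM (e j), h, adjM_zero])
  obtain ⟨j, hj⟩ : ∃ j, adjM (e i) * e j ≠ 0 := by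
    by_contra hcon
    push Not at hcon
    refine hne i ?_
    rw [← mul_one (adjM (e i)), ← S.sum, Finset.mul_sum]
    exact Finset.sum_eq_zero fun j _ => hcon j
  have h1 := (hs.minimal _ (hbic i) (hsq i) j).resolve_left hj
  have h2 : adjM (e j) * e i = adjM (e j) := by
    have h3 := congrArg adjM h1
    rwa [adjM_mul, adjM_adjM] at h3
  refine ⟨j, ?_⟩
  rcases hs.minimal _ (hbic j) (hsq j) i with h3 | h3
  · exact absurd (h2.symm.trans h3) (hne j)
  · rw [← h3, h2, adjM_adjM]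

theorem cases_tensor [Fintype F] (hm : 0 < m) (hH : H ≤ Cfsg.spGL m F) (hirr : ActsIrreducibly (matrixSet H))
    (h : AschGen.TensorProd H) : Cases H := by
  obtain ⟨N, d, k, e, P, hN, hd, hk, hmem, hle⟩ := h
  have hA : ∀ a : Matrix (Fin d) (Fin d) F, ∃ a',
      adjM (AschGen.tensMat e P a (1 : Matrix (Fin k) (Fin k) F)) = AschGen.tensMat e P a' 1 := fun a =>
    (hmem _).1 (adjM_mem_adjoin (hN.le.trans hH) ((hmem _).2 ⟨a, rfl⟩))
  rcases tensor_cases hH hirr hd hk (kronHold_iff.1 hle) hA with ⟨h2, hT | ⟨E, hE, hEa⟩ | ⟨K, hK, hle', hadj⟩⟩ | hq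
  · exact .tensor (odd_card_of_two_ne_zero h2) hT
  · exact cases_idem hH hE le_rfl hEa
  · exact cases_field hm hH hirr Nat.prime_two hK hle' hadj
  · obtain ⟨he, Q, hQ, hpol, hle'⟩ := hq
    exact .quad he Q hQ hpol hle'

/-- The subgroup theorem for symplectic groups. -/
theorem sp_cases [Fintype F] (hm : 0 < m) (hH : H ≤ Cfsg.spGL m F) : Cases H := by
  by_cases hirr : ActsIrreducibly (matrixSet H)
  swap
  · rcases reducible_cases hH hirr with ⟨W, h0, hts, hle⟩ | ⟨W, h0, hnd, hlt, hle⟩ | ⟨D, hD, hle⟩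
    · exact .totSing W h0 hts hle
    · exact .small W h0 hnd hlt hle
    · exact .orth 2 m D hD rfl hle
  rcases AschGen.core hirr (by rw [card_ix]; omega) with h | h | h | h | h | h
  · exact cases_imprimitive hH h
  · exact cases_fieldExt hm hH hirr h
  · exact cases_tensor hm hH hirr h
  · obtain ⟨R, r, k, h6⟩ := h
    rcases six_cases hm hH h6 with ⟨F₁, r', P, ζ, hne, hr, hc, hζ, hP, hle⟩ | hs
    · exact .subfld F₁ r' P ζ hne hr hc hζ hP hle
    · exact .six hs
  · obtain ⟨d, t, M, e, P, hd, ht, hM⟩ := h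
    rcases pow_cases hH hd ht hM with hp | ⟨he, Q, hQ, hpol, hle⟩
    · exact .power hp
    · exact .quad he Q hQ hpol hle
  · obtain ⟨P, hP⟩ := h
    rcases simple_cases hm hH hP.sub.le hP.sub.normal hP.absIrred with
      ⟨F₁, r, B, ζ, hne, hr, hc, hζ, hB, hle⟩ | ⟨he, Q, hQ, hpol, hle⟩ | ⟨hreal, hquad, hunit⟩
    · exact .subfld F₁ r B ζ hne hr hc hζ hB hle
    · exact .quad he Q hQ hpol hle
    · exact .residual ⟨P, ⟨hP.sub.le, hP.sub.normal, hP.perfect, hP.simple, hP.nonabelian, hP.centralizer_scalar,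
        hP.absIrred, hreal⟩, hquad, hunit⟩

end Cfsg.Lib.Linear.AschSp
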