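import Cfsg.Agent.Lib.Linear.AschSp.Coord

/-!
# Tensor decompositions normalised by a group of isometries
-/

set_option autoImplicit false
set_option linter.unusedSectionVars false
set_option linter.style.haveILetI false

namespace Cfsg.Lib.Linear.AschSp

open Cfsg.Geo Cfsg.Lib.Linear Cfsg.Lib.Linear.Asch
open scoped Matrix MatrixGroups Kronecker

variable {m : ℕ} {F : Type*} [Field F] {H : Subgroup (GL (Ix m) F)}

/-! ### A matrix normalised up to a scalar -/

/-- A square root of a non-zero scalar, normalised up to scalars, spans a field or splits the space. -/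
theorem root_cases [Fintype F] (h2 : (2 : F) ≠ 0) (hH : H ≤ Cfsg.spGL m F)
    (hirr : ActsIrreducibly (matrixSet H)) {T : Matrix (Ix m) (Ix m) F} {c : F} (hc0 : c ≠ 0)
    (hsq : T * T = c • 1) (hns : ∀ d : F, T ≠ d • 1) (hadj : adjM T = T ∨ adjM T = -T)
    (hconj : ∀ g ∈ H, ∃ ν : F, g.val * T * (g⁻¹).val = ν • T) :
    (∃ e : Fin 2 → Matrix (Ix m) (Ix m) F, IdemSys H e ∧ (∀ i, ∃ j, adjM (e i) = e j) ∧
      (adjM T = T → ∀ i, adjM (e i) = e i)) ∨
    ((∀ s : F, s * s ≠ c) ∧ ∃ K : Subalgebra F (Matrix (Ix m) (Ix m) F), IsFieldSubalgebra 2 K ∧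
      H ≤ subalgebraNormalizer K ∧ ∀ k ∈ K, adjM k ∈ K) := by
  classical
  haveI : Nonempty (Ix m) := by
    by_contra hne
    haveI : IsEmpty (Ix m) := not_nonempty_iff.1 hne
    exact hns 0 (Subsingleton.elim _ _)
  by_cases hsquare : ∃ s : F, s * s = c
  · left
    obtain ⟨s, hs⟩ := hsquare
    have hs0 : s ≠ 0 := fun h => hc0 (by rw [← hs, h, mul_zero])
    set T1 := s⁻¹ • T with hT1
    have hT1sq : T1 * T1 = 1 := by
      rw [hT1, Matrix.smul_mul, Matrix.mul_smul, hsq, smul_smul, smul_smul, ← hs,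
        show s⁻¹ * s⁻¹ * (s * s) = 1 by field_simp, one_smul]
    have hν : ∀ g ∈ H, g.val * T1 * (g⁻¹).val = T1 ∨ g.val * T1 * (g⁻¹).val = -T1 := by
      intro g hg
      obtain ⟨ν, hν⟩ := hconj g hg
      have h1 : g.val * T1 * (g⁻¹).val = ν • T1 := by
        rw [hT1, Matrix.mul_smul, Matrix.smul_mul, hν, smul_comm]
      have h3 : (1 : Matrix (Ix m) (Ix m) F) = (ν * ν) • 1 := by
        calc (1 : Matrix (Ix m) (Ix m) F) = g.val * (T1 * T1) * (g⁻¹).val := by
              rw [hT1sq, Matrix.mul_one, ← Units.val_mul, mul_inv_cancel, Units.val_one]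
          _ = (g.val * T1 * (g⁻¹).val) * (g.val * T1 * (g⁻¹).val) := by
              simp only [Matrix.mul_assoc]
              rw [← Matrix.mul_assoc (g⁻¹).val g.val, ← Units.val_mul, inv_mul_cancel, Units.val_one, Matrix.one_mul]
          _ = (ν * ν) • 1 := by rw [h1, Matrix.smul_mul, Matrix.mul_smul, hT1sq, smul_smul]
      have h4 : ν * ν = 1 := by
        have h5 := congrFun (congrFun h3 (Classical.arbitrary _)) (Classical.arbitrary _)
        simpa using h5.symm
      rcases mul_self_eq_one_iff.1 h4 with h | h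
      · exact Or.inl (by rw [h1, h, one_smul])
      · exact Or.inr (by rw [h1, h, neg_one_smul])
    let E : Fin 2 → Matrix (Ix m) (Ix m) F := ![(2 : F)⁻¹ • (1 + T1), (2 : F)⁻¹ • (1 - T1)]
    have hE0 : E 0 = (2 : F)⁻¹ • (1 + T1) := rfl
    have hE1 : E 1 = (2 : F)⁻¹ • (1 - T1) := rfl
    have hne : ∀ i, E i ≠ 0 := by
      rw [Fin.forall_fin_two, hE0, hE1]
      constructor
      · intro h
        rw [smul_eq_zero_iff_right (inv_ne_zero h2), add_eq_zero_iff_neg_eq] at h
        exact hns (-s) (by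
          have h1 : s • T1 = T := by rw [hT1, smul_smul, mul_inv_cancel₀ hs0, one_smul]
          rw [← h1, ← h, smul_neg, neg_smul])
      · intro h
        rw [smul_eq_zero_iff_right (inv_ne_zero h2), sub_eq_zero] at h
        exact hns s (by
          have h1 : s • T1 = T := by rw [hT1, smul_smul, mul_inv_cancel₀ hs0, one_smul]
          rw [← h1, ← h])
    have hcomm : ∀ g : GL (Ix m) F, g.val * T1 * (g⁻¹).val = T1 → ∀ i, g.val * E i * (g⁻¹).val = E i := by
      intro g hg
      rw [Fin.forall_fin_two, hE0, hE1]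
      simp only [Matrix.mul_smul, Matrix.smul_mul, Matrix.mul_add, Matrix.mul_sub, Matrix.add_mul, Matrix.sub_mul,
        Matrix.mul_one, hg, ← Units.val_mul, mul_inv_cancel, Units.val_one, and_self]
    have hswap : ∀ g : GL (Ix m) F, g.val * T1 * (g⁻¹).val = -T1 → ∀ i, g.val * E i * (g⁻¹).val = E (i + 1) := by
      intro g hg
      rw [Fin.forall_fin_two, show ((0 : Fin 2) + 1) = 1 from rfl, show ((1 : Fin 2) + 1) = 0 from rfl, hE0, hE1]
      simp only [Matrix.mul_smul, Matrix.smul_mul, Matrix.mul_add, Matrix.mul_sub, Matrix.add_mul, Matrix.sub_mul,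
        Matrix.mul_one, hg, ← Units.val_mul, mul_inv_cancel, Units.val_one, sub_neg_eq_add, ← sub_eq_add_neg,
        and_self]
    have hidem : ∀ i, E i * E i = E i := by
      rw [Fin.forall_fin_two, hE0, hE1]
      have h22 : (2 : F)⁻¹ * (2 : F)⁻¹ * 2 = (2 : F)⁻¹ := by field_simp
      constructor
      · rw [Matrix.smul_mul, Matrix.mul_smul, smul_smul, show (1 + T1) * (1 + T1) = (2 : F) • (1 + T1) by
          rw [Matrix.add_mul, Matrix.mul_add, Matrix.mul_add, hT1sq, two_smul, Matrix.one_mul, Matrix.mul_one,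
            Matrix.one_mul]; abel, smul_smul, h22]
      · rw [Matrix.smul_mul, Matrix.mul_smul, smul_smul, show (1 - T1) * (1 - T1) = (2 : F) • (1 - T1) by
          rw [Matrix.sub_mul, Matrix.mul_sub, Matrix.mul_sub, hT1sq, two_smul, Matrix.one_mul, Matrix.mul_one,
            Matrix.one_mul]; abel, smul_smul, h22]
    have horth : ∀ i j, i ≠ j → E i * E j = 0 := by
      intro i j hij
      fin_cases i <;> fin_cases j <;> simp at hij
      · show E 0 * E 1 = 0
        rw [hE0, hE1, Matrix.smul_mul, Matrix.mul_smul, show (1 + T1) * (1 - T1) = 0 by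
          rw [Matrix.add_mul, Matrix.mul_sub, Matrix.mul_sub, hT1sq, Matrix.one_mul, Matrix.mul_one,
            Matrix.one_mul]; abel, smul_zero, smul_zero]
      · show E 1 * E 0 = 0
        rw [hE0, hE1, Matrix.smul_mul, Matrix.mul_smul, show (1 - T1) * (1 + T1) = 0 by
          rw [Matrix.sub_mul, Matrix.mul_add, Matrix.mul_add, hT1sq, Matrix.one_mul, Matrix.mul_one,
            Matrix.one_mul]; abel, smul_zero, smul_zero]
    have hswapper : ∃ g ∈ H, g.val * T1 * (g⁻¹).val = -T1 := by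
      by_contra hnone
      push Not at hnone
      have hinv : InvSub H (img (E 0)) := by
        intro g hg v hv
        have h1 := hcomm g ((hν g hg).resolve_right (hnone g hg)) 0
        obtain ⟨u, rfl⟩ := mem_img.1 hv
        refine mem_img.2 ⟨g.val *ᵥ u, ?_⟩
        conv_lhs => rw [← h1]
        rw [← Matrix.mulVec_mulVec, ← Matrix.mulVec_mulVec, inv_mulVec_mulVec]
      have hzero : ∀ (i : Fin 2), img (E i) = ⊥ → False := fun i h => by
        rw [img, LinearMap.range_eq_bot] at h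
        exact hne i ((map_eq_zero_iff _ Matrix.toLin'.injective).1 h)
      rcases irr_iff.1 hirr _ hinv with h | h
      · exact hzero 0 h
      · refine hzero 1 ((Submodule.eq_bot_iff _).2 fun v hv => ?_)
        obtain ⟨u, rfl⟩ := mem_img.1 hv
        have h1 : E 1 *ᵥ u ∈ img (E 0) := h ▸ Submodule.mem_top
        rw [← img_fix (hidem 0) h1, Matrix.mulVec_mulVec, horth 0 1 (by decide), Matrix.zero_mulVec]
    have hsys : IdemSys H E := by
      refine ⟨hidem, horth, ?_, hne, fun g hg i => ?_, fun i j => ?_⟩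
      · rw [Fin.sum_univ_two, hE0, hE1, ← smul_add, show (1 + T1) + (1 - T1) = (2 : F) • (1 : Matrix (Ix m) (Ix m) F) by
          rw [two_smul]; abel, smul_smul, inv_mul_cancel₀ h2, one_smul]
      · rcases hν g hg with h | h
        · exact ⟨_, hcomm g h i⟩
        · exact ⟨_, hswap g h i⟩
      · by_cases hij : i = j
        · exact ⟨1, one_mem H, by subst hij; simp⟩
        · obtain ⟨g, hg, hgT⟩ := hswapper
          refine ⟨g, hg, ?_⟩
          rw [hswap g hgT i, show i + 1 = j by revert hij; revert i j; decide]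
    refine ⟨E, hsys, fun i => ?_, fun hT i => ?_⟩
    · rcases hadj with h | h
      · refine ⟨i, ?_⟩
        revert i
        rw [Fin.forall_fin_two, hE0, hE1]
        simp [adjM_smul, adjM_add, adjM_sub, adjM_one, hT1, h]
      · refine ⟨i + 1, ?_⟩
        revert i
        rw [Fin.forall_fin_two, show ((0 : Fin 2) + 1) = 1 from rfl, show ((1 : Fin 2) + 1) = 0 from rfl, hE0, hE1]
        simp [adjM_smul, adjM_add, adjM_neg, adjM_sub, adjM_one, hT1, h, sub_eq_add_neg]
    · revert i
      rw [Fin.forall_fin_two, hE0, hE1]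
      simp [adjM_smul, adjM_add, adjM_sub, adjM_one, hT1, hT]
  · right
    push Not at hsquare
    let K : Subalgebra F (Matrix (Ix m) (Ix m) F) :=
      { carrier := {X | ∃ a b : F, X = a • 1 + b • T}
        mul_mem' := by
          rintro _ _ ⟨a, b, rfl⟩ ⟨a', b', rfl⟩
          refine ⟨a * a' + b * b' * c, a * b' + b * a', ?_⟩
          simp only [Matrix.add_mul, Matrix.mul_add, Matrix.smul_mul, Matrix.mul_smul, Matrix.one_mul, Matrix.mul_one,
            hsq]
          module
        add_mem' := by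
          rintro _ _ ⟨a, b, rfl⟩ ⟨a', b', rfl⟩
          exact ⟨a + a', b + b', by module⟩
        algebraMap_mem' := fun a => ⟨a, 0, by simp [Algebra.algebraMap_eq_smul_one]⟩ }
    have hK : ∀ {X}, X ∈ K ↔ ∃ a b : F, X = a • 1 + b • T := Iff.rfl
    refine ⟨hsquare, K, ⟨?_, ?_, ?_⟩, fun g hg => ?_, ?_⟩
    · rintro _ ⟨a, b, rfl⟩ _ ⟨a', b', rfl⟩
      simp only [Matrix.add_mul, Matrix.mul_add, Matrix.smul_mul, Matrix.mul_smul, Matrix.one_mul, Matrix.mul_one]
      module
    · rintro _ ⟨a, b, rfl⟩ hne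
      have hd : a * a - b * b * c ≠ 0 := by
        intro h
        by_cases hb : b = 0
        · subst hb
          have ha : a = 0 := mul_self_eq_zero.1 (by linear_combination h)
          exact hne (by simp [ha])
        · exact hsquare (a / b) (by field_simp; linear_combination h)
      refine ⟨(a / (a * a - b * b * c)) • 1 + (-b / (a * a - b * b * c)) • T, ⟨_, _, rfl⟩, ?_⟩
      simp only [Matrix.add_mul, Matrix.mul_add, Matrix.smul_mul, Matrix.mul_smul, Matrix.one_mul, Matrix.mul_one, hsq]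
      match_scalars <;> first | ring1 | linear_combination mul_inv_cancel₀ hd
    · have hb : LinearIndependent F ![(1 : Matrix (Ix m) (Ix m) F), T] :=
        (LinearIndependent.pair_iff' one_ne_zero).2 fun a h => hns a h.symm
      have hspan : K.toSubmodule = Submodule.span F (Set.range ![(1 : Matrix (Ix m) (Ix m) F), T]) := by
        ext X
        rw [Matrix.range_cons_cons_empty, Submodule.mem_span_pair]
        exact ⟨fun ⟨a, b, h⟩ => ⟨a, b, h.symm⟩, fun ⟨a, b, h⟩ => ⟨a, b, h.symm⟩⟩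
      show Module.finrank F K.toSubmodule = 2
      rw [hspan, finrank_span_eq_card hb, Fintype.card_fin]
    · have hone : ∀ g ∈ H, ∀ k ∈ K, g.val * k * (g⁻¹).val ∈ K := by
        rintro g hg _ ⟨a, b, rfl⟩
        obtain ⟨ν, hν⟩ := hconj g hg
        refine ⟨a, b * ν, ?_⟩
        rw [Matrix.mul_add, Matrix.add_mul, Matrix.mul_smul, Matrix.smul_mul, Matrix.mul_one, ← Units.val_mul,
          mul_inv_cancel, Units.val_one, Matrix.mul_smul, Matrix.smul_mul, hν, smul_smul]
      intro k
      refine ⟨hone g hg k, fun hk => ?_⟩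
      have h1 := hone g⁻¹ (inv_mem hg) _ hk
      rwa [inv_inv, ← Matrix.mul_assoc, ← Matrix.mul_assoc, ← Units.val_mul, inv_mul_cancel, Units.val_one,
        Matrix.one_mul, Matrix.mul_assoc, ← Units.val_mul, inv_mul_cancel, Units.val_one, Matrix.mul_one] at h1
    · rintro _ ⟨a, b, rfl⟩
      rcases hadj with h | h
      · exact ⟨a, b, by rw [adjM_add, adjM_smul, adjM_smul, adjM_one, h]⟩
      · exact ⟨a, -b, by rw [adjM_add, adjM_smul, adjM_smul, adjM_one, h, smul_neg, neg_smul]⟩

/-! ### Kronecker products -/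

section Kron

variable {d k : ℕ}

theorem kron_inj {A A' : Matrix (Fin d) (Fin d) F} {B B' : Matrix (Fin k) (Fin k) F}
    (h : A' ⊗ₖ B' = A ⊗ₖ B) (hA : A ≠ 0) (hB : B ≠ 0) :
    ∃ μ : F, μ ≠ 0 ∧ B' = μ • B ∧ A' = μ⁻¹ • A := by
  obtain ⟨i, j, hij⟩ : ∃ i j, A i j ≠ 0 := by
    by_contra hne; push Not at hne; exact hA (Matrix.ext hne)
  obtain ⟨c, c', hcc⟩ : ∃ c c', B c c' ≠ 0 := by
    by_contra hne; push Not at hne; exact hB (Matrix.ext hne)
  have he : ∀ a b x y, A' a b * B' x y = A a b * B x y := fun a b x y => congrFun (congrFun h (a, x)) (b, y)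
  have h0 : A' i j ≠ 0 := fun h0 => mul_ne_zero hij hcc (by rw [← he, h0, zero_mul])
  refine ⟨A i j / A' i j, div_ne_zero hij h0, Matrix.ext fun x y => ?_, Matrix.ext fun a b => ?_⟩
  · rw [Matrix.smul_apply, smul_eq_mul, div_mul_eq_mul_div, eq_div_iff h0, ← he i j x y]; ring
  · have h1 := he a b c c'
    have h2 := he i j c c'
    rw [Matrix.smul_apply, smul_eq_mul, inv_div, div_mul_eq_mul_div, eq_div_iff hij]
    refine mul_right_cancel₀ hcc ?_
    calc A' a b * A i j * B c c' = A' a b * (A' i j * B' c c') := by rw [h2]; ring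
      _ = A' i j * A a b * B c c' := by rw [mul_assoc (A' i j), ← h1]; ring

theorem kron_swap (a : Matrix (Fin d) (Fin d) F) (b : Matrix (Fin k) (Fin k) F) :
    (b ⊗ₖ a).submatrix Prod.swap Prod.swap = a ⊗ₖ b :=
  Matrix.ext fun i j => mul_comm _ _

/-- An invertible matrix conjugating the first factor algebra to itself by transposition factorises. -/
theorem kron_factor [Fintype F] (hk : 0 < k) {G : Matrix (Fin d × Fin k) (Fin d × Fin k) F}
    (hG : IsUnit G.det)
    (hA : ∀ a : Matrix (Fin d) (Fin d) F, ∃ a', (a ⊗ₖ (1 : Matrix (Fin k) (Fin k) F))ᵀ * G = G * (a' ⊗ₖ 1)) :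
    ∃ (A : Matrix (Fin d) (Fin d) F) (B : Matrix (Fin k) (Fin k) F), G = A ⊗ₖ B := by
  classical
  choose σ hσ using hA
  have hinj : Function.Injective σ := fun a a' h => by
    have h1 : (a ⊗ₖ (1 : Matrix (Fin k) (Fin k) F))ᵀ * G = (a' ⊗ₖ 1)ᵀ * G := by rw [hσ, hσ, h]
    have h2 := congrArg (· * G⁻¹) h1
    simp only [Matrix.mul_assoc, Matrix.mul_nonsing_inv _ hG, Matrix.mul_one] at h2
    refine Matrix.ext fun i j => ?_
    have h3 := congrFun (congrFun h2 (j, ⟨0, hk⟩)) (i, ⟨0, hk⟩)
    simpa using h3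
  have hsurj : Function.Surjective σ := Finite.injective_iff_surjective.1 hinj
  let blk : Fin k → Fin k → Matrix (Fin d) (Fin d) F := fun c c' => Matrix.of fun b b' => G (b, c) (b', c')
  have hblk : ∀ a c c', aᵀ * blk c c' = blk c c' * σ a := by
    intro a c c'
    refine Matrix.ext fun i j => ?_
    have h1 := congrFun (congrFun (hσ a) (i, c)) (j, c')
    simpa [Matrix.mul_apply, Fintype.sum_prod_type, Matrix.one_apply, blk] using h1
  by_cases hz : ∀ c c', blk c c' = 0
  · refine ⟨0, 0, Matrix.ext fun i j => ?_⟩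
    simpa [blk] using congrFun (congrFun (hz i.2 j.2) i.1) j.1
  push Not at hz
  obtain ⟨c0, c0', h0⟩ := hz
  set A := blk c0 c0' with hAdef
  have hAu : IsUnit A.det := by
    rw [← Matrix.isUnit_iff_isUnit_det, ← Matrix.mulVec_injective_iff_isUnit]
    intro v w hvw
    by_contra hne
    have hu : A *ᵥ (v - w) = 0 := by rw [Matrix.mulVec_sub]; exact sub_eq_zero.2 hvw
    apply h0
    refine Matrix.ext fun i j => ?_
    obtain ⟨l, hl⟩ := Function.ne_iff.1 (sub_ne_zero.2 hne)
    obtain ⟨a, ha⟩ := hsurj (Matrix.single j l (1 / (v - w) l))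
    have h1 : A *ᵥ (σ a *ᵥ (v - w)) = 0 := by
      rw [Matrix.mulVec_mulVec, hAdef, ← hblk, ← Matrix.mulVec_mulVec, ← hAdef, hu, Matrix.mulVec_zero]
    have h2 : σ a *ᵥ (v - w) = Pi.single j 1 := by
      rw [ha]
      funext x
      simp only [Matrix.mulVec, dotProduct]
      rw [Finset.sum_eq_single l (fun b _ hb => by simp [Matrix.single, Ne.symm hb]) (by simp)]
      by_cases hx : x = j
      · subst hx
        have hl' : v l - w l ≠ 0 := hl
        simp [Matrix.single, inv_mul_cancel₀ hl']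
      · simp [Matrix.single, hx, Ne.symm hx]
    rw [h2] at h1
    simpa [Matrix.mulVec_single_one] using congrFun h1 i
  have hsc : ∀ c c', ∃ s : F, blk c c' = s • A := by
    intro c c'
    have hcomm : ∀ a : Matrix (Fin d) (Fin d) F, Commute a (blk c c' * A⁻¹) := by
      intro a
      have h1 : σ aᵀ = A⁻¹ * (a * A) := by
        have := hblk aᵀ c0 c0'
        rw [Matrix.transpose_transpose] at this
        rw [hAdef, this, ← hAdef, ← Matrix.mul_assoc, Matrix.nonsing_inv_mul _ hAu, Matrix.one_mul]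
      have h2 := hblk aᵀ c c'
      rw [Matrix.transpose_transpose, h1] at h2
      show a * (blk c c' * A⁻¹) = blk c c' * A⁻¹ * a
      rw [← Matrix.mul_assoc, h2]
      simp only [Matrix.mul_assoc, Matrix.mul_nonsing_inv _ hAu, Matrix.mul_one]
    obtain ⟨s, hs⟩ := Matrix.mem_range_scalar_of_commute_single (M := blk c c' * A⁻¹)
      (fun i j _ => hcomm (Matrix.single i j 1))
    refine ⟨s, ?_⟩
    have h3 := congrArg (· * A) hs.symm
    simp only [Matrix.mul_assoc, Matrix.nonsing_inv_mul _ hAu, Matrix.mul_one] at h3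
    rw [h3, Matrix.smul_eq_diagonal_mul]
    rfl
  choose s hs using hsc
  refine ⟨A, Matrix.of s, Matrix.ext fun ⟨b, c⟩ ⟨b', c'⟩ => ?_⟩
  have h1 := congrFun (congrFun (hs c c') b) b'
  simp only [blk, Matrix.of_apply, Matrix.smul_apply, smul_eq_mul] at h1
  rw [h1]
  simp [mul_comm]

theorem skew_two (b : Matrix (Fin 2) (Fin 2) F) :
    bᵀ * !![0, 1; -1, 0] * b = b.det • !![0, 1; -1, 0] := by
  refine Matrix.ext fun i j => ?_
  fin_cases i <;> fin_cases j <;> simp [Matrix.mul_apply, Fin.sum_univ_two, Matrix.det_fin_two] <;> ring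

theorem kron_comp_left (a : Matrix (Fin d) (Fin d) F) (b : Matrix (Fin k) (Fin k) F) :
    (a ⊗ₖ b)ᵀ = aᵀ ⊗ₖ bᵀ := (Matrix.kroneckerMap_transpose _ a b).symm

theorem kron_mulVec_pure (a : Matrix (Fin d) (Fin d) F) (b : Matrix (Fin k) (Fin k) F) (u : Fin d → F)
    (w : Fin k → F) :
    (a ⊗ₖ b) *ᵥ (fun bc : Fin d × Fin k => u bc.1 * w bc.2) = fun bc => (a *ᵥ u) bc.1 * (b *ᵥ w) bc.2 := by
  funext ⟨i, c⟩
  simp only [Matrix.mulVec, dotProduct, Fintype.sum_prod_type, Matrix.kroneckerMap_apply, Finset.sum_mul_sum]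
  exact Finset.sum_congr rfl fun _ _ => Finset.sum_congr rfl fun _ _ => by ring

theorem pure_dot (u u' : Fin d → F) (w w' : Fin k → F) :
    (fun bc : Fin d × Fin k => u bc.1 * w bc.2) ⬝ᵥ (fun bc => u' bc.1 * w' bc.2) = (u ⬝ᵥ u') * (w ⬝ᵥ w') := by
  simp only [dotProduct, Fintype.sum_prod_type, Finset.sum_mul_sum]
  exact Finset.sum_congr rfl fun _ _ => Finset.sum_congr rfl fun _ _ => by ring

end Kron

/-- A tensor decomposition in the frame `(e, P)` preserved by `H`. -/
def KronHold (H : Subgroup (GL (Ix m) F)) {d k : ℕ} (e : Ix m ≃ Fin d × Fin k) (P : GL (Ix m) F) : Prop :=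
  ∀ g ∈ H, ∃ (a : GL (Fin d) F) (b : GL (Fin k) F), g.val = tm e P (a.val ⊗ₖ b.val)

theorem kronHold_iff {d k : ℕ} {e : Ix m ≃ Fin d × Fin k} {P : GL (Ix m) F} :
    H ≤ tensorProductSubgroup d k e P ↔ KronHold H e P := by
  constructor
  · intro h g hg
    obtain ⟨_, ⟨x, ⟨a, b, hx⟩, rfl⟩, hxg⟩ := h hg
    refine ⟨a, b, ?_⟩
    rw [← hxg, ← hx]
    exact tm_glReindex e P x
  · intro h g hg
    obtain ⟨a, b, hab⟩ := h g hg
    let x : GL (Fin d × Fin k) F := ⟨a.val ⊗ₖ b.val, (a⁻¹).val ⊗ₖ (b⁻¹).val,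
      by rw [← Matrix.mul_kronecker_mul, ← Units.val_mul, ← Units.val_mul, mul_inv_cancel, mul_inv_cancel,
        Units.val_one, Units.val_one, Matrix.one_kronecker_one],
      by rw [← Matrix.mul_kronecker_mul, ← Units.val_mul, ← Units.val_mul, inv_mul_cancel, inv_mul_cancel,
        Units.val_one, Units.val_one, Matrix.one_kronecker_one]⟩
    refine ⟨_, ⟨x, ⟨a, b, rfl⟩, rfl⟩, Units.ext ?_⟩
    rw [hab]
    exact tm_glReindex e P x

/-- Data of a member of class four. -/
def TensorData (H : Subgroup (GL (Ix m) F)) : Prop :=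
  ∃ (n₁ n₂ : ℕ) (e : Ix m ≃ Fin n₁ × Fin n₂) (P : GL (Ix m) F) (f₁ : (Fin n₁ → F) → (Fin n₁ → F) → F)
    (f₂ : (Fin n₂ → F) → (Fin n₂ → F) → F), 2 ≤ n₁ ∧ Even n₁ ∧ 3 ≤ n₂ ∧ IsSymplecticForm f₁ ∧ IsSymmetricForm f₂ ∧
      IsTensorFormStructure id (Cfsg.sympForm m F) f₁ f₂ e P ∧ H ≤ tensorProductSubgroup n₁ n₂ e P

/-- The odd case with the alternating factor first. -/
theorem pair_cases [Fintype F] (h2 : (2 : F) ≠ 0) (hH : H ≤ Cfsg.spGL m F) (hirr : ActsIrreducibly (matrixSet H))
    {d k : ℕ} (hd : 2 ≤ d) (hk : 2 ≤ k) {e : Ix m ≃ Fin d × Fin k} {P : GL (Ix m) F} (hold : KronHold H e P)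
    {A : Matrix (Fin d) (Fin d) F} {B : Matrix (Fin k) (Fin k) F} (hG : gC e P = A ⊗ₖ B)
    (hA : Aᵀ = -A) (hB : Bᵀ = B) :
    TensorData H ∨
    (∃ e : Fin 2 → Matrix (Ix m) (Ix m) F, IdemSys H e ∧ ∀ i, ∃ j, adjM (e i) = e j) ∨
    (∃ K : Subalgebra F (Matrix (Ix m) (Ix m) F), IsFieldSubalgebra 2 K ∧ H ≤ subalgebraNormalizer K ∧
      ∀ k ∈ K, adjM k ∈ K) := by
  have hu := gC_isUnit e P
  rw [hG, Matrix.det_kronecker, IsUnit.mul_iff, Fintype.card_fin, Fintype.card_fin] at hu
  have hAu : IsUnit A.det := (isUnit_pow_iff (by omega)).1 hu.1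
  have hBu : IsUnit B.det := (isUnit_pow_iff (by omega)).1 hu.2
  have hf1 := symp_formOfGram h2 hAu hA
  rcases Nat.lt_or_ge 2 k with hk3 | hk2
  · left
    refine ⟨d, k, e, P, _, _, hd, ?_, hk3, hf1, symm_formOfGram hBu hB, ⟨1, one_ne_zero, fun x y => ?_⟩,
      kronHold_iff.2 hold⟩
    · by_contra hodd
      exact not_alt_odd (f := formOfGram id A)
        (by rw [Fintype.card_fin]; exact Nat.not_even_iff_odd.1 hodd) hf1.bilinear hf1.alternating hf1.nondegenerate
    · rw [gram_formOfGram, gram_formOfGram, one_mul, coord_form, hG, formOfGram_mat]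
  obtain rfl : k = 2 := by omega
  right
  let S : Matrix (Fin 2) (Fin 2) F := !![0, 1; -1, 0]
  have hSS : S * S = (-1 : F) • 1 := by
    refine Matrix.ext fun i j => ?_
    fin_cases i <;> fin_cases j <;> simp [S, Matrix.mul_apply, Fin.sum_univ_two]
  have hST : Sᵀ = -S := by
    refine Matrix.ext fun i j => ?_
    fin_cases i <;> fin_cases j <;> simp [S]
  let T : Matrix (Fin 2) (Fin 2) F := B⁻¹ * S
  have hBT : B * T = S := by
    simp only [T, ← Matrix.mul_assoc, Matrix.mul_nonsing_inv _ hBu, Matrix.one_mul]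
  have hBS : S * B⁻¹ = (B⁻¹).det • (B * S) := by
    have hBi : (B⁻¹)ᵀ = B⁻¹ := by rw [Matrix.transpose_nonsing_inv, hB]
    have h1 := skew_two B⁻¹
    rw [hBi] at h1
    have h3 := congrArg (fun z => B * z) h1
    simp only [← Matrix.mul_assoc, Matrix.mul_nonsing_inv _ hBu, Matrix.one_mul, Matrix.mul_smul] at h3
    exact h3
  have hTT : T * T = (-(B⁻¹).det) • 1 := by
    calc T * T = B⁻¹ * (S * B⁻¹) * S := by simp only [T, Matrix.mul_assoc]
      _ = (-(B⁻¹).det) • 1 := by
        rw [hBS, Matrix.mul_smul, Matrix.smul_mul, ← Matrix.mul_assoc, Matrix.nonsing_inv_mul _ hBu, Matrix.one_mul,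
          hSS, smul_smul, mul_neg, mul_one]
  have hT0 : ∀ c : F, T ≠ c • 1 := by
    intro c hc
    have h1 : S = c • B := by rw [← hBT, hc, Matrix.mul_smul, Matrix.mul_one]
    have h3 := congrArg Matrix.transpose h1
    rw [Matrix.transpose_smul, hB, ← h1, hST] at h3
    have h4 := congrFun (congrFun h3 0) 1
    simp [S] at h4
    exact h2 (by linear_combination -h4)
  have hTadj : Tᵀ * B = -S := by
    have : Tᵀ * B = (Bᵀ * T)ᵀ := by simp only [Matrix.transpose_mul Bᵀ T, Matrix.transpose_transpose]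
    rw [this, hB, hBT, hST]
  let W := tm e P ((1 : Matrix (Fin d) (Fin d) F) ⊗ₖ T)
  have hadj : adjM W = -W := by
    rw [show -W = (-1 : F) • W by rw [neg_one_smul]]
    show _ = (-1 : F) • tm e P _
    rw [← tm_smul]
    refine adjM_tm e P ?_
    rw [hG, kron_comp_left, Matrix.mul_smul, ← Matrix.mul_kronecker_mul, ← Matrix.mul_kronecker_mul,
      Matrix.transpose_one, Matrix.one_mul, Matrix.mul_one, hBT, hTadj, neg_one_smul]
    exact Matrix.ext fun i j => by simp
  have hres := root_cases (T := W) (c := -(B⁻¹).det) h2 hH hirr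
    (neg_ne_zero.2 (Matrix.isUnit_nonsing_inv_det _ hBu).ne_zero)
    (by
      show tm e P _ * tm e P _ = _
      rw [← tm_mul, ← Matrix.mul_kronecker_mul, Matrix.one_mul, hTT, Matrix.kronecker_smul,
        Matrix.one_kronecker_one, tm_smul, tm_one])
    (fun c hc => by
      have h1 : (1 : Matrix (Fin d) (Fin d) F) ⊗ₖ T = c • 1 := tm_inj e P (by rw [tm_smul, tm_one]; exact hc)
      refine hT0 c (Matrix.ext fun i j => ?_)
      have h3 := congrFun (congrFun h1 (⟨0, by omega⟩, i)) (⟨0, by omega⟩, j)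
      simpa [Matrix.one_apply] using h3)
    (Or.inr hadj) (fun g hg => by
      obtain ⟨a, b, hab⟩ := hold g⁻¹ (inv_mem hg)
      have h1 := gC_fix e P (hH (inv_mem hg)) hab
      rw [hG, kron_comp_left, ← Matrix.mul_kronecker_mul, ← Matrix.mul_kronecker_mul] at h1
      obtain ⟨μ, hμ, hbB, -⟩ := kron_inj h1
        (fun h => hAu.ne_zero (by rw [h]; exact Matrix.det_eq_zero_of_row_eq_zero ⟨0, by omega⟩ fun _ => rfl))
        (fun h => hBu.ne_zero (by rw [h]; exact Matrix.det_eq_zero_of_row_eq_zero 0 fun _ => rfl))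
      have hb1 : (b⁻¹).val * B⁻¹ = μ⁻¹ • (B⁻¹ * b.valᵀ) := by
        have h3 : μ⁻¹ • (B⁻¹ * b.valᵀ) * (B * b.val) = 1 := by
          rw [Matrix.smul_mul, Matrix.mul_assoc, ← Matrix.mul_assoc b.valᵀ, hbB, Matrix.mul_smul, smul_smul,
            inv_mul_cancel₀ hμ, one_smul, Matrix.nonsing_inv_mul _ hBu]
        have h4 : (B * b.val) * ((b⁻¹).val * B⁻¹) = 1 := by
          rw [Matrix.mul_assoc, ← Matrix.mul_assoc b.val, ← Units.val_mul, mul_inv_cancel, Units.val_one,
            Matrix.one_mul, Matrix.mul_nonsing_inv _ hBu]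
        exact (left_inv_eq_right_inv h3 h4).symm
      have hbT : (b⁻¹).val * T * b.val = (μ⁻¹ * b.val.det) • T := by
        calc (b⁻¹).val * T * b.val = (b⁻¹).val * B⁻¹ * S * b.val := by simp only [T, Matrix.mul_assoc]
          _ = μ⁻¹ • (B⁻¹ * (b.valᵀ * S * b.val)) := by
            rw [hb1, Matrix.smul_mul, Matrix.smul_mul]; simp only [Matrix.mul_assoc]
          _ = (μ⁻¹ * b.val.det) • T := by rw [skew_two, Matrix.mul_smul, smul_smul]
      refine ⟨μ⁻¹ * b.val.det, ?_⟩
      have hinv : g.val = tm e P ((a⁻¹).val ⊗ₖ (b⁻¹).val) := by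
        have h3 : (g⁻¹).val * tm e P ((a⁻¹).val ⊗ₖ (b⁻¹).val) = 1 := by
          rw [hab, ← tm_mul, ← Matrix.mul_kronecker_mul, ← Units.val_mul, ← Units.val_mul, mul_inv_cancel,
            mul_inv_cancel, Units.val_one, Units.val_one, Matrix.one_kronecker_one, tm_one]
        have h4 := congrArg (g.val * ·) h3
        simp only [← Matrix.mul_assoc, ← Units.val_mul, mul_inv_cancel, Units.val_one, Matrix.one_mul,
          Matrix.mul_one] at h4
        exact h4.symm
      rw [hinv, hab, ← tm_mul, ← tm_mul, ← Matrix.mul_kronecker_mul, ← Matrix.mul_kronecker_mul, Matrix.mul_one,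
        ← Units.val_mul, inv_mul_cancel, Units.val_one, hbT, Matrix.kronecker_smul, tm_smul])
  rcases hres with ⟨E, hE, hEa, -⟩ | h
  · exact Or.inl ⟨E, hE, hEa⟩
  · exact Or.inr h.2

/-- The alternatives for a tensor decomposition normalised by an irreducible group of isometries. -/
theorem tensor_cases [Fintype F] (hH : H ≤ Cfsg.spGL m F) (hirr : ActsIrreducibly (matrixSet H)) {d k : ℕ}
    (hd : 2 ≤ d) (hk : 2 ≤ k) {e : Ix m ≃ Fin d × Fin k} {P : GL (Ix m) F} (hold : KronHold H e P)
    (hA : ∀ a : Matrix (Fin d) (Fin d) F, ∃ a', adjM (tm e P (a ⊗ₖ (1 : Matrix (Fin k) (Fin k) F))) = tm e P (a' ⊗ₖ 1)) :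
    ((2 : F) ≠ 0 ∧ (TensorData H ∨
      (∃ e : Fin 2 → Matrix (Ix m) (Ix m) F, IdemSys H e ∧ ∀ i, ∃ j, adjM (e i) = e j) ∨
      (∃ K : Subalgebra F (Matrix (Ix m) (Ix m) F), IsFieldSubalgebra 2 K ∧ H ≤ subalgebraNormalizer K ∧
        ∀ k ∈ K, adjM k ∈ K))) ∨
    (¬ Odd (Fintype.card F) ∧ ∃ Q : (Ix m → F) → F, IsNondegenerateQuadraticForm Q ∧
      (∀ u v, QuadraticMap.polar Q u v = Cfsg.sympForm m F u v) ∧ H ≤ quadSimilarityGroup Q) := by
  classical
  have hu := gC_isUnit e P
  obtain ⟨A, B, hG⟩ := kron_factor (by omega) hu (fun a => by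
    obtain ⟨a', ha⟩ := hA a
    exact ⟨a', tm_adjM e P ha⟩)
  rw [hG, Matrix.det_kronecker, IsUnit.mul_iff, Fintype.card_fin, Fintype.card_fin] at hu
  have hA0 : A ≠ 0 := fun h => by
    have h1 := hu.1
    rw [h, show (0 : Matrix (Fin d) (Fin d) F).det = 0 from Matrix.det_eq_zero_of_row_eq_zero ⟨0, by omega⟩ fun _ => rfl, zero_pow (by omega : k ≠ 0)] at h1
    exact not_isUnit_zero h1
  have hB0 : B ≠ 0 := fun h => by
    have h1 := hu.2
    rw [h, show (0 : Matrix (Fin k) (Fin k) F).det = 0 from Matrix.det_eq_zero_of_row_eq_zero ⟨0, by omega⟩ fun _ => rfl, zero_pow (by omega : d ≠ 0)] at h1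
    exact not_isUnit_zero h1
  have htr : Aᵀ ⊗ₖ (-Bᵀ) = A ⊗ₖ B := by
    have h1 := gC_transpose e P
    rw [hG, kron_comp_left] at h1
    rw [← hG]
    refine Matrix.ext fun i j => ?_
    have h3 := congrFun (congrFun h1 i) j
    rw [Matrix.neg_apply] at h3
    simp only [Matrix.kroneckerMap_apply, Matrix.neg_apply, mul_neg] at h3 ⊢
    rw [h3, hG]
    simp
  obtain ⟨μ, hμ, hBt, hAt⟩ := kron_inj htr hA0 hB0
  have hμμ : μ⁻¹ * μ⁻¹ = 1 := by
    have h1 := congrArg Matrix.transpose hAt
    rw [Matrix.transpose_transpose, Matrix.transpose_smul, hAt, smul_smul] at h1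
    obtain ⟨i, j, hij⟩ : ∃ i j, A i j ≠ 0 := by
      by_contra hne; push Not at hne; exact hA0 (Matrix.ext hne)
    have h3 := congrFun (congrFun h1 i) j
    rw [Matrix.smul_apply, smul_eq_mul] at h3
    exact (mul_eq_right₀ hij).1 h3.symm
  by_cases h2 : (2 : F) = 0
  · right
    have hone : μ = 1 := by
      have h1 : (μ⁻¹ - 1) * (μ⁻¹ - 1) = 0 := by linear_combination hμμ - (μ⁻¹ - 1) * h2
      exact inv_eq_one.1 (sub_eq_zero.1 (mul_self_eq_zero.1 h1))
    subst hone
    rw [inv_one, one_smul] at hAt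
    rw [one_smul] at hBt
    have hneg : ∀ x : F, -x = x := fun x => by linear_combination (-x) * h2
    have hBsym : Bᵀ = B := Matrix.ext fun i j => by
      rw [← congrFun (congrFun hBt i) j, Matrix.neg_apply, hneg]
    have hdiag : (∀ i, A i i = 0) ∧ ∀ c, B c c = 0 := by
      have hprod : ∀ i c, A i i * B c c = 0 := fun i c => by
        have h1 := gC_diag e P (i, c)
        rw [hG] at h1
        exact h1
      -- an additive semilinear map which is not alternating cuts out an invariant subspace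
      have key : ∀ {n : ℕ}, 2 ≤ n → ∀ (C : Matrix (Fin n) (Fin n) F), Cᵀ = C →
          ∀ i, C i i ≠ 0 → ∃ W : Submodule F (Fin n → F), W ≠ ⊥ ∧ W ≠ ⊤ ∧
            ∀ x : GL (Fin n) F, ∀ ν : F, x.valᵀ * C * x.val = ν • C → ∀ w ∈ W, x.val *ᵥ w ∈ W := by
        intro n hn C hC i hi
        have hadd : ∀ u v, (u + v) ⬝ᵥ C *ᵥ (u + v) = u ⬝ᵥ C *ᵥ u + v ⬝ᵥ C *ᵥ v := fun u v => by
          simp only [Matrix.mulVec_add, dotProduct_add, add_dotProduct]
          have h3 : u ⬝ᵥ C *ᵥ v = v ⬝ᵥ C *ᵥ u := by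
            rw [← formOfGram_mat, formOfGram_swap, hC, formOfGram_mat]
          rw [h3]
          linear_combination (v ⬝ᵥ C *ᵥ u) * h2
        let W : Submodule F (Fin n → F) :=
          { carrier := {v | v ⬝ᵥ C *ᵥ v = 0}
            add_mem' := fun {a b} ha hb => by
              show (a + b) ⬝ᵥ C *ᵥ (a + b) = 0
              rw [hadd, show a ⬝ᵥ C *ᵥ a = 0 from ha, show b ⬝ᵥ C *ᵥ b = 0 from hb, add_zero]
            zero_mem' := by simp
            smul_mem' := fun c v hv => by
              show (c • v) ⬝ᵥ C *ᵥ (c • v) = 0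
              simp [Matrix.mulVec_smul, show v ⬝ᵥ C *ᵥ v = 0 from hv] }
        refine ⟨W, ?_, ?_, ?_⟩
        · intro hbot
          have hinj : Function.Injective fun v : Fin n → F => v ⬝ᵥ C *ᵥ v := fun u v huv => by
            have h0 : u + v ∈ W := by
              show (u + v) ⬝ᵥ C *ᵥ (u + v) = 0
              rw [hadd]
              simp only at huv
              rw [huv]
              linear_combination (v ⬝ᵥ C *ᵥ v) * h2
            rw [hbot, Submodule.mem_bot] at h0
            funext l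
            have h3 := congrFun h0 l
            simp only [Pi.add_apply, Pi.zero_apply] at h3
            linear_combination h3 - (v l) * h2
          have h1 := Nat.card_le_card_of_injective _ hinj
          rw [Nat.card_fun, Nat.card_fin] at h1
          have h3 := (Nat.pow_le_pow_iff_right (m := 1) (n := n) (a := Nat.card F)
            (by rw [Nat.card_eq_fintype_card]; exact Fintype.one_lt_card)).1 (by rwa [pow_one])
          omega
        · intro htop
          have h1 : Pi.single i (1 : F) ∈ W := htop ▸ Submodule.mem_top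
          exact hi (by simpa [W, Matrix.mulVec_single_one] using h1)
        · intro x ν hx w hw
          show (x.val *ᵥ w) ⬝ᵥ C *ᵥ (x.val *ᵥ w) = 0
          rw [show (x.val *ᵥ w) ⬝ᵥ C *ᵥ (x.val *ᵥ w) = w ⬝ᵥ (x.valᵀ * C * x.val) *ᵥ w by
              rw [← Matrix.mulVec_mulVec, ← Matrix.mulVec_mulVec, Matrix.dotProduct_mulVec w, Matrix.vecMul_transpose],
            hx, Matrix.smul_mulVec, dotProduct_smul, show w ⬝ᵥ C *ᵥ w = 0 from hw, smul_zero]
      have hsim : ∀ g ∈ H, ∃ (a : GL (Fin d) F) (b : GL (Fin k) F), g.val = tm e P (a.val ⊗ₖ b.val) ∧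
          ∃ ν : F, b.valᵀ * B * b.val = ν • B ∧ a.valᵀ * A * a.val = ν⁻¹ • A := by
        intro g hg
        obtain ⟨a, b, hab⟩ := hold g hg
        have h1 := gC_fix e P (hH hg) hab
        rw [hG, kron_comp_left, ← Matrix.mul_kronecker_mul, ← Matrix.mul_kronecker_mul] at h1
        obtain ⟨ν, -, hb, ha⟩ := kron_inj h1 hA0 hB0
        exact ⟨a, b, hab, ν, hb, ha⟩
      have hspace : ∀ (p : (Fin d × Fin k → F) → Prop), p 0 → (∀ x y, p x → p y → p (x + y)) →
          (∀ (c : F) x, p x → p (c • x)) → (∃ x, x ≠ 0 ∧ p x) → (∃ x, ¬ p x) →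
          (∀ g ∈ H, ∀ x, p x → ∃ y, p y ∧ g.val *ᵥ (P.val *ᵥ (x ∘ e)) = P.val *ᵥ (y ∘ e)) → False := by
        intro p p0 padd psmul ⟨x, hx0, hx⟩ ⟨z, hz⟩ pinv
        let U : Submodule F (Ix m → F) :=
          { carrier := {v | p (((P⁻¹).val *ᵥ v) ∘ e.symm)}
            add_mem' := fun {a b} ha hb => by
              show p _
              rw [Matrix.mulVec_add]
              exact padd _ _ ha hb
            zero_mem' := by
              show p _
              rw [Matrix.mulVec_zero]
              exact p0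
            smul_mem' := fun c v hv => by
              show p _
              rw [Matrix.mulVec_smul]
              exact psmul c _ hv }
        have hmem : ∀ y, P.val *ᵥ (y ∘ e) ∈ U ↔ p y := fun y => by
          show p _ ↔ _
          rw [inv_mulVec_mulVec, show (y ∘ e) ∘ e.symm = y from funext fun i => by simp]
        rcases irr_iff.1 hirr U (fun g hg v hv => by
          obtain ⟨y, hy, he⟩ := pinv g hg _ hv
          rw [show (((P⁻¹).val *ᵥ v) ∘ e.symm) ∘ e = (P⁻¹).val *ᵥ v from funext fun i => by simp,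
            mulVec_inv_mulVec] at he
          rw [he, hmem]
          exact hy) with h | h
        · have h1 := (hmem x).2 hx
          rw [h, Submodule.mem_bot] at h1
          refine hx0 (funext fun i => ?_)
          have h3 := congrArg ((P⁻¹).val *ᵥ ·) h1
          simp only [inv_mulVec_mulVec, Matrix.mulVec_zero] at h3
          simpa using congrFun h3 (e.symm i)
        · exact hz ((hmem z).1 (h ▸ Submodule.mem_top))
      constructor
      · intro i
        by_contra hi
        obtain ⟨W, hW0, hW1, hWinv⟩ := key hd A hAt i hi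
        obtain ⟨w, hw, hw0⟩ := Submodule.exists_mem_ne_zero_of_ne_bot hW0
        obtain ⟨z, -, hz⟩ := SetLike.exists_of_lt (lt_top_iff_ne_top.2 hW1)
        refine hspace (fun x => ∀ c, (fun b => x (b, c)) ∈ W) (fun c => W.zero_mem)
          (fun x y hx hy c => W.add_mem (hx c) (hy c)) (fun s x hx c => W.smul_mem s (hx c))
          ⟨fun bc => w bc.1, fun h => hw0 (funext fun b => congrFun h (b, ⟨0, by omega⟩)), fun c => hw⟩
          ⟨fun bc => z bc.1, fun h => hz (h ⟨0, by omega⟩)⟩ ?_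
        intro g hg x hx
        obtain ⟨a, b, hab, ν, -, ha⟩ := hsim g hg
        refine ⟨(a.val ⊗ₖ b.val) *ᵥ x, fun c => ?_, by rw [hab, tm_act]⟩
        have h1 : (fun i => ((a.val ⊗ₖ b.val) *ᵥ x) (i, c)) = ∑ c', b.val c c' • (a.val *ᵥ fun i => x (i, c')) := by
          funext i
          simp only [Matrix.mulVec, dotProduct, Fintype.sum_prod_type, Matrix.kroneckerMap_apply, Finset.sum_apply,
            Pi.smul_apply, smul_eq_mul, Finset.mul_sum]
          rw [Finset.sum_comm]
          exact Finset.sum_congr rfl fun _ _ => Finset.sum_congr rfl fun _ _ => by ring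
        rw [h1]
        exact W.sum_mem fun c' _ => W.smul_mem _ (hWinv a _ ha _ (hx c'))
      · intro i
        by_contra hi
        obtain ⟨W, hW0, hW1, hWinv⟩ := key hk B hBsym i hi
        obtain ⟨w, hw, hw0⟩ := Submodule.exists_mem_ne_zero_of_ne_bot hW0
        obtain ⟨z, -, hz⟩ := SetLike.exists_of_lt (lt_top_iff_ne_top.2 hW1)
        refine hspace (fun x => ∀ b, (fun c => x (b, c)) ∈ W) (fun c => W.zero_mem)
          (fun x y hx hy c => W.add_mem (hx c) (hy c)) (fun s x hx c => W.smul_mem s (hx c))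
          ⟨fun bc => w bc.2, fun h => hw0 (funext fun c => congrFun h (⟨0, by omega⟩, c)), fun c => hw⟩
          ⟨fun bc => z bc.2, fun h => hz (h ⟨0, by omega⟩)⟩ ?_
        intro g hg x hx
        obtain ⟨a, b, hab, ν, hb, -⟩ := hsim g hg
        refine ⟨(a.val ⊗ₖ b.val) *ᵥ x, fun i => ?_, by rw [hab, tm_act]⟩
        have h1 : (fun c => ((a.val ⊗ₖ b.val) *ᵥ x) (i, c)) = ∑ i', a.val i i' • (b.val *ᵥ fun c => x (i', c)) := by
          funext c
          simp only [Matrix.mulVec, dotProduct, Fintype.sum_prod_type, Matrix.kroneckerMap_apply, Finset.sum_apply,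
            Pi.smul_apply, smul_eq_mul, Finset.mul_sum]
          exact Finset.sum_congr rfl fun _ _ => Finset.sum_congr rfl fun _ _ => by ring
        rw [h1]
        exact W.sum_mem fun i' _ => W.smul_mem _ (hWinv b _ hb _ (hx i'))
    let UA : Matrix (Fin d) (Fin d) F := Matrix.of fun i j => if i < j then A i j else 0
    have hUA : UA + UAᵀ = A := by
      refine Matrix.ext fun i j => ?_
      simp only [UA, Matrix.add_apply, Matrix.transpose_apply, Matrix.of_apply]
      rcases lt_trichotomy i j with h | h | h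
      · simp [h, h.asymm]
      · subst h; simp [hdiag.1 i]
      · simp [h, h.asymm, show A j i = A i j from congrFun (congrFun hAt i) j]
    have hBalt : ∀ w : Fin k → F, w ⬝ᵥ B *ᵥ w = 0 := fun w => by
      let UB : Matrix (Fin k) (Fin k) F := Matrix.of fun i j => if i < j then B i j else 0
      have hUB : UB + UBᵀ = B := by
        refine Matrix.ext fun i j => ?_
        simp only [UB, Matrix.add_apply, Matrix.transpose_apply, Matrix.of_apply]
        rcases lt_trichotomy i j with h | h | h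
        · simp [h, h.asymm]
        · subst h; simp [hdiag.2 i]
        · simp [h, h.asymm, show B j i = B i j from congrFun (congrFun hBsym i) j]
      rw [← hUB, Matrix.add_mulVec, dotProduct_add, ← formOfGram_mat UBᵀ, formOfGram_swap, Matrix.transpose_transpose,
        formOfGram_mat]
      linear_combination (w ⬝ᵥ UB *ᵥ w) * h2
    refine quad_coord e P h2 hH (U := UA ⊗ₖ B) ?_
      (S := Set.range fun uw : (Fin d → F) × (Fin k → F) => fun bc => uw.1 bc.1 * uw.2 bc.2) ?_ ?_ ?_
    · rw [kron_comp_left, hBsym, ← Matrix.add_kronecker, hUA, hG]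
    · rintro ⟨b, c⟩
      exact ⟨(Pi.single b 1, Pi.single c 1), funext fun ⟨b', c'⟩ => by
        by_cases h : b' = b <;> simp [Pi.single_apply, Prod.ext_iff, h]⟩
    · rintro _ ⟨⟨u, w⟩, rfl⟩
      rw [kron_mulVec_pure, pure_dot, hBalt, mul_zero]
    · rintro g hg _ ⟨⟨u, w⟩, rfl⟩
      obtain ⟨a, b, hab⟩ := hold g hg
      refine ⟨_, ⟨(a.val *ᵥ u, b.val *ᵥ w), rfl⟩, ?_⟩
      rw [hab, tm_act, kron_mulVec_pure]
  left
  refine ⟨h2, ?_⟩
  rcases mul_self_eq_one_iff.1 hμμ with h | h
  · -- `A` symmetric, `B` alternating: exchange the factors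
    rw [inv_eq_one] at h
    subst h
    rw [inv_one, one_smul] at hAt
    rw [one_smul, neg_eq_iff_eq_neg] at hBt
    refine pair_cases h2 hH hirr hk hd (e := e.trans (Equiv.prodComm _ _)) (P := P) (A := B) (B := A) ?_ ?_ hBt hAt
    · intro g hg
      obtain ⟨a, b, hab⟩ := hold g hg
      refine ⟨b, a, ?_⟩
      rw [hab, tm, tm]
      congr 2
      exact Matrix.ext fun i j => mul_comm _ _
    · refine Matrix.ext fun i j => ?_
      have h1 := congrFun (congrFun hG i.swap) j.swap
      simp only [gC, Matrix.submatrix_apply, Equiv.symm_trans_apply, Equiv.prodComm_symm, Equiv.prodComm_apply,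
        Matrix.kroneckerMap_apply, Prod.fst_swap, Prod.snd_swap] at h1 ⊢
      rw [h1, mul_comm]
  · have hμ1 : μ = -1 := by rw [← inv_inv μ, h, inv_neg, inv_one]
    subst hμ1
    rw [h, neg_one_smul] at hAt
    rw [neg_one_smul, neg_inj] at hBt
    exact pair_cases h2 hH hirr hd hk hold hG hAt hBt

end Cfsg.Lib.Linear.AschSp
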