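import Cfsg.Prelude.Def_GeometricClasses
import Cfsg.Agent.Lib.Linear.SymplecticGroup
import Cfsg.Agent.Lib.Linear.Aschbacher.Forms

/-!
# The standard symplectic form: adjoints, perpendiculars and reducible subgroups
-/

set_option autoImplicit false
set_option linter.unusedSectionVars false
set_option linter.style.haveILetI false

namespace Cfsg.Lib.Linear.AschSp

open Cfsg.Geo Cfsg.Lib.Linear Cfsg.Lib.Linear.Asch
open scoped Matrix MatrixGroups

variable {m : ℕ} {F : Type*} [Field F]

/-- The index type of the symplectic space. -/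
abbrev Ix (m : ℕ) : Type := Fin m ⊕ Fin m

theorem sp_bilinear : IsBilinearForm (Cfsg.sympForm m F) where
  add_left x y v := by simp only [Cfsg.sympForm, add_dotProduct]
  smul_left c x v := by simp only [Cfsg.sympForm, smul_dotProduct, smul_eq_mul]
  add_right v x y := by simp only [Cfsg.sympForm, Matrix.mulVec_add, dotProduct_add]
  smul_right c v x := by simp only [Cfsg.sympForm, Matrix.mulVec_smul, dotProduct_smul, smul_eq_mul]

theorem sp_alt (v : Ix m → F) : Cfsg.sympForm m F v v = 0 := by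
  rw [← Symp.spB_apply]; exact Symp.spB_isAlt m F v

theorem sp_skew (u v : Ix m → F) : Cfsg.sympForm m F u v = - Cfsg.sympForm m F v u := by
  rw [← Symp.spB_apply, ← Symp.spB_apply]
  exact (LinearMap.IsAlt.neg (Symp.spB_isAlt m F) v u).symm

theorem sp_refl {u v : Ix m → F} (h : Cfsg.sympForm m F u v = 0) : Cfsg.sympForm m F v u = 0 := by
  rw [sp_skew, h, neg_zero]

theorem sp_nondeg : IsNondegenerateForm (Cfsg.sympForm m F) := by
  intro v hv
  have h : ∃ x, Cfsg.sympForm m F v x ≠ 0 := by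
    by_contra hne
    push Not at hne
    exact hv ((Symp.spB_nondegenerate m F).1 v fun x => (Symp.spB_apply m F v x).trans (hne x))
  obtain ⟨x, hx⟩ := h
  exact ⟨⟨x, fun hx' => hx (sp_refl hx')⟩, ⟨x, hx⟩⟩

theorem sp_symplectic : IsSymplecticForm (Cfsg.sympForm m F) :=
  ⟨sp_bilinear, sp_skew, sp_alt, sp_nondeg⟩

theorem sp_sesq : IsSesq (RingEquiv.refl F) (Cfsg.sympForm m F) :=
  isSesq_of_bilinear sp_bilinear sp_nondeg

theorem mem_spGL {g : GL (Ix m) F} : g ∈ Cfsg.spGL m F ↔
    ∀ u v, Cfsg.sympForm m F (g.val *ᵥ u) (g.val *ᵥ v) = Cfsg.sympForm m F u v := Iff.rfl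

theorem fixesForm {H : Subgroup (GL (Ix m) F)} (hH : H ≤ Cfsg.spGL m F) :
    FixesForm (matrixSet H) (Cfsg.sympForm m F) := by
  rintro _ ⟨g, hg, rfl⟩ u v
  exact mem_spGL.1 (hH hg) u v

/-- The adjoint of a matrix for the standard symplectic form. -/
noncomputable def adjM (M : Matrix (Ix m) (Ix m) F) : Matrix (Ix m) (Ix m) F :=
  (Matrix.J (Fin m) F)⁻¹ * Mᵀ * Matrix.J (Fin m) F

theorem adjM_spec (M : Matrix (Ix m) (Ix m) F) (u v : Ix m → F) :
    Cfsg.sympForm m F (M *ᵥ u) v = Cfsg.sympForm m F u (adjM M *ᵥ v) := by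
  simp only [Cfsg.sympForm, adjM, Matrix.mulVec_mulVec, ← Matrix.mul_assoc,
    Matrix.mul_nonsing_inv _ (Matrix.isUnit_det_J (Fin m) F), Matrix.one_mul]
  rw [← Matrix.mulVec_mulVec, ← Matrix.vecMul_transpose, ← Matrix.dotProduct_mulVec]

theorem adjM_unique {M M' : Matrix (Ix m) (Ix m) F}
    (h : ∀ u v, Cfsg.sympForm m F (M *ᵥ u) v = Cfsg.sympForm m F u (M' *ᵥ v)) : adjM M = M' := by
  refine Matrix.ext fun i j => ?_
  have h1 : ∀ v, adjM M *ᵥ v = M' *ᵥ v := fun v => by
    by_contra hne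
    obtain ⟨x, hx⟩ := (sp_nondeg _ (sub_ne_zero.2 hne)).1
    apply hx
    have h2 : ∀ a b, Cfsg.sympForm m F x (a - b) = Cfsg.sympForm m F x a - Cfsg.sympForm m F x b :=
      fun a b => by simp only [Cfsg.sympForm, Matrix.mulVec_sub, dotProduct_sub]
    rw [h2, ← adjM_spec, h, sub_self]
  simpa [Matrix.mulVec_single_one] using congrFun (h1 (Pi.single j 1)) i

theorem adjM_mul (M N : Matrix (Ix m) (Ix m) F) : adjM (M * N) = adjM N * adjM M :=
  adjM_unique fun u v => by
    rw [← Matrix.mulVec_mulVec, ← Matrix.mulVec_mulVec, adjM_spec, adjM_spec]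

theorem adjM_adjM (M : Matrix (Ix m) (Ix m) F) : adjM (adjM M) = M :=
  adjM_unique fun u v => by rw [sp_skew, ← adjM_spec, ← sp_skew]

theorem adjM_one : adjM (1 : Matrix (Ix m) (Ix m) F) = 1 :=
  adjM_unique fun u v => by rw [Matrix.one_mulVec, Matrix.one_mulVec]

theorem adjM_add (M N : Matrix (Ix m) (Ix m) F) : adjM (M + N) = adjM M + adjM N := by
  simp only [adjM, Matrix.transpose_add, Matrix.mul_add, Matrix.add_mul]

theorem adjM_zero : adjM (0 : Matrix (Ix m) (Ix m) F) = 0 := by
  simp [adjM]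

theorem adjM_smul (c : F) (M : Matrix (Ix m) (Ix m) F) : adjM (c • M) = c • adjM M := by
  simp only [adjM, Matrix.transpose_smul, Matrix.mul_smul, Matrix.smul_mul]

theorem adjM_algebraMap (c : F) :
    adjM (algebraMap F (Matrix (Ix m) (Ix m) F) c) = algebraMap F (Matrix (Ix m) (Ix m) F) c := by
  rw [Algebra.algebraMap_eq_smul_one, adjM_smul, adjM_one]

theorem adjM_of_mem {g : GL (Ix m) F} (hg : g ∈ Cfsg.spGL m F) : adjM g.val = (g⁻¹).val :=
  adjM_unique fun u v => by
    conv_rhs => rw [← mem_spGL.1 hg, mulVec_inv_mulVec]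

/-- The adjoint preserves the algebra generated by a group of isometries. -/
theorem adjM_mem_adjoin {N : Subgroup (GL (Ix m) F)} (hN : N ≤ Cfsg.spGL m F)
    {M : Matrix (Ix m) (Ix m) F} (hM : M ∈ Algebra.adjoin F (matrixSet N)) :
    adjM M ∈ Algebra.adjoin F (matrixSet N) := by
  induction hM using Algebra.adjoin_induction with
  | mem x hx =>
    obtain ⟨g, hg, rfl⟩ := hx
    rw [adjM_of_mem (hN hg)]
    exact Algebra.subset_adjoin (mem_matrixSet (inv_mem hg))
  | algebraMap c => rw [adjM_algebraMap]; exact Subalgebra.algebraMap_mem _ c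
  | add x y _ _ hx hy => rw [adjM_add]; exact add_mem hx hy
  | mul x y _ _ hx hy => rw [adjM_mul]; exact mul_mem hy hx

/-- The adjoint preserves the centraliser of a group of isometries. -/
theorem adjM_mem_centralizer {N : Subgroup (GL (Ix m) F)} (hN : N ≤ Cfsg.spGL m F)
    {M : Matrix (Ix m) (Ix m) F} (hM : M ∈ Subalgebra.centralizer F (matrixSet N)) :
    adjM M ∈ Subalgebra.centralizer F (matrixSet N) := by
  rw [Subalgebra.mem_centralizer_iff] at hM ⊢
  rintro _ ⟨g, hg, rfl⟩
  have h1 := congrArg adjM (hM _ (mem_matrixSet (inv_mem hg)))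
  rwa [adjM_mul, adjM_mul, adjM_of_mem (hN (inv_mem hg)), inv_inv, eq_comm] at h1

/-- The centre of the centraliser of a group of isometries is stable under the adjoint. -/
theorem adjM_mem_bicomm {N : Subgroup (GL (Ix m) F)} (hN : N ≤ Cfsg.spGL m F)
    {M : Matrix (Ix m) (Ix m) F}
    (hM : M ∈ Subalgebra.centralizer F (matrixSet N) ⊓
      Subalgebra.centralizer F (Subalgebra.centralizer F (matrixSet N) : Set (Matrix (Ix m) (Ix m) F))) :
    adjM M ∈ Subalgebra.centralizer F (matrixSet N) ⊓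
      Subalgebra.centralizer F (Subalgebra.centralizer F (matrixSet N) : Set (Matrix (Ix m) (Ix m) F)) := by
  rw [Algebra.mem_inf] at hM ⊢
  refine ⟨adjM_mem_centralizer hN hM.1, ?_⟩
  rw [Subalgebra.mem_centralizer_iff]
  intro x hx
  have h1 := (Subalgebra.mem_centralizer_iff F).1 hM.2 _ (adjM_mem_centralizer hN hx)
  have h2 := congrArg adjM h1
  rwa [adjM_mul, adjM_mul, adjM_adjM, eq_comm] at h2

/-! ### Perpendiculars -/

/-- The perpendicular of a subspace. -/
noncomputable def perp (W : Submodule F (Ix m → F)) : Submodule F (Ix m → F) :=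
  (Symp.spB m F).orthogonal W

theorem mem_perp {W : Submodule F (Ix m → F)} {v : Ix m → F} :
    v ∈ perp W ↔ ∀ w ∈ W, Cfsg.sympForm m F w v = 0 := by
  rw [perp, LinearMap.BilinForm.mem_orthogonal_iff]
  exact forall₂_congr fun w _ => by rw [Symp.spB_apply]

theorem finrank_perp (W : Submodule F (Ix m → F)) :
    Module.finrank F (perp W) + Module.finrank F W = 2 * m := by
  have h := LinearMap.BilinForm.finrank_add_finrank_orthogonal' (B := Symp.spB m F) W
  rw [(Symp.spB_nondegenerate m F).ker_eq_bot, inf_bot_eq, finrank_bot, add_zero, Symp.finrank_space,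
    add_comm] at h
  exact h

theorem invSub_perp {H : Subgroup (GL (Ix m) F)} (hH : H ≤ Cfsg.spGL m F) {W : Submodule F (Ix m → F)}
    (hW : InvSub H W) : InvSub H (perp W) := by
  intro g hg v hv
  rw [mem_perp] at hv ⊢
  intro w hw
  rw [← mulVec_inv_mulVec g w, mem_spGL.1 (hH hg)]
  exact hv _ (hW g⁻¹ (inv_mem hg) w hw)

theorem invSub_inf {H : Subgroup (GL (Ix m) F)} {W W' : Submodule F (Ix m → F)}
    (h : InvSub H W) (h' : InvSub H W') : InvSub H (W ⊓ W') :=
  fun g hg v hv => ⟨h g hg v hv.1, h' g hg v hv.2⟩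

theorem totSing_iff {W : Submodule F (Ix m → F)} :
    IsTotallySingularFor (Cfsg.sympForm m F) W ↔ W ≤ perp W :=
  ⟨fun h v hv => mem_perp.2 fun w hw => h w hw v hv, fun h u hu v hv => mem_perp.1 (h hv) u hu⟩

theorem nondegOn_of_inf_perp {W : Submodule F (Ix m → F)} (h : W ⊓ perp W = ⊥) :
    IsNondegenerateOn (Cfsg.sympForm m F) W := by
  intro w hw hw0
  have h1 : ∃ x ∈ W, Cfsg.sympForm m F x w ≠ 0 := by
    by_contra hne
    push Not at hne
    exact hw0 ((Submodule.mem_bot F).1 (h ▸ Submodule.mem_inf.2 ⟨hw, mem_perp.2 hne⟩))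
  obtain ⟨x, hx, hxw⟩ := h1
  exact ⟨⟨x, hx, hxw⟩, ⟨x, hx, fun h' => hxw (sp_refl h')⟩⟩

theorem le_subspaceStabilizer [Finite F] {H : Subgroup (GL (Ix m) F)} {W : Submodule F (Ix m → F)}
    (hW : InvSub H W) : H ≤ subspaceStabilizer W :=
  fun g hg => mem_subspaceStabilizer_of_inv fun w hw => hW g hg w hw

theorem map_eq_of_inv [Finite F] {H : Subgroup (GL (Ix m) F)} {W : Submodule F (Ix m → F)}
    (hW : InvSub H W) {g : GL (Ix m) F} (hg : g ∈ H) : W.map (Matrix.toLin' g.val) = W := by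
  ext v
  rw [← show move g W = W.map (Matrix.toLin' g.val) from rfl, mem_move]
  constructor
  · rintro ⟨w, hw, rfl⟩; exact hW g hg w hw
  · exact fun hv => ⟨_, hW g⁻¹ (inv_mem hg) v hv, mulVec_inv_mulVec g v⟩

/-- A reducible group of isometries fixes a totally singular subspace, a small non-degenerate one,
or a pair of perpendicular non-degenerate subspaces of dimension `m`. -/
theorem reducible_cases [Finite F] {H : Subgroup (GL (Ix m) F)} (hH : H ≤ Cfsg.spGL m F)
    (hred : ¬ ActsIrreducibly (matrixSet H)) :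
    (∃ W : Submodule F (Ix m → F), W ≠ ⊥ ∧ IsTotallySingularFor (Cfsg.sympForm m F) W ∧
      H ≤ subspaceStabilizer W) ∨
    (∃ W : Submodule F (Ix m → F), W ≠ ⊥ ∧ IsNondegenerateOn (Cfsg.sympForm m F) W ∧
      Module.finrank F W < m ∧ H ≤ subspaceStabilizer W) ∨
    (∃ D : Fin 2 → Submodule F (Ix m → F), IsNondegenerateMDecomposition (Cfsg.sympForm m F) m D ∧
      H ≤ decompositionStabilizer D) := by
  rw [irr_iff] at hred
  push Not at hred
  obtain ⟨W, hW, h0, h1⟩ := hred
  by_cases hrad : W ⊓ perp W = ⊥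
  swap
  · exact Or.inl ⟨W ⊓ perp W, hrad,
      fun u hu v hv => mem_perp.1 hv.2 u hu.1,
      le_subspaceStabilizer (invSub_inf hW (invSub_perp hH hW))⟩
  right
  have hdim := finrank_perp W
  have hcompl : IsCompl W (perp W) := by
    refine ⟨disjoint_iff.2 hrad, codisjoint_iff.2 ?_⟩
    refine Submodule.eq_top_of_finrank_eq ?_
    have h2 := Submodule.finrank_sup_add_finrank_inf_eq W (perp W)
    rw [hrad, finrank_bot] at h2
    rw [Symp.finrank_space]
    omega
  have hW' : perp W ≠ ⊥ := fun h => by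
    rw [h, finrank_bot] at hdim
    exact h1 (Submodule.eq_top_of_finrank_eq (by rw [Symp.finrank_space]; omega))
  have hnd' : perp W ⊓ perp (perp W) = ⊥ := by
    rw [eq_bot_iff]
    rintro v ⟨hv, hv'⟩
    rw [Submodule.mem_bot]
    by_contra hne
    obtain ⟨x, hx⟩ := (sp_nondeg v hne).1
    apply hx
    obtain ⟨a, ha, b, hb, rfl⟩ := Submodule.mem_sup.1 (hcompl.sup_eq_top ▸ Submodule.mem_top (x := x))
    rw [sp_bilinear.add_left, mem_perp.1 hv a ha, mem_perp.1 hv' b hb, add_zero]
  rcases lt_trichotomy (Module.finrank F W) m with hlt | heq | hgt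
  · exact Or.inl ⟨W, h0, nondegOn_of_inf_perp hrad, hlt, le_subspaceStabilizer hW⟩
  · right
    have hm : 0 < m := by
      rw [← heq]
      exact Nat.pos_of_ne_zero fun h => h0 (Submodule.finrank_eq_zero.1 h)
    refine ⟨![W, perp W], ⟨⟨le_rfl, hm, ?_, ?_, ?_⟩, ?_, ?_⟩, ?_⟩
    · intro i; fin_cases i
      · exact heq
      · show Module.finrank F (perp W) = m
        omega
    · rw [iSupIndep_def]
      intro i
      have hb : ∀ p : Fin 2 → Submodule F (Ix m → F), (⨆ j, ⨆ (_ : j ≠ i), p j) ≤ p (i + 1) := by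
        intro p
        refine iSup₂_le fun j hj => le_of_eq ?_
        congr 1
        revert hj; revert i j; decide
      refine Disjoint.mono_right (hb _) ?_
      fin_cases i
      · simpa using hcompl.disjoint
      · simpa using hcompl.disjoint.symm
    · rw [eq_top_iff, ← hcompl.sup_eq_top]
      exact sup_le (le_iSup_of_le 0 le_rfl) (le_iSup_of_le 1 le_rfl)
    · intro i; fin_cases i
      · exact nondegOn_of_inf_perp hrad
      · exact nondegOn_of_inf_perp hnd'
    · intro i j hij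
      fin_cases i <;> fin_cases j <;> simp at hij
      · exact fun u hu v hv => mem_perp.1 hv u hu
      · exact fun u hu v hv => sp_refl (mem_perp.1 hu v hv)
    · intro g hg
      refine ⟨1, fun i => ?_⟩
      fin_cases i
      · exact map_eq_of_inv hW hg
      · exact map_eq_of_inv (invSub_perp hH hW) hg
  · exact Or.inl ⟨perp W, hW', nondegOn_of_inf_perp hnd', by omega, le_subspaceStabilizer (invSub_perp hH hW)⟩

end Cfsg.Lib.Linear.AschSp
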