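import Cfsg.Agent.Lib.Linear.AschSp.Field

/-!
# Matrices and forms in the coordinates of a frame
-/

set_option autoImplicit false
set_option linter.unusedSectionVars false
set_option linter.style.haveILetI false

namespace Cfsg.Lib.Linear.AschSp

open Cfsg.Geo Cfsg.Lib.Linear Cfsg.Lib.Linear.Asch
open scoped Matrix MatrixGroups Kronecker

variable {m : ℕ} {F : Type*} [Field F] {H : Subgroup (GL (Ix m) F)}
  {β : Type} [Fintype β] [DecidableEq β] (e : Ix m ≃ β) (P : GL (Ix m) F)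

theorem gram_sp : gramMatrix (Cfsg.sympForm m F) = Matrix.J (Fin m) F := by
  refine Matrix.ext fun a b => ?_
  simp [gramMatrix, Cfsg.sympForm, Matrix.mulVec_single_one]

/-- The matrix with coordinate matrix `X` in the frame `(e, P)`. -/
def tm (X : Matrix β β F) : Matrix (Ix m) (Ix m) F := P.val * X.submatrix e e * (P⁻¹).val

/-- The Gram matrix of the symplectic form in the frame `(e, P)`. -/
def gC : Matrix β β F := (P.valᵀ * Matrix.J (Fin m) F * P.val).submatrix e.symm e.symm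

theorem tm_mul (X Y : Matrix β β F) : tm e P (X * Y) = tm e P X * tm e P Y := by
  simp only [tm, ← Matrix.submatrix_mul_equiv X Y e e e, Matrix.mul_assoc]
  rw [← Matrix.mul_assoc (P⁻¹).val P.val, ← Units.val_mul, inv_mul_cancel, Units.val_one, Matrix.one_mul]

theorem tm_one : tm e P (1 : Matrix β β F) = 1 := by
  rw [tm, Matrix.submatrix_one_equiv, Matrix.mul_one, ← Units.val_mul, mul_inv_cancel, Units.val_one]

theorem tm_smul (c : F) (X : Matrix β β F) : tm e P (c • X) = c • tm e P X := by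
  simp only [tm, Matrix.submatrix_smul, Pi.smul_apply, Matrix.mul_smul, Matrix.smul_mul]

theorem tm_add (X Y : Matrix β β F) : tm e P (X + Y) = tm e P X + tm e P Y := by
  simp only [tm, Matrix.submatrix_add, Pi.add_apply, Matrix.mul_add, Matrix.add_mul]

theorem tm_inj : Function.Injective (tm e P : Matrix β β F → Matrix (Ix m) (Ix m) F) := by
  intro X Y h
  have h1 := congrArg (fun z => (P⁻¹).val * z * P.val) h
  simp only [tm, ← Matrix.mul_assoc, ← Units.val_mul, inv_mul_cancel, Units.val_one, Matrix.one_mul] at h1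
  simp only [Matrix.mul_assoc, ← Units.val_mul, inv_mul_cancel, Units.val_one, Matrix.mul_one] at h1
  refine Matrix.ext fun i j => ?_
  simpa using congrFun (congrFun h1 (e.symm i)) (e.symm j)

theorem tm_glReindex (k : GL β F) :
    (P * glReindex e.symm k * P⁻¹).val = tm e P k.val := rfl

theorem tm_act (X : Matrix β β F) (x : β → F) :
    tm e P X *ᵥ (P.val *ᵥ (x ∘ e)) = P.val *ᵥ ((X *ᵥ x) ∘ e) := by
  rw [tm, ← Matrix.mulVec_mulVec, inv_mulVec_mulVec, ← Matrix.mulVec_mulVec, Matrix.submatrix_mulVec_equiv]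
  congr 2
  exact congrArg (fun z => X *ᵥ z) (funext fun i => by simp)

theorem coord_form (x y : β → F) :
    Cfsg.sympForm m F (P.val *ᵥ (x ∘ e)) (P.val *ᵥ (y ∘ e)) = x ⬝ᵥ gC e P *ᵥ y := by
  rw [gC, Matrix.submatrix_mulVec_equiv, Equiv.symm_symm, dotProduct_comp_equiv_symm,
    ← Matrix.mulVec_mulVec, ← Matrix.mulVec_mulVec, Matrix.dotProduct_mulVec (x ∘ e), Matrix.vecMul_transpose,
    Cfsg.sympForm]

theorem gC_transpose : (gC e P)ᵀ = -gC e P := by
  rw [gC, Matrix.transpose_submatrix, Matrix.transpose_mul, Matrix.transpose_mul, Matrix.transpose_transpose,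
    Matrix.J_transpose]
  simp only [Matrix.neg_mul, Matrix.mul_neg, Matrix.mul_assoc]
  rfl

theorem gC_diag (b : β) : gC e P b b = 0 := by
  have h := coord_form e P (Pi.single b (1 : F)) (Pi.single b 1)
  rw [sp_alt] at h
  simpa [Matrix.mulVec_single_one] using h.symm

theorem gC_isUnit : IsUnit (gC e P).det := by
  rw [gC, Matrix.det_submatrix_equiv_self, Matrix.det_mul, Matrix.det_mul, Matrix.det_transpose]
  exact ((P.isUnit.map Matrix.detMonoidHom).mul (Matrix.isUnit_det_J (Fin m) F)).mul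
    (P.isUnit.map Matrix.detMonoidHom)

theorem adjM_tm {X X' : Matrix β β F} (h : Xᵀ * gC e P = gC e P * X') :
    adjM (tm e P X) = tm e P X' := by
  refine adjM_unique fun u v => ?_
  have hu : u = P.val *ᵥ ((((P⁻¹).val *ᵥ u) ∘ e.symm) ∘ e) := by
    rw [show (((P⁻¹).val *ᵥ u) ∘ e.symm) ∘ e = (P⁻¹).val *ᵥ u from funext fun i => by simp, mulVec_inv_mulVec]
  have hv : v = P.val *ᵥ ((((P⁻¹).val *ᵥ v) ∘ e.symm) ∘ e) := by
    rw [show (((P⁻¹).val *ᵥ v) ∘ e.symm) ∘ e = (P⁻¹).val *ᵥ v from funext fun i => by simp, mulVec_inv_mulVec]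
  rw [hu, hv, tm_act, tm_act, coord_form, coord_form, ← Matrix.vecMul_transpose, ← Matrix.dotProduct_mulVec,
    Matrix.mulVec_mulVec, h, Matrix.mulVec_mulVec]

theorem tm_adjM {X X' : Matrix β β F} (h : adjM (tm e P X) = tm e P X') : Xᵀ * gC e P = gC e P * X' := by
  refine Matrix.ext fun i j => ?_
  have h1 := adjM_spec (tm e P X) (P.val *ᵥ ((Pi.single i (1 : F)) ∘ e)) (P.val *ᵥ ((Pi.single j (1 : F)) ∘ e))
  rw [h, tm_act, tm_act, coord_form, coord_form, ← Matrix.vecMul_transpose, ← Matrix.dotProduct_mulVec,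
    Matrix.mulVec_mulVec, Matrix.mulVec_mulVec] at h1
  simpa [Matrix.mulVec_single_one] using h1

theorem gC_fix {g : GL (Ix m) F} (hg : g ∈ Cfsg.spGL m F) {X : Matrix β β F} (hX : g.val = tm e P X) :
    Xᵀ * gC e P * X = gC e P := by
  refine Matrix.ext fun i j => ?_
  have h1 := mem_spGL.1 hg (P.val *ᵥ ((Pi.single i (1 : F)) ∘ e)) (P.val *ᵥ ((Pi.single j (1 : F)) ∘ e))
  rw [hX, tm_act, tm_act, coord_form, coord_form, ← Matrix.vecMul_transpose, ← Matrix.dotProduct_mulVec,
    Matrix.mulVec_mulVec, Matrix.mulVec_mulVec] at h1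
  simpa [Matrix.mulVec_single_one] using h1

omit [DecidableEq β] in
theorem formOfGram_mat (G : Matrix β β F) (x y : β → F) : formOfGram id G x y = x ⬝ᵥ G *ᵥ y := by
  simp only [formOfGram, dotProduct, Matrix.mulVec, Finset.mul_sum, id, mul_assoc]

theorem gram_formOfGram (A : Matrix β β F) : gramMatrix (formOfGram id A) = A := by
  refine Matrix.ext fun a b => ?_
  show formOfGram id A _ _ = _
  simp [formOfGram_mat, Matrix.mulVec_single_one]

theorem bilinear_formOfGram (A : Matrix β β F) : IsBilinearForm (formOfGram id A) := by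
  refine ⟨fun x y v => ?_, fun c x v => ?_, fun v x y => ?_, fun c v x => ?_⟩ <;> simp only [formOfGram_mat]
  · rw [add_dotProduct]
  · rw [smul_dotProduct, smul_eq_mul]
  · rw [Matrix.mulVec_add, dotProduct_add]
  · rw [Matrix.mulVec_smul, dotProduct_smul, smul_eq_mul]

theorem formOfGram_swap (A : Matrix β β F) (u v : β → F) : formOfGram id A u v = formOfGram id Aᵀ v u := by
  simp only [formOfGram_mat]
  rw [Matrix.dotProduct_mulVec, ← Matrix.mulVec_transpose, dotProduct_comm]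

theorem nondeg_formOfGram {A : Matrix β β F} (hA : IsUnit A.det) : IsNondegenerateForm (formOfGram id A) := by
  intro v hv
  have h0 : ∀ {B : Matrix β β F}, IsUnit B.det → B *ᵥ v ≠ 0 := fun {B} hB h => hv
    ((Matrix.mulVec_injective_iff_isUnit.2 ((Matrix.isUnit_iff_isUnit_det B).2 hB)) (by rw [h, Matrix.mulVec_zero]))
  have h1 : ∀ {B : Matrix β β F}, IsUnit B.det → ∃ x, formOfGram id B x v ≠ 0 := fun {B} hB => by
    obtain ⟨i, hi⟩ := Function.ne_iff.1 (h0 hB)
    exact ⟨Pi.single i 1, by simpa [formOfGram_mat] using hi⟩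
  obtain ⟨x, hx⟩ := h1 (B := Aᵀ) (by rwa [Matrix.det_transpose])
  exact ⟨h1 hA, x, by rwa [formOfGram_swap]⟩

theorem symm_formOfGram {A : Matrix β β F} (hA : IsUnit A.det) (hs : Aᵀ = A) :
    IsSymmetricForm (formOfGram id A) :=
  ⟨bilinear_formOfGram A, fun u v => by rw [formOfGram_swap, hs], nondeg_formOfGram hA⟩

theorem alt_of_skew {A : Matrix β β F} (h2 : (2 : F) ≠ 0) (hs : Aᵀ = -A) (v : β → F) : v ⬝ᵥ A *ᵥ v = 0 := by
  have h1 : v ⬝ᵥ A *ᵥ v = -(v ⬝ᵥ A *ᵥ v) := by
    conv_lhs => rw [← formOfGram_mat, formOfGram_swap, hs, formOfGram_mat, Matrix.neg_mulVec, dotProduct_neg]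
  exact (mul_eq_zero.1 (show (2 : F) * (v ⬝ᵥ A *ᵥ v) = 0 by linear_combination h1)).resolve_left h2

theorem symp_formOfGram {A : Matrix β β F} (h2 : (2 : F) ≠ 0) (hA : IsUnit A.det) (hs : Aᵀ = -A) :
    IsSymplecticForm (formOfGram id A) :=
  ⟨bilinear_formOfGram A, fun u v => by
      rw [formOfGram_swap, hs]; simp [formOfGram_mat, Matrix.neg_mulVec, dotProduct_neg],
    fun v => by rw [formOfGram_mat]; exact alt_of_skew h2 hs v, nondeg_formOfGram hA⟩

/-! ### Quadratic forms -/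

/-- A quadratic form polarising to the standard form whose values on a spanning set are preserved is
preserved. -/
theorem quad_span [Fintype F] (h2 : (2 : F) = 0) (hH : H ≤ Cfsg.spGL m F) {Q : (Ix m → F) → F}
    (hQ : ∀ (c : F) (v : Ix m → F), Q (c • v) = c ^ 2 * Q v)
    (hpol : ∀ u v, QuadraticMap.polar Q u v = Cfsg.sympForm m F u v)
    {S : Set (Ix m → F)} (hS : Submodule.span F S = ⊤) (hval : ∀ g ∈ H, ∀ s ∈ S, Q (g.val *ᵥ s) = Q s) :
    ¬ Odd (Fintype.card F) ∧ ∃ Q : (Ix m → F) → F, IsNondegenerateQuadraticForm Q ∧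
      (∀ u v, QuadraticMap.polar Q u v = Cfsg.sympForm m F u v) ∧ H ≤ quadSimilarityGroup Q := by
  refine ⟨not_odd_of_two_zero h2, Q, ⟨hQ, ?_, ?_⟩, hpol, fun g hg => ⟨1, fun v => ?_⟩⟩
  · rw [show QuadraticMap.polar Q = Cfsg.sympForm m F from funext fun u => funext (hpol u)]; exact sp_bilinear
  · rw [show QuadraticMap.polar Q = Cfsg.sympForm m F from funext fun u => funext (hpol u)]; exact sp_nondeg
  have hadd : ∀ u v, Q (u + v) = Q u + Q v + Cfsg.sympForm m F u v := fun u v => by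
    rw [← hpol, QuadraticMap.polar]; ring
  rw [Units.val_one, one_mul]
  have hv : v ∈ Submodule.span F S := hS ▸ Submodule.mem_top
  induction hv using Submodule.span_induction with
  | mem x hx => exact hval g hg x hx
  | zero => rw [Matrix.mulVec_zero]
  | add x y _ _ hx hy => rw [Matrix.mulVec_add, hadd, hadd, hx, hy, mem_spGL.1 (hH hg)]
  | smul c x _ hx => rw [Matrix.mulVec_smul, hQ, hQ, hx]

/-- A quadratic form given by a matrix in a frame, vanishing on a spanning set of vectors permuted by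
the group, is invariant. -/
theorem quad_coord [Fintype F] (h2 : (2 : F) = 0) (hH : H ≤ Cfsg.spGL m F) {U : Matrix β β F}
    (hU : U + Uᵀ = gC e P) {S : Set (β → F)} (hbasis : ∀ b, Pi.single b 1 ∈ S)
    (hzero : ∀ s ∈ S, s ⬝ᵥ U *ᵥ s = 0)
    (hperm : ∀ g ∈ H, ∀ s ∈ S, ∃ s' ∈ S, g.val *ᵥ (P.val *ᵥ (s ∘ e)) = P.val *ᵥ (s' ∘ e)) :
    ¬ Odd (Fintype.card F) ∧ ∃ Q : (Ix m → F) → F, IsNondegenerateQuadraticForm Q ∧
      (∀ u v, QuadraticMap.polar Q u v = Cfsg.sympForm m F u v) ∧ H ≤ quadSimilarityGroup Q := by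
  let c : (Ix m → F) → (β → F) := fun v => ((P⁻¹).val *ᵥ v) ∘ e.symm
  have hc : ∀ v, P.val *ᵥ (c v ∘ e) = v := fun v => by
    rw [show c v ∘ e = (P⁻¹).val *ᵥ v from funext fun i => by simp [c], mulVec_inv_mulVec]
  have hc' : ∀ x, c (P.val *ᵥ (x ∘ e)) = x := fun x => by
    simp only [c, inv_mulVec_mulVec]
    funext i
    simp
  have hcadd : ∀ u v, c (u + v) = c u + c v := fun u v => by
    simp only [c, Matrix.mulVec_add]; rfl
  refine quad_span h2 hH (Q := fun v => c v ⬝ᵥ U *ᵥ c v) (fun d v => ?_) (fun u v => ?_)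
    (S := (fun s => P.val *ᵥ (s ∘ e)) '' S) ?_ ?_
  · have : c (d • v) = d • c v := by simp only [c, Matrix.mulVec_smul]; rfl
    simp only [this, Matrix.mulVec_smul, dotProduct_smul, smul_dotProduct, smul_eq_mul]
    ring
  · rw [← hc u, ← hc v, coord_form, ← hU, hc, hc]
    simp only [QuadraticMap.polar, hcadd, Matrix.add_mulVec, Matrix.mulVec_add, add_dotProduct, dotProduct_add]
    have h3 : c u ⬝ᵥ Uᵀ *ᵥ c v = c v ⬝ᵥ U *ᵥ c u := by
      rw [Matrix.dotProduct_mulVec, Matrix.vecMul_transpose, dotProduct_comm]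
    rw [h3]
    ring
  · rw [eq_top_iff]
    intro v _
    rw [← hc v, show c v ∘ e = ∑ i, (c v (e i)) • (Pi.single (e i) (1 : F) ∘ e) by
      funext j; simp [Finset.sum_apply, Pi.single_apply, e.injective.eq_iff], Matrix.mulVec_sum]
    refine Submodule.sum_mem _ fun i _ => ?_
    rw [Matrix.mulVec_smul]
    exact Submodule.smul_mem _ _ (Submodule.subset_span ⟨_, hbasis _, rfl⟩)
  · rintro g hg _ ⟨s, hs, rfl⟩
    obtain ⟨s', hs', he⟩ := hperm g hg s hs
    show c _ ⬝ᵥ U *ᵥ c _ = c _ ⬝ᵥ U *ᵥ c _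
    rw [he, hc', hc', hzero s hs, hzero s' hs']

end Cfsg.Lib.Linear.AschSp
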