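import Cfsg.Agent.Lib.Linear.AschSp.Basic
import Cfsg.Agent.Lib.Linear.Aschbacher.Clifford

/-!
# Systems of idempotents permuted by a group of isometries
-/

set_option autoImplicit false
set_option linter.unusedSectionVars false
set_option linter.style.haveILetI false

namespace Cfsg.Lib.Linear.AschSp

open Cfsg.Geo Cfsg.Lib.Linear Cfsg.Lib.Linear.Asch
open scoped Matrix MatrixGroups

variable {m : ℕ} {F : Type*} [Field F]

/-- A complete system of orthogonal idempotents permuted transitively by conjugation. -/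
structure IdemSys (H : Subgroup (GL (Ix m) F)) {t : ℕ} (e : Fin t → Matrix (Ix m) (Ix m) F) : Prop where
  idem : ∀ i, e i * e i = e i
  orth : ∀ i j, i ≠ j → e i * e j = 0
  sum : ∑ i, e i = 1
  ne : ∀ i, e i ≠ 0
  perm : ∀ h ∈ H, ∀ i, ∃ j, h.val * e i * (h⁻¹).val = e j
  trans : ∀ i j, ∃ h ∈ H, h.val * e i * (h⁻¹).val = e j

variable {H : Subgroup (GL (Ix m) F)} {t : ℕ} {e : Fin t → Matrix (Ix m) (Ix m) F}

theorem IdemSys.inj (S : IdemSys H e) : Function.Injective e := by
  intro i j h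
  by_contra hne
  exact S.ne i (by rw [← S.idem i]; nth_rw 2 [h]; exact S.orth i j hne)

/-- The image of an idempotent. -/
noncomputable def img (E : Matrix (Ix m) (Ix m) F) : Submodule F (Ix m → F) :=
  LinearMap.range (Matrix.toLin' E)

theorem mem_img {E : Matrix (Ix m) (Ix m) F} {v : Ix m → F} : v ∈ img E ↔ ∃ u, E *ᵥ u = v := by
  simp [img, LinearMap.mem_range]

theorem img_fix {E : Matrix (Ix m) (Ix m) F} (hE : E * E = E) {v : Ix m → F} (hv : v ∈ img E) :
    E *ᵥ v = v := by
  obtain ⟨u, rfl⟩ := mem_img.1 hv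
  rw [Matrix.mulVec_mulVec, hE]

theorem map_img (g : GL (Ix m) F) (E : Matrix (Ix m) (Ix m) F) :
    (img E).map (Matrix.toLin' g.val) = img (g.val * E * (g⁻¹).val) := by
  refine SetLike.ext fun v => ?_
  rw [← show move g (img E) = (img E).map (Matrix.toLin' g.val) from rfl, mem_move, mem_img]
  constructor
  · rintro ⟨w, hw, rfl⟩
    obtain ⟨u, rfl⟩ := mem_img.1 hw
    exact ⟨g.val *ᵥ u, by
      rw [← Matrix.mulVec_mulVec, ← Matrix.mulVec_mulVec, inv_mulVec_mulVec]⟩
  · rintro ⟨u, rfl⟩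
    exact ⟨_, mem_img.2 ⟨(g⁻¹).val *ᵥ u, rfl⟩, by rw [Matrix.mulVec_mulVec, Matrix.mulVec_mulVec]⟩

theorem IdemSys.decomp (S : IdemSys H e) (ht : 2 ≤ t) :
    ∃ k, IsMDecomposition k (fun i => img (e i)) ∧ t * k = 2 * m ∧
      H ≤ decompositionStabilizer (fun i => img (e i)) := by
  have h0 : 0 < t := by omega
  refine ⟨Module.finrank F (img (e ⟨0, h0⟩)), ⟨ht, ?_, fun i => ?_, ?_, ?_⟩, ?_, ?_⟩
  · refine Nat.pos_of_ne_zero fun h => S.ne ⟨0, h0⟩ ?_
    rw [Submodule.finrank_eq_zero, img, LinearMap.range_eq_bot] at h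
    exact (map_eq_zero_iff _ Matrix.toLin'.injective).1 h
  · obtain ⟨h, -, he⟩ := S.trans ⟨0, h0⟩ i
    show Module.finrank F (img (e i)) = _
    rw [← he, ← map_img]
    exact finrank_move h _
  · rw [iSupIndep_def]
    intro i
    rw [Submodule.disjoint_def]
    intro x hx hx'
    have h1 : (⨆ j, ⨆ (_ : j ≠ i), img (e j)) ≤ LinearMap.ker (Matrix.toLin' (e i)) := by
      refine iSup₂_le fun j hj v hv => ?_
      obtain ⟨u, rfl⟩ := mem_img.1 hv
      rw [LinearMap.mem_ker, Matrix.toLin'_apply, Matrix.mulVec_mulVec, S.orth i j (Ne.symm hj),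
        Matrix.zero_mulVec]
    have h2 := h1 hx'
    rwa [LinearMap.mem_ker, Matrix.toLin'_apply, img_fix (S.idem i) hx] at h2
  · rw [eq_top_iff]
    intro v _
    rw [← Matrix.one_mulVec v, ← S.sum, Matrix.sum_mulVec]
    exact Submodule.sum_mem _ fun i _ => le_iSup (fun i => img (e i)) i (mem_img.2 ⟨v, rfl⟩)
  · have hsum : ∀ v, v = ∑ i, e i *ᵥ v := fun v => by rw [← Matrix.sum_mulVec, S.sum, Matrix.one_mulVec]
    let L : (Ix m → F) ≃ₗ[F] (Π i, img (e i)) :=
      { toFun := fun v i => ⟨e i *ᵥ v, mem_img.2 ⟨v, rfl⟩⟩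
        map_add' := fun u v => funext fun i => Subtype.ext (by simp [Matrix.mulVec_add])
        map_smul' := fun c v => funext fun i => Subtype.ext (by simp [Matrix.mulVec_smul])
        invFun := fun x => ∑ i, (x i : Ix m → F)
        left_inv := fun v => (hsum v).symm
        right_inv := fun x => funext fun i => Subtype.ext (by
          show e i *ᵥ (∑ j, (x j : Ix m → F)) = x i
          rw [Matrix.mulVec_sum, Finset.sum_eq_single i (fun j _ hj => ?_) (by simp), img_fix (S.idem i) (x i).2]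
          obtain ⟨u, hu⟩ := mem_img.1 (x j).2
          rw [← hu, Matrix.mulVec_mulVec, S.orth i j (Ne.symm hj), Matrix.zero_mulVec]) }
    have h1 := L.finrank_eq
    rw [Symp.finrank_space, Module.finrank_pi_fintype] at h1
    have h2 : ∀ i, Module.finrank F (img (e i)) = Module.finrank F (img (e ⟨0, h0⟩)) := fun i => by
      obtain ⟨h, -, he⟩ := S.trans ⟨0, h0⟩ i
      rw [← he, ← map_img]
      exact finrank_move h _
    rw [h1, Finset.sum_congr rfl fun i _ => h2 i, Finset.sum_const, Finset.card_univ, Fintype.card_fin,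
      smul_eq_mul]
  · intro g hg
    choose σ hσ using S.perm g hg
    have hinj : Function.Injective σ := fun i j h => S.inj (by
      have h1 := (hσ i).trans ((congrArg e h).trans (hσ j).symm)
      have h2 := congrArg (fun z => (g⁻¹).val * z * g.val) h1
      simpa [mul_assoc] using h2)
    refine ⟨Equiv.ofBijective σ (Finite.injective_iff_bijective.1 hinj), fun i => ?_⟩
    show (img (e i)).map _ = img (e (σ i))
    rw [map_img, hσ]

theorem form_idem (hadj : ∀ i, adjM (e i) = e i) (i j : Fin t) (u v : Ix m → F) :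
    Cfsg.sympForm m F (e i *ᵥ u) (e j *ᵥ v) = Cfsg.sympForm m F u ((e i * e j) *ᵥ v) := by
  rw [adjM_spec, hadj, Matrix.mulVec_mulVec]

/-- Self-adjoint idempotents give a perpendicular decomposition into non-degenerate subspaces. -/
theorem IdemSys.nondeg (S : IdemSys H e) (ht : 2 ≤ t) (hadj : ∀ i, adjM (e i) = e i) :
    ∃ k, IsNondegenerateMDecomposition (Cfsg.sympForm m F) k (fun i => img (e i)) ∧ t * k = 2 * m ∧
      H ≤ decompositionStabilizer (fun i => img (e i)) := by
  obtain ⟨k, hk, hcard, hH⟩ := S.decomp ht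
  refine ⟨k, ⟨hk, fun i => nondegOn_of_inf_perp ?_, fun i j hij u hu v hv => ?_⟩, hcard, hH⟩
  · rw [eq_bot_iff]
    rintro x ⟨hx, hx'⟩
    rw [Submodule.mem_bot]
    by_contra hne
    obtain ⟨y, hy⟩ := (sp_nondeg x hne).1
    apply hy
    rw [← img_fix (S.idem i) hx]
    rw [show Cfsg.sympForm m F y (e i *ᵥ x) = Cfsg.sympForm m F (e i *ᵥ y) x by rw [adjM_spec, hadj]]
    exact mem_perp.1 hx' _ (mem_img.2 ⟨y, rfl⟩)
  · obtain ⟨u, rfl⟩ := mem_img.1 hu
    obtain ⟨v, rfl⟩ := mem_img.1 hv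
    rw [form_idem hadj, S.orth i j hij, Matrix.zero_mulVec]
    simp [Cfsg.sympForm]

theorem adjM_conj (hH : H ≤ Cfsg.spGL m F) {h : GL (Ix m) F} (hh : h ∈ H) (M : Matrix (Ix m) (Ix m) F) :
    adjM (h.val * M * (h⁻¹).val) = h.val * adjM M * (h⁻¹).val := by
  rw [adjM_mul, adjM_mul, adjM_of_mem (hH hh), adjM_of_mem (hH (inv_mem hh)), inv_inv, mul_assoc]

theorem adjM_sum {κ : Type*} (s : Finset κ) (M : κ → Matrix (Ix m) (Ix m) F) :
    adjM (∑ i ∈ s, M i) = ∑ i ∈ s, adjM (M i) :=
  map_sum (AddMonoidHom.mk' adjM adjM_add : Matrix (Ix m) (Ix m) F →+ _) M s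

/-- A system of idempotents exchanged among themselves by the adjoint gives a class two structure, or
for two members and even characteristic an invariant quadratic form. -/
theorem idem_cases (hH : H ≤ Cfsg.spGL m F) (S : IdemSys H e) (ht : 2 ≤ t)
    (hadj : ∀ i, ∃ j, adjM (e i) = e j) :
    (∃ (s k : ℕ) (D : Fin s → Submodule F (Ix m → F)),
      IsNondegenerateMDecomposition (Cfsg.sympForm m F) k D ∧ s * k = 2 * m ∧ H ≤ decompositionStabilizer D) ∨
    (∃ D : Fin 2 → Submodule F (Ix m → F), IsMDecomposition m D ∧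
      (∀ i, IsTotallySingularFor (Cfsg.sympForm m F) (D i)) ∧ H ≤ decompositionStabilizer D ∧
      ((2 : F) = 0 → ∃ Q : (Ix m → F) → F, IsNondegenerateQuadraticForm Q ∧
        (∀ u v, QuadraticMap.polar Q u v = Cfsg.sympForm m F u v) ∧ H ≤ quadSimilarityGroup Q)) := by
  classical
  choose π hπ using hadj
  have hππ : ∀ i, π (π i) = i := fun i => S.inj (by rw [← hπ, ← hπ, adjM_adjM])
  by_cases hfix : ∃ i, π i = i
  · left
    obtain ⟨i₀, hi₀⟩ := hfix
    have hall : ∀ j, adjM (e j) = e j := fun j => by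
      obtain ⟨h, hh, he⟩ := S.trans i₀ j
      rw [← he, adjM_conj hH hh, hπ, hi₀]
    obtain ⟨k, hk, hc, hle⟩ := S.nondeg ht hall
    exact ⟨t, k, _, hk, hc, hle⟩
  push Not at hfix
  rcases Nat.lt_or_ge 2 t with h3 | h2
  · left
    let T := Finset.univ.filter fun i => i < π i
    have hpair : ∀ i, i ∈ T ↔ π i ∉ T := fun i => by
      simp only [T, Finset.mem_filter, Finset.mem_univ, true_and, hππ]
      have := hfix i
      omega
    let c := T.equivFin.symm
    let e' : Fin T.card → Matrix (Ix m) (Ix m) F := fun b => e (c b).1 + e (π (c b).1)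
    have hdis : ∀ b b', b ≠ b' → (c b).1 ≠ (c b').1 ∧ (c b).1 ≠ π (c b').1 ∧
        π (c b).1 ≠ (c b').1 ∧ π (c b).1 ≠ π (c b').1 := by
      intro b b' hbb
      have h1 : (c b).1 ≠ (c b').1 := fun h => hbb (c.injective (Subtype.ext h))
      refine ⟨h1, fun h => (hpair _).1 (c b').2 (h ▸ (c b).2), fun h => (hpair _).1 (c b).2 (h ▸ (c b').2),
        fun h => h1 ?_⟩
      rw [← hππ (c b).1, h, hππ]
    have hrep : ∀ i, ∃ b, e i + e (π i) = e' b := by
      intro i
      by_cases hi : i ∈ T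
      · exact ⟨c.symm ⟨i, hi⟩, by simp [e']⟩
      · have hi' : π i ∈ T := by rwa [hpair, hππ]
        exact ⟨c.symm ⟨π i, hi'⟩, by simp [e', hππ, add_comm]⟩
    have hcard : 2 ≤ T.card := by
      by_contra hlt
      have hle1 : T.card ≤ 1 := by omega
      have hc2 : (Finset.univ : Finset (Fin t)).card ≤ T.card + T.card := by
        calc (Finset.univ : Finset (Fin t)).card ≤ (T ∪ T.image π).card := Finset.card_le_card (fun i _ => by
              rw [Finset.mem_union, Finset.mem_image]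
              by_cases hi : i ∈ T
              · exact Or.inl hi
              · exact Or.inr ⟨π i, by rwa [hpair, hππ], hππ i⟩)
          _ ≤ T.card + (T.image π).card := Finset.card_union_le _ _
          _ ≤ T.card + T.card := Nat.add_le_add_left Finset.card_image_le _
      rw [Finset.card_univ, Fintype.card_fin] at hc2
      omega
    have hπh : ∀ h ∈ H, ∀ i j, h.val * e i * (h⁻¹).val = e j → h.val * e (π i) * (h⁻¹).val = e (π j) :=
      fun h hh i j he => by rw [← hπ, ← hπ, ← he, adjM_conj hH hh]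
    have S' : IdemSys H e' := by
      refine ⟨fun b => ?_, fun b b' hbb => ?_, ?_, fun b h0 => ?_, fun h hh b => ?_, fun b b' => ?_⟩
      · simp only [e', Matrix.add_mul, Matrix.mul_add, S.idem, S.orth _ _ (hfix _), S.orth _ _ (hfix _).symm,
          add_zero, zero_add]
      · obtain ⟨h1, h2, h3, h4⟩ := hdis b b' hbb
        simp only [e', Matrix.add_mul, Matrix.mul_add, S.orth _ _ h1, S.orth _ _ h2, S.orth _ _ h3, S.orth _ _ h4,
          add_zero]
      · rw [← S.sum]
        simp only [e']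
        rw [Finset.sum_add_distrib]
        have e1 : ∑ b, e (c b).1 = ∑ i ∈ T, e i := by
          rw [Equiv.sum_comp c (fun i : T => e i.1), Finset.sum_coe_sort]
        have e2 : ∑ b, e (π (c b).1) = ∑ i ∈ Tᶜ, e i := by
          rw [Equiv.sum_comp c (fun i : T => e (π i.1)), Finset.sum_coe_sort (f := fun i => e (π i))]
          refine Finset.sum_nbij' π π (fun i hi => ?_) (fun i hi => ?_) (fun i _ => hππ i) (fun i _ => hππ i)
            (fun i _ => rfl)
          · simp only [Finset.mem_coe, Finset.mem_compl] at hi ⊢; exact (hpair i).1 hi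
          · simp only [Finset.mem_coe, Finset.mem_compl] at hi ⊢; rwa [hpair, hππ]
        rw [e1, e2, Finset.sum_add_sum_compl]
      · have h1 := congrArg (fun z => e (c b).1 * z) h0
        simp only [e', Matrix.mul_add, S.idem, S.orth _ _ (hfix _).symm, add_zero, Matrix.mul_zero] at h1
        exact S.ne _ h1
      · obtain ⟨j, hj⟩ := S.perm h hh (c b).1
        obtain ⟨b', hb'⟩ := hrep j
        exact ⟨b', by simp only [e', Matrix.mul_add, Matrix.add_mul, hj, hπh h hh _ _ hj]; exact hb'⟩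
      · obtain ⟨h, hh, he⟩ := S.trans (c b).1 (c b').1
        exact ⟨h, hh, by simp only [e', Matrix.mul_add, Matrix.add_mul, he, hπh h hh _ _ he]⟩
    obtain ⟨k, hk, hc, hle⟩ := S'.nondeg hcard fun b => by
      simp only [e']; rw [adjM_add, hπ, hπ, hππ, add_comm]
    exact ⟨_, k, _, hk, hc, hle⟩
  · right
    obtain rfl : t = 2 := by omega
    have hπ0 : π 0 = 1 := by have := hfix 0; omega
    have hπ1 : π 1 = 0 := by have := hfix 1; omega
    obtain ⟨k, hk, hc, hle⟩ := S.decomp ht
    have hkm : k = m := by omega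
    rw [hkm] at hk
    have hts : ∀ i, IsTotallySingularFor (Cfsg.sympForm m F) (img (e i)) := fun i u hu v hv => by
      obtain ⟨u, rfl⟩ := mem_img.1 hu
      obtain ⟨v, rfl⟩ := mem_img.1 hv
      rw [adjM_spec, hπ, Matrix.mulVec_mulVec, S.orth _ _ (hfix i), Matrix.zero_mulVec]
      simp [Cfsg.sympForm]
    refine ⟨_, hk, hts, hle, fun h2 => ?_⟩
    have hsum : ∀ v, e 0 *ᵥ v + e 1 *ᵥ v = v := fun v => by
      rw [← Matrix.add_mulVec, ← Fin.sum_univ_two, S.sum, Matrix.one_mulVec]
    have hsymm : ∀ u v, Cfsg.sympForm m F u v = Cfsg.sympForm m F v u := fun u v => by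
      rw [sp_skew]; linear_combination (-(Cfsg.sympForm m F v u)) * h2
    let Q : (Ix m → F) → F := fun v => Cfsg.sympForm m F (e 0 *ᵥ v) (e 1 *ᵥ v)
    have hpol : ∀ u v, QuadraticMap.polar Q u v = Cfsg.sympForm m F u v := by
      intro u v
      conv_rhs => rw [← hsum u, ← hsum v]
      simp only [QuadraticMap.polar, Q, Matrix.mulVec_add, sp_bilinear.add_left, sp_bilinear.add_right,
        hts 0 _ (mem_img.2 ⟨u, rfl⟩) _ (mem_img.2 ⟨v, rfl⟩), hts 1 _ (mem_img.2 ⟨u, rfl⟩) _ (mem_img.2 ⟨v, rfl⟩)]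
      rw [hsymm (e 1 *ᵥ u) (e 0 *ᵥ v)]
      ring
    refine ⟨Q, ⟨fun c v => ?_, ?_, ?_⟩, hpol, fun g hg => ⟨1, fun v => ?_⟩⟩
    · simp only [Q, Matrix.mulVec_smul, sp_bilinear.smul_left, sp_bilinear.smul_right]; ring
    · rw [show QuadraticMap.polar Q = Cfsg.sympForm m F from funext fun u => funext (hpol u)]
      exact sp_bilinear
    · rw [show QuadraticMap.polar Q = Cfsg.sympForm m F from funext fun u => funext (hpol u)]
      exact sp_nondeg
    · have hcomm : ∀ i j, g.val * e i * (g⁻¹).val = e j → e j *ᵥ (g.val *ᵥ v) = g.val *ᵥ (e i *ᵥ v) := by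
        intro i j he
        rw [← he, ← Matrix.mulVec_mulVec, ← Matrix.mulVec_mulVec, inv_mulVec_mulVec]
      obtain ⟨j, hj⟩ := S.perm g hg 0
      obtain ⟨j', hj'⟩ := S.perm g hg 1
      have hjj : j' = π j := S.inj (by
        rw [← hj', ← hπ0, ← hπ, ← hπ, ← hj, adjM_conj hH hg])
      rw [Units.val_one, one_mul]
      simp only [Q]
      rcases Fin.exists_fin_two.1 ⟨j, rfl⟩ with h | h
      · subst h; subst hjj; rw [hπ0] at hj'
        rw [hcomm _ _ hj, hcomm _ _ hj', mem_spGL.1 (hH hg)]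
      · subst h; subst hjj; rw [hπ1] at hj'
        rw [hcomm _ _ hj', hcomm _ _ hj, mem_spGL.1 (hH hg), hsymm]

end Cfsg.Lib.Linear.AschSp
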