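import Mathlib
import Cfsg.Agent.Lib.Linear.Aschbacher.Rational

/-!
# Absolutely irreducible groups with traces in a subfield

An absolutely irreducible group over a finite field whose traces lie in a subfield is realisable
over that subfield.
-/

set_option autoImplicit false
set_option linter.unusedSectionVars false
set_option linter.style.haveILetI false

namespace Cfsg.Lib.Linear.AschSp

open Cfsg.Geo Cfsg.Lib.Linear Cfsg.Lib.Linear.Asch
open scoped Matrix MatrixGroups

variable {ι : Type} [Fintype ι] [DecidableEq ι] {F : Type*} [Field F]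

/-- The matrices pairing into the subfield with every element of `G`. -/
def traceLattice (F₀ : Subfield F) (G : Subgroup (GL ι F)) : Submodule F₀ (Matrix ι ι F) where
  carrier := {M | ∀ x ∈ G, (M * (x : Matrix ι ι F)).trace ∈ F₀}
  add_mem' {a b} ha hb x hx := by rw [Matrix.add_mul, Matrix.trace_add]; exact add_mem (ha x hx) (hb x hx)
  zero_mem' x _ := by simp
  smul_mem' c a ha x hx := by
    rw [Matrix.smul_mul, Matrix.trace_smul]
    exact mul_mem c.2 (ha x hx)

set_option maxHeartbeats 800000 in
/-- An absolutely irreducible group with traces in a subfield is realisable over it. -/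
theorem realisable_of_trace [Finite F] [Nonempty ι] {G : Subgroup (GL ι F)}
    (hG : ActsAbsolutelyIrreducibly (matrixSet G)) (F₀ : Subfield F)
    (ht : ∀ x ∈ G, (x : Matrix ι ι F).trace ∈ F₀) : RealisableOver F₀ (matrixSet G) := by
  classical
  obtain ⟨s, hsub, hspan, hli⟩ := exists_linearIndependent F (matrixSet G)
  rw [span_eq_top hG] at hspan
  haveI : Fintype s := Fintype.ofFinite s
  let b : Module.Basis s F (Matrix ι ι F) :=
    Module.Basis.mk hli (by rw [Subtype.range_coe_subtype, Set.setOf_mem_eq, hspan])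
  have hb : ∀ i : s, b i = (i : Matrix ι ι F) := fun i => Module.Basis.mk_apply hli _ i
  have hsG : ∀ i : s, ∃ x ∈ G, (x : Matrix ι ι F) = i := fun i => hsub i.2
  -- a matrix pairing to zero with the basis is zero
  have hnd : ∀ M : Matrix ι ι F, (∀ i : s, (M * (i : Matrix ι ι F)).trace = 0) → M = 0 := by
    intro M hM
    have h1 : ∀ N : Matrix ι ι F, (M * N).trace = 0 := fun N => by
      rw [← b.sum_repr N, Matrix.mul_sum, Matrix.trace_sum]
      exact Finset.sum_eq_zero fun i _ => by rw [Matrix.mul_smul, Matrix.trace_smul, hb, hM, smul_zero]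
    ext i j
    have h2 := h1 (Matrix.single j i 1)
    simpa [Matrix.trace_mul_single] using h2
  -- the pairing matrix over the subfield
  have hTmem : ∀ i j : s, ((i : Matrix ι ι F) * (j : Matrix ι ι F)).trace ∈ F₀ := by
    intro i j
    obtain ⟨x, hx, hxe⟩ := hsG i
    obtain ⟨y, hy, hye⟩ := hsG j
    rw [← hxe, ← hye, ← Units.val_mul]
    exact ht _ (mul_mem hx hy)
  let T : Matrix s s F₀ := fun i j => ⟨_, hTmem i j⟩
  have hTdet : IsUnit T.det := by
    rw [isUnit_iff_ne_zero]
    intro hd
    have hd' : (T.map (fun a : F₀ => (a : F))).det = 0 := by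
      have h1 := (RingHom.map_det (F₀.subtype) T).symm
      rw [RingHom.mapMatrix_apply, hd, map_zero] at h1
      exact h1
    obtain ⟨c, hc0, hc⟩ := Matrix.exists_vecMul_eq_zero_iff.2 hd'
    refine hc0 (funext fun i => ?_)
    have hM0 : (∑ i, c i • (i : Matrix ι ι F)) = 0 := hnd _ fun j => by
      have h1 := congrFun hc j
      simp only [Matrix.vecMul, dotProduct, Matrix.map_apply, Pi.zero_apply] at h1
      rw [← h1, Matrix.sum_mul, Matrix.trace_sum]
      exact Finset.sum_congr rfl fun i _ => by rw [Matrix.smul_mul, Matrix.trace_smul, smul_eq_mul]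
    exact Fintype.linearIndependent_iff.1 hli c hM0 i
  set L := traceLattice F₀ G with hL
  have hGL : ∀ x ∈ G, (x : Matrix ι ι F) ∈ L := fun x hx y hy => by
    rw [← Units.val_mul]; exact ht _ (mul_mem hx hy)
  have hsL : ∀ i : s, (i : Matrix ι ι F) ∈ L := fun i => by
    obtain ⟨x, hx, hxe⟩ := hsG i
    rw [← hxe]; exact hGL x hx
  have hcoord : ∀ M ∈ L, ∀ i, b.repr M i ∈ F₀ := by
    intro M hM i
    let d : s → F₀ := fun j => ⟨(M * (j : Matrix ι ι F)).trace, by
      obtain ⟨x, hx, hxe⟩ := hsG j
      rw [← hxe]; exact hM x hx⟩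
    have heq : (fun i => b.repr M i) ᵥ* T.map (fun a : F₀ => (a : F)) = fun j => ((d j : F₀) : F) := by
      funext j
      simp only [Matrix.vecMul, dotProduct, Matrix.map_apply, T, d]
      conv_rhs => rw [← b.sum_repr M, Matrix.sum_mul, Matrix.trace_sum]
      exact Finset.sum_congr rfl fun i _ => by rw [Matrix.smul_mul, Matrix.trace_smul, smul_eq_mul, hb]; rfl
    have hinv : ∀ {u : s → F} {k}, (u ᵥ* T.map (fun a : F₀ => (a : F)) ᵥ* (T⁻¹).map F₀.subtype) k = u k := by
      intro u k
      have h3 : T.map (fun a : F₀ => (a : F)) * (T⁻¹).map F₀.subtype = 1 :=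
        (Matrix.map_mul (f := F₀.subtype) (L := T) (M := T⁻¹)).symm.trans (by
          rw [Matrix.mul_nonsing_inv _ hTdet, Matrix.map_one F₀.subtype (map_zero _) (map_one _)])
      rw [Matrix.vecMul_vecMul, h3, Matrix.vecMul_one]
    have h2 : (fun i => b.repr M i) = fun i => (((d ᵥ* T⁻¹) i : F₀) : F) := by
      funext k
      rw [← hinv (u := fun i => b.repr M i), congrFun (congrArg (fun v => v ᵥ* (T⁻¹).map F₀.subtype) heq) k]
      exact (RingHom.map_vecMul F₀.subtype T⁻¹ d k).symm
    rw [congrFun h2 i]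
    exact Subtype.coe_prop _
  have hmul : ∀ M ∈ L, ∀ N ∈ L, M * N ∈ L := by
    intro M hM N hN x hx
    have key : ∀ i j : s, ((i : Matrix ι ι F) * (j : Matrix ι ι F) * (x : Matrix ι ι F)).trace ∈ F₀ := by
      intro i j
      obtain ⟨y, hy, hye⟩ := hsG i
      obtain ⟨z, hz, hze⟩ := hsG j
      rw [← hye, ← hze, ← Units.val_mul, ← Units.val_mul]
      exact ht _ (mul_mem (mul_mem hy hz) hx)
    rw [← b.sum_repr M, ← b.sum_repr N, Matrix.sum_mul, Matrix.sum_mul, Matrix.trace_sum]
    refine sum_mem fun i _ => ?_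
    rw [Matrix.mul_sum, Matrix.sum_mul, Matrix.trace_sum]
    refine sum_mem fun j _ => ?_
    simp only [Matrix.smul_mul, Matrix.mul_smul, Matrix.trace_smul, smul_eq_mul, hb]
    exact mul_mem (hcoord N hN j) (mul_mem (hcoord M hM i) (key i j))
  have hone : (1 : Matrix ι ι F) ∈ L := by simpa using hGL 1 (one_mem G)
  let A : Subalgebra F₀ (Matrix ι ι F) :=
    Submodule.toSubalgebra L hone fun M N hM hN => hmul M hM N hN
  have hAL : ∀ M, M ∈ A ↔ M ∈ L := fun M => Iff.rfl
  -- the centre of `A` is the subfield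
  have hcenter : ∀ z ∈ A, (∀ a ∈ A, z * a = a * z) → ∃ c : F₀, z = c • (1 : Matrix ι ι F) := by
    intro z hz hzc
    obtain ⟨c, rfl⟩ := hG.2 z fun y hy => hzc y (by obtain ⟨x, hx, rfl⟩ := hy; exact hGL x hx)
    obtain ⟨j, hj⟩ : ∃ j : s, ((j : Matrix ι ι F)).trace ≠ 0 := by
      by_contra hne
      push Not at hne
      exact one_ne_zero (hnd 1 fun j => by rw [Matrix.one_mul]; exact hne j)
    obtain ⟨x, hx, hxe⟩ := hsG j
    have h1 := (hAL _).1 hz x hx
    rw [Matrix.smul_mul, Matrix.one_mul, Matrix.trace_smul, smul_eq_mul] at h1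
    have hj' : (x : Matrix ι ι F).trace ≠ 0 := by rwa [hxe]
    refine ⟨⟨c, ?_⟩, rfl⟩
    have h2 := div_mem h1 (ht x hx)
    rwa [mul_div_cancel_right₀ _ hj'] at h2
  haveI : Finite A := Finite.of_injective (fun a : A => (a : Matrix ι ι F)) Subtype.coe_injective
  -- `A` is simple
  have hsimple : IsSimpleRing A := by
    refine IsSimpleRing.of_eq_bot_or_eq_top fun I => ?_
    rw [or_iff_not_imp_left]
    intro hI
    obtain ⟨a, haI, ha0⟩ : ∃ a ∈ I, a ≠ 0 := by
      by_contra hne
      push Not at hne
      exact hI (le_bot_iff.1 fun a ha => (TwoSidedIdeal.mem_bot _).2 (hne a ha))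
    let S : Submodule F (Matrix ι ι F) := Submodule.span F ((fun a : A => (a : Matrix ι ι F)) '' (I : Set A))
    have hSl : ∀ N : Matrix ι ι F, ∀ M ∈ S, N * M ∈ S ∧ M * N ∈ S := by
      intro N M hM
      rw [← b.sum_repr N, Matrix.mul_sum, Matrix.sum_mul]
      refine ⟨Submodule.sum_mem _ fun i _ => ?_, Submodule.sum_mem _ fun i _ => ?_⟩
      · rw [Matrix.smul_mul, hb]
        refine Submodule.smul_mem _ _ ?_
        induction hM using Submodule.span_induction with
        | mem y hy =>
          obtain ⟨y, hy, rfl⟩ := hy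
          exact Submodule.subset_span ⟨⟨_, hsL i⟩ * y, I.mul_mem_left _ _ hy, rfl⟩
        | zero => simp
        | add y z _ _ hy hz => rw [Matrix.mul_add]; exact add_mem hy hz
        | smul c y _ hy => rw [Matrix.mul_smul]; exact Submodule.smul_mem _ _ hy
      · rw [Matrix.mul_smul, hb]
        refine Submodule.smul_mem _ _ ?_
        induction hM using Submodule.span_induction with
        | mem y hy =>
          obtain ⟨y, hy, rfl⟩ := hy
          exact Submodule.subset_span ⟨y * ⟨_, hsL i⟩, I.mul_mem_right _ _ hy, rfl⟩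
        | zero => simp
        | add y z _ _ hy hz => rw [Matrix.add_mul]; exact add_mem hy hz
        | smul c y _ hy => rw [Matrix.smul_mul]; exact Submodule.smul_mem _ _ hy
    let J : TwoSidedIdeal (Matrix ι ι F) := TwoSidedIdeal.mk' (S : Set (Matrix ι ι F)) S.zero_mem
      (fun ha hb => add_mem ha hb) (fun ha => neg_mem ha) (fun hM => (hSl _ _ hM).1)
      (fun hM => (hSl _ _ hM).2)
    have hJS : ∀ M, M ∈ J ↔ M ∈ S := fun M => TwoSidedIdeal.mem_mk' ..
    have hJ : J = ⊤ := by
      refine (IsSimpleOrder.eq_bot_or_eq_top J).resolve_left fun h => ha0 ?_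
      have h1 : (a : Matrix ι ι F) ∈ J := (hJS _).2 (Submodule.subset_span ⟨a, haI, rfl⟩)
      rw [h, TwoSidedIdeal.mem_bot] at h1
      exact Subtype.ext h1
    have hStop : S = ⊤ := eq_top_iff.2 fun M _ => (hJS M).1 (by rw [hJ]; trivial)
    obtain ⟨s', hs'I, hs'sp, hs'li⟩ := exists_linearIndependent F ((fun a : A => (a : Matrix ι ι F)) '' (I : Set A))
    rw [show Submodule.span F ((fun a : A => (a : Matrix ι ι F)) '' (I : Set A)) = ⊤ from hStop] at hs'sp
    haveI : Fintype s' := Fintype.ofFinite s'
    have hcard : Fintype.card s' = Fintype.card s := by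
      have b' : Module.Basis s' F (Matrix ι ι F) :=
        Module.Basis.mk hs'li (by rw [Subtype.range_coe_subtype, Set.setOf_mem_eq, hs'sp])
      rw [← Module.finrank_eq_card_basis b, ← Module.finrank_eq_card_basis b']
    -- count points
    haveI : Finite F₀ := Finite.of_injective _ Subtype.coe_injective
    haveI : Fintype F₀ := Fintype.ofFinite _
    choose g hgI hge using fun i : s' => hs'I i.2
    let φ : (s' → F₀) → {x : A // x ∈ I} := fun c => ⟨∑ i, c i • g i, by
      refine sum_mem fun i _ => ?_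
      rw [Algebra.smul_def]
      exact I.mul_mem_left _ _ (hgI i)⟩
    let ψ : A → (s → F₀) := fun x i => ⟨b.repr (x : Matrix ι ι F) i, hcoord _ x.2 i⟩
    have hψ : Function.Injective ψ := fun x y h => Subtype.ext (b.ext_elem fun i => congrArg Subtype.val (congrFun h i))
    have hφ : Function.Injective φ := by
      intro c d h
      have h1 : (∑ i, c i • g i : A) = ∑ i, d i • g i := congrArg Subtype.val h
      have h2 := congrArg (fun a : A => (a : Matrix ι ι F)) h1
      simp only [AddSubmonoidClass.coe_finsetSum, Subalgebra.coe_smul, hge] at h2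
      funext i
      refine Subtype.ext (sub_eq_zero.1 (Fintype.linearIndependent_iff.1 hs'li
        (fun i => ((c i : F₀) : F) - (d i : F₀)) ?_ i))
      simp only [sub_smul, Finset.sum_sub_distrib]
      exact sub_eq_zero.2 h2
    have hle := Nat.card_le_card_of_injective (ψ ∘ Subtype.val ∘ φ) (hψ.comp (Subtype.val_injective.comp hφ))
    have hle2 := Nat.card_le_card_of_injective ψ hψ
    have hle3 := Nat.card_le_card_of_injective φ hφ
    simp only [Nat.card_eq_fintype_card, Fintype.card_fun, hcard] at hle hle2 hle3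
    have hI' : ∀ x : A, x ∈ I := by
      have hle4 : Nat.card {x : A // x ∈ I} ≤ Nat.card A := Nat.card_le_card_of_injective _ Subtype.val_injective
      have heq : Nat.card {x : A // x ∈ I} = Nat.card A := by
        exact le_antisymm hle4 (hle2.trans hle3)
      intro x
      obtain ⟨y, hy⟩ := ((Nat.bijective_iff_injective_and_card (Subtype.val : {x : A // x ∈ I} → A)).2
        ⟨Subtype.val_injective, heq⟩).2 x
      exact hy ▸ y.2
    exact eq_top_iff.2 fun x _ => hI' x
  obtain ⟨n, hn, D, _, _, _, ⟨e⟩⟩ := IsSimpleRing.exists_algEquiv_matrix_divisionRing_finite F₀ A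
  haveI : Finite D := Finite.of_injective (fun d => e.symm (Matrix.scalar (Fin n) d))
    (e.symm.injective.comp fun a b h => Matrix.scalar_inj.1 h)
  letI : Field D := littleWedderburn D
  have hD : ∀ d : D, ∃ c : F₀, d = algebraMap F₀ D c := by
    intro d
    have hcm : ∀ Z : Matrix (Fin n) (Fin n) D, Matrix.scalar (Fin n) d * Z = Z * Matrix.scalar (Fin n) d :=
      fun Z => (Matrix.scalar_commute d (fun r' => mul_comm d r') Z).eq
    obtain ⟨c, hc⟩ := hcenter ((e.symm (Matrix.scalar (Fin n) d) : A) : Matrix ι ι F) (Subtype.coe_prop _)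
      (fun a ha => by
        have h1 := congrArg e.symm (hcm (e ⟨a, ha⟩))
        simp only [map_mul, AlgEquiv.symm_apply_apply] at h1
        exact congrArg Subtype.val h1)
    haveI : Nonempty (Fin n) := ⟨⟨0, Nat.pos_of_ne_zero (NeZero.ne n)⟩⟩
    refine ⟨c, (Matrix.scalar_inj (n := Fin n)).1 ?_⟩
    have h2 : e.symm (Matrix.scalar (Fin n) d) = algebraMap F₀ A c := Subtype.ext (by
      rw [hc, Algebra.algebraMap_eq_smul_one]; rfl)
    have h3 := congrArg e h2
    rw [AlgEquiv.apply_symm_apply, AlgEquiv.commutes] at h3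
    rw [h3, Matrix.algebraMap_eq_diagonal]
    rfl
  -- matrix units and the new basis
  haveI : NeZero n := hn
  let E : Fin n → Fin n → Matrix ι ι F := fun i j => ((e.symm (Matrix.single i j (1 : D)) : A) : Matrix ι ι F)
  have hEmul : ∀ i j k, E i j * E j k = E i k := fun i j k => by
    show ((e.symm _ * e.symm _ : A) : Matrix ι ι F) = _
    rw [← map_mul, Matrix.single_mul_single_same, one_mul]
  have hEne : ∀ i j k l, j ≠ k → E i j * E k l = 0 := fun i j k l h => by
    show ((e.symm _ * e.symm _ : A) : Matrix ι ι F) = _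
    rw [← map_mul, show Matrix.single i j (1 : D) * Matrix.single k l 1 = 0 by simp [Matrix.single_mul_single_of_ne, h], map_zero]
    rfl
  obtain ⟨w, hw⟩ : ∃ w : ι → F, E 0 0 *ᵥ w ≠ 0 := by
    by_contra hne
    push Not at hne
    have h0 : E 0 0 = 0 := Matrix.ext fun i j => by
      have := congrFun (hne (Pi.single j 1)) i
      simpa [Matrix.mulVec_single_one] using this
    have h1 : e.symm (Matrix.single 0 0 (1 : D)) = 0 := Subtype.ext h0
    rw [map_eq_zero_iff _ e.symm.injective] at h1
    simpa using congrFun (congrFun h1 0) 0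
  let v : Fin n → (ι → F) := fun i => E i 0 *ᵥ w
  have hv : ∀ a ∈ A, ∀ j, ∃ c : Fin n → F₀, a *ᵥ v j = ∑ i, (c i : F) • v i := by
    intro a ha j
    choose c hc using hD
    refine ⟨fun i => c (e ⟨a, ha⟩ i j), ?_⟩
    have h1 : (⟨a, ha⟩ : A) * e.symm (Matrix.single j 0 1) =
        ∑ i, c (e ⟨a, ha⟩ i j) • e.symm (Matrix.single i 0 (1 : D)) := by
      apply e.injective
      simp only [map_mul, map_sum, map_smul, AlgEquiv.apply_symm_apply]
      ext k l
      simp only [Matrix.sum_apply, Matrix.smul_apply, Matrix.mul_apply, Matrix.single_apply, mul_ite, mul_one,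
        mul_zero]
      by_cases hl : (0 : Fin n) = l
      · subst hl
        simp [Algebra.smul_def, ← hc]
      · simp [hl]
    have h2 := congrArg (fun z : A => (z : Matrix ι ι F) *ᵥ w) h1
    simp only [Subalgebra.coe_mul, AddSubmonoidClass.coe_finsetSum, Subalgebra.coe_smul, Matrix.sum_mulVec] at h2
    show a *ᵥ (E j 0 *ᵥ w) = _
    rw [Matrix.mulVec_mulVec]
    exact h2.trans (Finset.sum_congr rfl fun i _ => Matrix.smul_mulVec ..)
  have hvli : LinearIndependent F v := by
    rw [Fintype.linearIndependent_iff]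
    intro c hc i
    have h1 := congrArg (fun z => E 0 i *ᵥ z) hc
    simp only [v, Matrix.mulVec_zero, Matrix.mulVec_sum, Matrix.mulVec_smul, Matrix.mulVec_mulVec] at h1
    rw [Finset.sum_eq_single i (fun k _ hk => by rw [hEne _ _ _ _ (Ne.symm hk), Matrix.zero_mulVec, smul_zero])
      (by simp), hEmul] at h1
    exact (smul_eq_zero.1 h1).resolve_right hw
  have hvsp : Submodule.span F (Set.range v) = ⊤ := by
    set W := Submodule.span F (Set.range v) with hW
    refine ((irr_iff.1 hG.1) W fun g hg y hy => ?_).resolve_left ?_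
    · induction hy using Submodule.span_induction with
      | mem y hy =>
        obtain ⟨j, rfl⟩ := hy
        obtain ⟨c, hc⟩ := hv g (hGL g hg) j
        rw [hc]
        exact Submodule.sum_mem _ fun i _ => Submodule.smul_mem _ _ (Submodule.subset_span ⟨i, rfl⟩)
      | zero => simp
      | add y z _ _ hy hz => rw [Matrix.mulVec_add]; exact add_mem hy hz
      | smul c y _ hy => rw [Matrix.mulVec_smul]; exact Submodule.smul_mem _ _ hy
    · intro hbot
      exact hw ((Submodule.mem_bot F).1 (hbot ▸ Submodule.subset_span ⟨0, rfl⟩))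
  let bv : Module.Basis (Fin n) F (ι → F) := Module.Basis.mk hvli hvsp.ge
  let σ : ι ≃ Fin n := Fintype.equivOfCardEq (by
    rw [← Module.finrank_fintype_fun_eq_card (R := F) (η := ι), Module.finrank_eq_card_basis bv])
  let bι := bv.reindex σ.symm
  have hbι : ∀ i, bι i = v (σ i) := fun i => by
    simp [bι, bv]
  let P : Matrix ι ι F := fun i j => bι j i
  let P' : Matrix ι ι F := fun i j => bι.repr (Pi.single j 1) i
  have hP'P : P' * P = 1 := by
    have e1 : P = (Pi.basisFun F ι).toMatrix bι := by ext i j; simp [P, Module.Basis.toMatrix_apply]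
    have e2 : P' = bι.toMatrix (Pi.basisFun F ι) := by ext i j; simp [P', Module.Basis.toMatrix_apply]
    rw [e1, e2, Module.Basis.toMatrix_mul_toMatrix, Module.Basis.toMatrix_self]
  refine ⟨⟨P', P, hP'P, mul_eq_one_comm.1 hP'P⟩, ?_⟩
  rintro _ ⟨g, hg, rfl⟩ i j
  show (P' * (g : Matrix ι ι F) * P) i j ∈ F₀
  obtain ⟨c, hc⟩ := hv _ (hGL g hg) (σ j)
  have h1 : (fun k => ((g : Matrix ι ι F) * P) k j) = ∑ k, (c k : F) • v k := by
    rw [← hc]
    funext k
    rw [Matrix.mul_apply]
    simp [Matrix.mulVec, dotProduct, P, hbι]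
  have h2 : (P' * (g : Matrix ι ι F) * P) i j = bι.repr (fun k => ((g : Matrix ι ι F) * P) k j) i := by
    rw [Matrix.mul_assoc, Matrix.mul_apply]
    conv_rhs => rw [pi_eq_sum_univ' (fun k => ((g : Matrix ι ι F) * P) k j)]
    simp [P', mul_comm]
  rw [h2, h1, map_sum, Finsupp.finsetSum_apply]
  refine sum_mem fun k _ => ?_
  rw [map_smul, Finsupp.smul_apply, smul_eq_mul, show v k = bι (σ.symm k) by rw [hbι, σ.apply_symm_apply],
    Module.Basis.repr_self]
  refine mul_mem (c k).2 ?_
  rw [Finsupp.single_apply]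
  split <;> simp

end Cfsg.Lib.Linear.AschSp
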