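import Cfsg.Agent.Lib.Linear.AschSp.Decomp
import Cfsg.Agent.Lib.Linear.Aschbacher.Linear

/-!
# Extension fields normalised by a group of isometries
-/

set_option autoImplicit false
set_option linter.unusedSectionVars false
set_option linter.style.haveILetI false

namespace Cfsg.Lib.Linear.AschSp

open Cfsg.Geo Cfsg.Lib.Linear Cfsg.Lib.Linear.Asch
open scoped Matrix MatrixGroups

variable {m : ℕ} {F : Type*} [Field F] {H : Subgroup (GL (Ix m) F)}
  {r : ℕ} {K : Subalgebra F (Matrix (Ix m) (Ix m) F)}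

theorem two_zero_of_not_odd [Fintype F] (h : ¬ Odd (Fintype.card F)) : (2 : F) = 0 := by
  by_contra h2
  exact h (odd_card_of_two_ne_zero h2)

theorem not_odd_of_two_zero [Fintype F] (h : (2 : F) = 0) : ¬ Odd (Fintype.card F) := by
  intro ho
  have h2 : ringChar F ≠ 2 := fun hc =>
    (Nat.not_even_iff_odd.2 ho) (Nat.even_iff.2 (FiniteField.even_card_iff_char_two.1 hc))
  exact Ring.two_ne_zero h2 h

theorem conj_mem (hK : H ≤ subalgebraNormalizer K) {h : GL (Ix m) F} (hh : h ∈ H)
    {k : Matrix (Ix m) (Ix m) F} (hk : k ∈ K) : h.val * k * (h⁻¹).val ∈ K :=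
  (hK hh k).1 hk

theorem conj_mem' (hK : H ≤ subalgebraNormalizer K) {h : GL (Ix m) F} (hh : h ∈ H)
    {k : Matrix (Ix m) (Ix m) F} (hk : k ∈ K) : (h⁻¹).val * k * h.val ∈ K := by
  have := (hK (inv_mem hh) k).1 hk
  rwa [inv_inv] at this

theorem field_eq_zero (hK : IsFieldSubalgebra r K) {k : Matrix (Ix m) (Ix m) F}
    (hk : k ∈ K) {v : Ix m → F} (hv : v ≠ 0) (h : k *ᵥ v = 0) : k = 0 := by
  by_contra hne
  obtain ⟨y, hy, hky⟩ := hK.inv k hk hne
  rw [hK.comm k hk y hy] at hky
  apply hv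
  rw [← Matrix.one_mulVec v, ← hky, ← Matrix.mulVec_mulVec, h, Matrix.mulVec_zero]

theorem mulVec_shift (g : GL (Ix m) F) (k : Matrix (Ix m) (Ix m) F) (v : Ix m → F) :
    k *ᵥ (g.val *ᵥ v) = g.val *ᵥ (((g⁻¹).val * k * g.val) *ᵥ v) := by
  rw [Matrix.mulVec_mulVec, Matrix.mulVec_mulVec, ← mul_assoc, ← mul_assoc, ← Units.val_mul,
    mul_inv_cancel, Units.val_one, one_mul]

theorem adjM_neg (M : Matrix (Ix m) (Ix m) F) : adjM (-M) = -adjM M := by
  rw [← neg_one_smul F M, adjM_smul, neg_one_smul]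

theorem adjM_sub (M N : Matrix (Ix m) (Ix m) F) : adjM (M - N) = adjM M - adjM N := by
  rw [sub_eq_add_neg, adjM_add, adjM_neg, ← sub_eq_add_neg]

theorem field_le_dim (hK : IsFieldSubalgebra r K) (hm : 0 < m) : r ≤ 2 * m := by
  obtain ⟨v, hv⟩ : ∃ v : Ix m → F, v ≠ 0 := ⟨Pi.single (Sum.inl ⟨0, hm⟩) 1, by simp⟩
  let φ : K →ₗ[F] (Ix m → F) :=
    { toFun := fun k => (k : Matrix (Ix m) (Ix m) F) *ᵥ v
      map_add' := fun a b => Matrix.add_mulVec _ _ _
      map_smul' := fun c a => Matrix.smul_mulVec _ _ _ }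
  have h1 := LinearMap.finrank_le_finrank_of_injective (f := φ) (by
    rw [injective_iff_map_eq_zero]
    intro k hk
    exact Subtype.ext (field_eq_zero hK k.2 hv hk))
  rw [Symp.finrank_space, hK.finrank_eq] at h1
  exact h1

/-- The alternatives for a prime degree field normalised by an irreducible group of isometries and
stable under the adjoint. -/
theorem field_cases [Fintype F] (hm : 0 < m) (hH : H ≤ Cfsg.spGL m F) (hirr : ActsIrreducibly (matrixSet H))
    (hr : r.Prime) (hK : IsFieldSubalgebra r K) (hHK : H ≤ subalgebraNormalizer K)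
    (hadj : ∀ k ∈ K, adjM k ∈ K) :
    (IsSelfAdjointFor (Cfsg.sympForm m F) K ∧ (∀ k ∈ K, ∀ v, Cfsg.sympForm m F (k *ᵥ v) v = 0)) ∨
    (r = 2 ∧ Odd (Fintype.card F) ∧ IsAdjointClosedFor (Cfsg.sympForm m F) K ∧
      ¬ IsSelfAdjointFor (Cfsg.sympForm m F) K) ∨
    (r = 2 ∧ ¬ Odd (Fintype.card F) ∧ ∃ Q : (Ix m → F) → F, IsNondegenerateQuadraticForm Q ∧
        (∀ u v, QuadraticMap.polar Q u v = Cfsg.sympForm m F u v) ∧ H ≤ quadSimilarityGroup Q) := by
  classical
  set f := Cfsg.sympForm m F with hf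
  by_cases hself : ∀ k ∈ K, adjM k = k
  · left
    have hsa : IsSelfAdjointFor f K := fun k hk u v => by rw [hf, adjM_spec, hself k hk]
    refine ⟨hsa, ?_⟩
    by_cases h2 : (2 : F) = 0
    swap
    · intro k hk v
      have h1 : f (k *ᵥ v) v = - f (k *ᵥ v) v := by
        conv_lhs => rw [hsa k hk, hf, sp_skew, ← hf]
      exact (mul_eq_zero.1 (show (2 : F) * f (k *ᵥ v) v = 0 by linear_combination h1)).resolve_left h2
    have hswap : ∀ k ∈ K, ∀ u v, f (k *ᵥ u) v = f (k *ᵥ v) u := by
      intro k hk u v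
      rw [hsa k hk, hf, sp_skew, ← hf]
      linear_combination (-(f (k *ᵥ v) u)) * h2
    have hadd : ∀ k ∈ K, ∀ u v, f (k *ᵥ (u + v)) (u + v) = f (k *ᵥ u) u + f (k *ᵥ v) v := by
      intro k hk u v
      simp only [hf, Matrix.mulVec_add, sp_bilinear.add_left, sp_bilinear.add_right]
      rw [← hf, hswap k hk v u]
      linear_combination (f (k *ᵥ u) v) * h2
    let R : Submodule F (Ix m → F) :=
      { carrier := {v | ∀ k ∈ K, f (k *ᵥ v) v = 0}
        add_mem' := fun {a b} ha hb k hk => by rw [hadd k hk, ha k hk, hb k hk, add_zero]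
        zero_mem' := fun k _ => by simp [hf, Cfsg.sympForm]
        smul_mem' := fun c v hv k hk => by
          simp only [hf, Matrix.mulVec_smul, sp_bilinear.smul_left, sp_bilinear.smul_right]
          rw [← hf, hv k hk, mul_zero, mul_zero] }
    have hR : InvSub H R := fun g hg v hv k hk => by
      have h1 := hv _ (conj_mem' hHK hg hk)
      rw [mulVec_shift, hf, mem_spGL.1 (hH hg), ← hf, h1]
    rcases irr_iff.1 hirr R hR with h | h
    · exfalso
      have hinj : ∀ v, (∀ k ∈ K, f (k *ᵥ v) v = 0) → v = 0 := fun v hv =>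
        (Submodule.mem_bot F).1 (h ▸ (show v ∈ R from hv))
      let E : Submodule F (Module.Dual F K) := LinearMap.ker (LinearMap.applyₗ (1 : K))
      let ψ : (Ix m → F) → E := fun v =>
        ⟨{ toFun := fun k => f ((k : Matrix (Ix m) (Ix m) F) *ᵥ v) v
           map_add' := fun a b => by simp only [hf, Subalgebra.coe_add, Matrix.add_mulVec, sp_bilinear.add_left]
           map_smul' := fun c a => by
            simp only [hf, Subalgebra.coe_smul, Matrix.smul_mulVec, sp_bilinear.smul_left, RingHom.id_apply,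
              smul_eq_mul] },
          by simp [E, LinearMap.mem_ker, hf, sp_alt]⟩
      have hψ : Function.Injective ψ := fun u v huv => by
        have h0 : u + v = 0 := hinj _ fun k hk => by
          have h1 : f (k *ᵥ u) u = f (k *ᵥ v) v :=
            congrArg (fun e : E => (e : Module.Dual F K) ⟨k, hk⟩) huv
          rw [hadd k hk, h1]
          linear_combination (f (k *ᵥ v) v) * h2
        funext i
        have h3 := congrFun h0 i
        simp only [Pi.add_apply, Pi.zero_apply] at h3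
        linear_combination h3 - (v i) * h2
      haveI : Finite (Module.Dual F K) := Module.finite_of_finite F
      have h1 := Nat.card_le_card_of_injective ψ hψ
      rw [Module.natCard_eq_pow_finrank (K := F), Module.natCard_eq_pow_finrank (K := F) (V := E),
        Symp.finrank_space] at h1
      have h3 := (Nat.pow_le_pow_iff_right (by rw [Nat.card_eq_fintype_card]; exact Fintype.one_lt_card)).1 h1
      have hne : E < ⊤ := by
        rw [lt_top_iff_ne_top]
        intro htop
        obtain ⟨φ, hφ⟩ : ∃ φ : Module.Dual F K, φ 1 ≠ 0 := by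
          by_contra hne
          push Not at hne
          have h1 := congrArg Subtype.val ((Module.forall_dual_apply_eq_zero_iff F (1 : K)).1 hne)
          have h5 := congrFun (congrFun h1 (Sum.inl ⟨0, hm⟩)) (Sum.inl ⟨0, hm⟩)
          simp at h5
        exact hφ (LinearMap.mem_ker.1 (htop ▸ Submodule.mem_top (x := φ) : φ ∈ E))
      have h4 := Submodule.finrank_lt hne.ne
      rw [Subspace.dual_finrank_eq, hK.finrank_eq] at h4
      have := field_le_dim hK hm
      omega
    · exact fun k hk v => (show v ∈ R from h ▸ Submodule.mem_top) k hk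
  right
  push Not at hself
  obtain ⟨k, hk, hkne⟩ := hself
  have hd0 : k - adjM k ≠ 0 := sub_ne_zero.2 (Ne.symm hkne)
  obtain ⟨w, hw, hdw⟩ := hK.inv _ (sub_mem hk (hadj k hk)) hd0
  let S : Submodule F (Matrix (Ix m) (Ix m) F) :=
    { carrier := {x | x ∈ K ∧ adjM x = x}
      add_mem' := fun {a b} ha hb => ⟨add_mem ha.1 hb.1, by rw [adjM_add, ha.2, hb.2]⟩
      zero_mem' := ⟨zero_mem K, adjM_zero⟩
      smul_mem' := fun c a ha => ⟨K.smul_mem ha.1 c, by rw [adjM_smul, ha.2]⟩ }
  let φ : (S × S) →ₗ[F] K :=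
    { toFun := fun p => ⟨(p.1 : Matrix (Ix m) (Ix m) F) + p.2 * k, add_mem p.1.2.1 (mul_mem p.2.2.1 hk)⟩
      map_add' := fun a b => Subtype.ext (by simp only [Prod.fst_add, Prod.snd_add, Submodule.coe_add,
        Matrix.add_mul, Subalgebra.coe_add]; abel)
      map_smul' := fun c a => Subtype.ext (by simp [smul_add]) }
  have hφ : Function.Bijective φ := by
    constructor
    · rw [injective_iff_map_eq_zero]
      rintro ⟨⟨a, ha⟩, ⟨b, hb⟩⟩ h0
      have h1 : a + b * k = 0 := congrArg Subtype.val h0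
      have h2 : a + adjM k * b = 0 := by
        have := congrArg adjM h1
        rwa [adjM_add, adjM_mul, ha.2, hb.2, adjM_zero] at this
      rw [hK.comm _ (hadj k hk) b hb.1] at h2
      have h3 : b * (k - adjM k) = 0 := by
        rw [Matrix.mul_sub, eq_neg_of_add_eq_zero_right h1, eq_neg_of_add_eq_zero_right h2, sub_self]
      have hb0 : b = 0 := by
        have := congrArg (· * w) h3
        simpa [mul_assoc, hdw] using this
      subst hb0
      rw [Matrix.zero_mul, add_zero] at h1
      subst h1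
      rfl
    · rintro ⟨x, hx⟩
      have hc : ∀ a ∈ K, ∀ b ∈ K, a * b = b * a := hK.comm
      have hwadj : adjM w = -w := by
        have h1 := congrArg adjM hdw
        rw [adjM_mul, adjM_one, adjM_sub, adjM_adjM] at h1
        have h2 := congrArg (· * -w) h1
        simp only [one_mul] at h2
        rw [← h2, mul_assoc, mul_neg, ← neg_mul, neg_sub, hdw, mul_one]
      have hb : adjM ((x - adjM x) * w) = (x - adjM x) * w := by
        rw [adjM_mul, hwadj, adjM_sub, adjM_adjM, neg_mul, ← mul_neg, neg_sub]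
        exact hc w hw _ (sub_mem hx (hadj x hx))
      have hbK : (x - adjM x) * w ∈ K := mul_mem (sub_mem hx (hadj x hx)) hw
      have ha : adjM (x - (x - adjM x) * w * k) = x - (x - adjM x) * w * k := by
        have h5 : (x - adjM x) * w * (k - adjM k) = x - adjM x := by
          rw [mul_assoc, hc w hw _ (sub_mem hk (hadj k hk)), hdw, mul_one]
        rw [sub_eq_add_neg, adjM_add, ← neg_one_smul F ((x - adjM x) * w * k), adjM_smul, adjM_mul, hb,
          hc _ (hadj k hk) _ hbK, neg_one_smul, neg_one_smul]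
        rw [Matrix.mul_sub] at h5
        linear_combination (norm := abel) h5
      exact ⟨(⟨_, sub_mem hx (mul_mem hbK hk), ha⟩, ⟨_, hbK, hb⟩),
        Subtype.ext (by show x - _ + _ = x; abel)⟩
  have hfin := (LinearEquiv.ofBijective φ hφ).finrank_eq
  rw [hK.finrank_eq, Module.finrank_prod] at hfin
  have hS1 : Module.finrank F S = 1 ∧ r = 2 := by
    rcases (Nat.dvd_prime hr).1 (show 2 ∣ r from ⟨Module.finrank F S, by omega⟩) with h | h
    · omega
    · omega
  have hfix : ∀ x ∈ K, adjM x = x → ∃ c : F, x = c • 1 := by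
    intro x hx hxa
    have h1 : (⟨1, one_mem K, adjM_one⟩ : S) ≠ 0 := fun h => by
      have := congrFun (congrFun (congrArg Subtype.val h) (Sum.inl ⟨0, hm⟩)) (Sum.inl ⟨0, hm⟩)
      simp at this
    obtain ⟨c, hc⟩ := (finrank_eq_one_iff_of_nonzero' _ h1).1 hS1.1 ⟨x, hx, hxa⟩
    exact ⟨c, (congrArg Subtype.val hc).symm⟩
  have hne : ¬ IsSelfAdjointFor f K := fun h => hkne (adjM_unique (h k hk))
  by_cases hodd : Odd (Fintype.card F)
  · exact Or.inl ⟨hS1.2, hodd, fun x hx => ⟨adjM x, hadj x hx, adjM_spec x⟩, hne⟩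
  right
  refine ⟨hS1.2, hodd, ?_⟩
  have h2 := two_zero_of_not_odd hodd
  have hneg : ∀ M : Matrix (Ix m) (Ix m) F, -M = M := fun M => by
    rw [← neg_one_smul F M, show (-1 : F) = 1 by linear_combination -h2, one_smul]
  obtain ⟨c, hc⟩ := hfix (k + adjM k) (add_mem hk (hadj k hk)) (by rw [adjM_add, adjM_adjM, add_comm])
  have hc0 : c ≠ 0 := fun h0 => hd0 (by
    rw [sub_eq_add_neg, hneg, hc, h0, zero_smul])
  let k1 := c⁻¹ • k
  have hk1 : k1 ∈ K := K.smul_mem hk _
  have hsum : k1 + adjM k1 = 1 := by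
    rw [adjM_smul, ← smul_add, hc, smul_smul, inv_mul_cancel₀ hc0, one_smul]
  let Q : (Ix m → F) → F := fun v => f (k1 *ᵥ v) v
  have hsymm : ∀ u v, f u v = f v u := fun u v => by
    rw [hf, sp_skew]; linear_combination (-(Cfsg.sympForm m F v u)) * h2
  have hpol : ∀ u v, QuadraticMap.polar Q u v = f u v := by
    intro u v
    conv_rhs => rw [← Matrix.one_mulVec u, ← hsum, Matrix.add_mulVec, hf, sp_bilinear.add_left, ← hf]
    simp only [QuadraticMap.polar, Q, hf, Matrix.mulVec_add, sp_bilinear.add_left, sp_bilinear.add_right]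
    rw [← hf]
    have h4 : f (k1 *ᵥ v) u = f (adjM k1 *ᵥ u) v := by rw [hf, adjM_spec, ← hf, hsymm]
    rw [h4]; ring
  refine ⟨Q, ⟨fun d v => ?_, ?_, ?_⟩, hpol, fun g hg => ⟨1, fun v => ?_⟩⟩
  · simp only [Q, hf, Matrix.mulVec_smul, sp_bilinear.smul_left, sp_bilinear.smul_right]; ring
  · rw [show QuadraticMap.polar Q = f from funext fun u => funext (hpol u)]; exact sp_bilinear
  · rw [show QuadraticMap.polar Q = f from funext fun u => funext (hpol u)]; exact sp_nondeg
  · have hk' := conj_mem' hHK hg hk1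
    have hsum' : (g⁻¹).val * k1 * g.val + adjM ((g⁻¹).val * k1 * g.val) = 1 := by
      rw [adjM_mul, adjM_mul, adjM_of_mem (hH hg), adjM_of_mem (hH (inv_mem hg)), inv_inv, ← mul_assoc,
        ← Matrix.add_mul, ← Matrix.mul_add, hsum, mul_one, ← Units.val_mul, inv_mul_cancel, Units.val_one]
    obtain ⟨a, ha⟩ := hfix _ (sub_mem hk' hk1) (by
      rw [adjM_sub, eq_sub_of_add_eq' hsum, eq_sub_of_add_eq' hsum', ← hneg ((g⁻¹).val * k1 * g.val - k1)]
      abel)
    rw [Units.val_one, one_mul]
    show f (k1 *ᵥ (g.val *ᵥ v)) (g.val *ᵥ v) = f (k1 *ᵥ v) v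
    rw [mulVec_shift, hf, mem_spGL.1 (hH hg),
      eq_add_of_sub_eq ha, Matrix.add_mulVec, sp_bilinear.add_left, Matrix.smul_mulVec, Matrix.one_mulVec,
      sp_bilinear.smul_left, sp_alt, mul_zero, zero_add]

end Cfsg.Lib.Linear.AschSp
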