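import Cfsg.Agent.Lib.Linear.AschSp.General
import Cfsg.Agent.Lib.Linear.SymplecticMax
import Cfsg.Agent.Lib.Linear.Aschbacher.NotSL

/-!
# The symplectic group preserves none of the geometric structures
-/

set_option autoImplicit false
set_option linter.unusedSectionVars false
set_option linter.style.haveILetI false

namespace Cfsg.Lib.Linear.AschSp

open Cfsg.Geo Cfsg.Lib.Linear Cfsg.Lib.Linear.Asch
open scoped Matrix MatrixGroups commutatorElement Kronecker

variable {m : ℕ} {F : Type*} [Field F]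

/-- A symplectic transvection as an invertible matrix. -/
def tvS (u : Ix m → F) (c : F) : GL (Ix m) F where
  val := Cfsg.sympTransvection m u c
  inv := Cfsg.sympTransvection m u (-c)
  val_inv := by
    refine Matrix.ext_of_mulVec_single fun i => ?_
    rw [← Matrix.mulVec_mulVec, Matrix.one_mulVec, Symp.sympTransvection_mulVec, Symp.sympTransvection_mulVec,
      map_add, LinearMap.map_smul]
    simp only [LinearMap.add_apply, LinearMap.smul_apply, Symp.spB_isAlt m F u, smul_eq_mul, mul_zero, add_zero]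
    module
  inv_val := by
    refine Matrix.ext_of_mulVec_single fun i => ?_
    rw [← Matrix.mulVec_mulVec, Matrix.one_mulVec, Symp.sympTransvection_mulVec, Symp.sympTransvection_mulVec,
      map_add, LinearMap.map_smul]
    simp only [LinearMap.add_apply, LinearMap.smul_apply, Symp.spB_isAlt m F u, smul_eq_mul, mul_zero, add_zero]
    module

theorem tvS_apply (u : Ix m → F) (c : F) (x : Ix m → F) :
    (tvS u c).val *ᵥ x = x + (c * Cfsg.sympForm m F x u) • u := by
  rw [← Symp.spB_apply]
  exact Symp.sympTransvection_mulVec u c x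

theorem tvS_fix (u : Ix m → F) (c : F) {x : Ix m → F} (h : Cfsg.sympForm m F x u = 0) :
    (tvS u c).val *ᵥ x = x := by
  rw [tvS_apply, h, mul_zero, zero_smul, add_zero]

theorem tvS_mem (u : Ix m → F) (c : F) : tvS u c ∈ Cfsg.spGL m F := by
  refine mem_spGL.2 fun x y => ?_
  simp only [tvS_apply, sp_bilinear.add_left, sp_bilinear.add_right, sp_bilinear.smul_left, sp_bilinear.smul_right,
    sp_alt]
  rw [sp_skew u y]
  ring

theorem exists_notMem_form {W : Submodule F (Ix m → F)} (h1 : W ≠ ⊤) {w : Ix m → F} (hw : w ≠ 0) :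
    ∃ u, u ∉ W ∧ Cfsg.sympForm m F w u ≠ 0 := by
  obtain ⟨x, hx⟩ := (sp_nondeg w hw).2
  by_cases hxW : x ∈ W
  · obtain ⟨z, -, hz⟩ := SetLike.exists_of_lt (lt_top_iff_ne_top.2 h1)
    by_cases hzw : Cfsg.sympForm m F w z = 0
    · exact ⟨z + x, fun h => hz (by simpa using W.sub_mem h hxW), by
        rwa [sp_bilinear.add_right, hzw, zero_add]⟩
    · exact ⟨z, hz, hzw⟩
  · exact ⟨x, hxW, hx⟩

theorem not_sp_le_subspace {W : Submodule F (Ix m → F)} (h0 : W ≠ ⊥) (h1 : W ≠ ⊤) :
    ¬ Cfsg.spGL m F ≤ subspaceStabilizer W := by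
  intro h
  obtain ⟨w, hw, hw0⟩ := Submodule.exists_mem_ne_zero_of_ne_bot h0
  obtain ⟨u, hu, hwu⟩ := exists_notMem_form h1 hw0
  have h2 : (tvS u 1).val *ᵥ w ∈ W := ((h (tvS_mem u 1)) w).1 hw
  rw [tvS_apply, one_mul] at h2
  have h3 := (W.add_mem_iff_right hw).1 h2
  exact hu ((W.smul_mem_iff hwu).1 h3)

theorem exists_common_zero {V : Type*} [AddCommGroup V] [Module F V] [FiniteDimensional F V]
    (hV : 3 ≤ Module.finrank F V) (φ ψ : V →ₗ[F] F) : ∃ v : V, v ≠ 0 ∧ φ v = 0 ∧ ψ v = 0 := by
  have h := LinearMap.finrank_range_add_finrank_ker (φ.prod ψ)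
  have h1 : Module.finrank F (LinearMap.range (φ.prod ψ)) ≤ 2 := by
    refine le_trans (Submodule.finrank_le _) ?_
    rw [Module.finrank_prod, Module.finrank_self]
  have h2 : LinearMap.ker (φ.prod ψ) ≠ ⊥ := fun h0 => by
    rw [h0, finrank_bot] at h
    omega
  obtain ⟨v, hv, hv0⟩ := Submodule.exists_mem_ne_zero_of_ne_bot h2
  rw [LinearMap.mem_ker, LinearMap.prod_apply] at hv
  exact ⟨v, hv0, congrArg Prod.fst hv, congrArg Prod.snd hv⟩

theorem not_sp_le_decomp {t k : ℕ} {D : Fin t → Submodule F (Ix m → F)} (hD : IsMDecomposition k D) (hk : 2 ≤ k) :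
    ¬ Cfsg.spGL m F ≤ decompositionStabilizer D := by
  intro h
  have ht : 0 < t := lt_of_lt_of_le (by norm_num) hD.two_le
  let i₀ : Fin t := ⟨0, ht⟩
  have h0 : D i₀ ≠ ⊥ := fun hb => by
    have := hD.finrank_eq i₀
    rw [hb, finrank_bot] at this
    omega
  have h1 : D i₀ ≠ ⊤ := fun hb => by
    let i₁ : Fin t := ⟨1, lt_of_lt_of_le (by norm_num) hD.two_le⟩
    have hd := hD.indep.pairwiseDisjoint (show i₀ ≠ i₁ by simp [i₀, i₁, Fin.ext_iff])
    simp only [Function.onFun, hb, top_disjoint] at hd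
    have := hD.finrank_eq i₁
    rw [hd, finrank_bot] at this
    omega
  obtain ⟨w, hw, hw0⟩ := Submodule.exists_mem_ne_zero_of_ne_bot h0
  obtain ⟨u, hu, hwu⟩ := exists_notMem_form h1 hw0
  obtain ⟨σ, hσ⟩ := h (tvS_mem u 1)
  -- a fixed vector in the block
  let φ : D i₀ →ₗ[F] F :=
    { toFun := fun v => Cfsg.sympForm m F (v : Ix m → F) u
      map_add' := fun a b => sp_bilinear.add_left _ _ _
      map_smul' := fun c a => sp_bilinear.smul_left _ _ _ }
  obtain ⟨v, hv0, hv⟩ : ∃ v : D i₀, v ≠ 0 ∧ φ v = 0 := by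
    have h3 := LinearMap.finrank_range_add_finrank_ker φ
    have h4 : Module.finrank F (LinearMap.range φ) ≤ 1 := by
      refine le_trans (Submodule.finrank_le _) ?_
      rw [Module.finrank_self]
    have h5 : LinearMap.ker φ ≠ ⊥ := fun h0 => by
      rw [h0, finrank_bot, hD.finrank_eq] at h3
      omega
    obtain ⟨v, hv, hv0⟩ := Submodule.exists_mem_ne_zero_of_ne_bot h5
    exact ⟨v, hv0, hv⟩
  have hmv : (v : Ix m → F) ∈ D (σ i₀) := by
    rw [← hσ i₀]
    exact ⟨v, v.2, by rw [Matrix.toLin'_apply]; exact tvS_fix u 1 hv⟩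
  have hσ0 : σ i₀ = i₀ := by
    by_contra hne
    have h3 := (hD.indep.pairwiseDisjoint hne).le_bot ⟨hmv, v.2⟩
    exact hv0 (Subtype.ext ((Submodule.mem_bot F).1 h3))
  have h3 : (tvS u 1).val *ᵥ w ∈ D i₀ := by
    rw [← hσ0, ← hσ i₀]
    exact ⟨w, hw, Matrix.toLin'_apply _ _⟩
  rw [tvS_apply, one_mul] at h3
  exact hu (((D i₀).smul_mem_iff hwu).1 (((D i₀).add_mem_iff_right hw).1 h3))

/-- A normalised set of matrices none of which but zero vanishes on a subspace of codimension two
consists of scalars. -/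
theorem scalar_of_normalised (hm : 0 < m) (S : Submodule F (Matrix (Ix m) (Ix m) F))
    (hn : ∀ u : Ix m → F, ∀ X ∈ S, (tvS u 1).val * X * ((tvS u 1)⁻¹).val ∈ S)
    (hkill : ∀ X ∈ S, ∀ φ ψ : (Ix m → F) →ₗ[F] F, (∀ v, φ v = 0 → ψ v = 0 → X *ᵥ v = 0) → X = 0) :
    ∀ X ∈ S, ∃ c : F, X = c • 1 := by
  intro X hX
  haveI : Nonempty (Ix m) := ⟨Sum.inl ⟨0, hm⟩⟩
  refine exists_smul_one fun u => ?_
  by_cases hu : u = 0
  · exact ⟨0, by simp [hu]⟩
  set g := tvS u (1 : F)
  let φ : (Ix m → F) →ₗ[F] F :=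
    { toFun := fun v => Cfsg.sympForm m F v u
      map_add' := fun a b => sp_bilinear.add_left _ _ _
      map_smul' := fun c a => sp_bilinear.smul_left _ _ _ }
  let ψ : (Ix m → F) →ₗ[F] F := φ.comp (Matrix.toLin' X)
  have h1 := hkill _ (S.sub_mem (hn u X hX) hX) φ ψ fun v hv hv' => by
    have hfix : (g⁻¹).val *ᵥ v = v := by
      conv_lhs => rw [← tvS_fix u 1 hv, inv_mulVec_mulVec]
    rw [Matrix.sub_mulVec, ← Matrix.mulVec_mulVec, ← Matrix.mulVec_mulVec, hfix,
      tvS_fix u 1 (show Cfsg.sympForm m F (X *ᵥ v) u = 0 from hv'), sub_self]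
  have h2 : g.val * X = X * g.val := by
    have h3 := congrArg (· * g.val) (sub_eq_zero.1 h1)
    rw [Matrix.mul_assoc, ← Units.val_mul, inv_mul_cancel, Units.val_one, Matrix.mul_one] at h3
    exact h3
  obtain ⟨z, hz⟩ := (sp_nondeg u hu).1
  have h3 := congrArg (· *ᵥ z) h2
  simp only [← Matrix.mulVec_mulVec, g, tvS_apply, one_mul, Matrix.mulVec_add, Matrix.mulVec_smul,
    add_right_inj] at h3
  refine ⟨(Cfsg.sympForm m F z u)⁻¹ * Cfsg.sympForm m F (X *ᵥ z) u, ?_⟩
  rw [mul_smul, h3, smul_smul, inv_mul_cancel₀ hz, one_smul]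

theorem not_sp_le_field {r : ℕ} (hm : 2 ≤ m) (hr : 2 ≤ r) {K : Subalgebra F (Matrix (Ix m) (Ix m) F)}
    (hK : IsFieldSubalgebra r K) : ¬ Cfsg.spGL m F ≤ subalgebraNormalizer K := by
  intro h
  have h1 := scalar_of_normalised (by omega) (Subalgebra.toSubmodule K)
    (fun u X hX => (h (tvS_mem u 1) X).1 hX) (fun X hX φ ψ hv => by
      obtain ⟨v, hv0, hφ, hψ⟩ := exists_common_zero (by rw [Symp.finrank_space]; omega) φ ψ
      exact field_eq_zero hK hX hv0 (hv v hφ hψ))
  have h2 : K ≤ ⊥ := fun X hX => by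
    obtain ⟨c, hc⟩ := h1 X hX
    exact Algebra.mem_bot.2 ⟨c, by rw [hc, Algebra.algebraMap_eq_smul_one]⟩
  have h3 := hK.finrank_eq
  haveI : Nonempty (Ix m) := ⟨Sum.inl ⟨0, by omega⟩⟩
  rw [eq_bot_iff.2 h2, Subalgebra.finrank_bot] at h3
  omega

theorem not_sp_le_tensor {d k : ℕ} (hd : 2 ≤ d) (hk : 3 ≤ k) {e : Ix m ≃ Fin d × Fin k} {P : GL (Ix m) F} :
    ¬ Cfsg.spGL m F ≤ tensorProductSubgroup d k e P := by
  intro h
  have hm : 0 < m := by
    have h1 := Fintype.card_congr e
    rw [card_ix, Fintype.card_prod, Fintype.card_fin, Fintype.card_fin] at h1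
    nlinarith
  let ι₁ : Matrix (Fin d) (Fin d) F →ₗ[F] Matrix (Ix m) (Ix m) F :=
    { toFun := fun a => tm e P (a ⊗ₖ (1 : Matrix (Fin k) (Fin k) F))
      map_add' := fun a b => by rw [Matrix.add_kronecker, tm_add]
      map_smul' := fun c a => by rw [Matrix.smul_kronecker, tm_smul]; rfl }
  have h1 := scalar_of_normalised hm (LinearMap.range ι₁) (fun u X hX => by
      obtain ⟨a, rfl⟩ := hX
      obtain ⟨x, y, hxy⟩ := kronHold_iff.1 h (tvS u 1) (tvS_mem u 1)
      refine ⟨x.val * a * (x⁻¹).val, ?_⟩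
      have hinv : ((tvS u (1 : F))⁻¹).val = tm e P ((x⁻¹).val ⊗ₖ (y⁻¹).val) := by
        have h3 : (tvS u (1 : F)).val * tm e P ((x⁻¹).val ⊗ₖ (y⁻¹).val) = 1 := by
          rw [hxy, ← tm_mul, ← Matrix.mul_kronecker_mul, ← Units.val_mul, ← Units.val_mul, mul_inv_cancel,
            mul_inv_cancel, Units.val_one, Units.val_one, Matrix.one_kronecker_one, tm_one]
        have h4 := congrArg (((tvS u (1 : F))⁻¹).val * ·) h3
        simp only [← Matrix.mul_assoc, ← Units.val_mul, inv_mul_cancel, Units.val_one, Matrix.one_mul,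
          Matrix.mul_one] at h4
        exact h4.symm
      show tm e P _ = _ * tm e P _ * _
      rw [hinv, hxy, ← tm_mul, ← tm_mul, ← Matrix.mul_kronecker_mul, ← Matrix.mul_kronecker_mul, Matrix.mul_one,
        ← Units.val_mul y, mul_inv_cancel, Units.val_one]) (by
      rintro _ ⟨a, rfl⟩ φ ψ hv
      suffices ha : a = 0 by rw [ha, map_zero]
      refine Matrix.ext fun i j => ?_
      let emb : (Fin k → F) →ₗ[F] (Ix m → F) :=
        { toFun := fun w => P.val *ᵥ ((fun bc : Fin d × Fin k => (Pi.single j (1 : F) : Fin d → F) bc.1 * w bc.2) ∘ e)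
          map_add' := fun a b => by
            rw [← Matrix.mulVec_add]; congr 1; funext l; simp [mul_add]
          map_smul' := fun c a => by
            rw [RingHom.id_apply, ← Matrix.mulVec_smul]; congr 1; funext l; simp; ring }
      obtain ⟨w, hw0, hφ, hψ⟩ := exists_common_zero (V := Fin k → F) (by rw [Module.finrank_fin_fun]; omega)
        (φ.comp emb) (ψ.comp emb)
      have h3 := hv _ hφ hψ
      change tm e P _ *ᵥ (P.val *ᵥ _) = 0 at h3
      rw [tm_act, kron_mulVec_pure] at h3
      have h4 := congrArg ((P⁻¹).val *ᵥ ·) h3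
      simp only [inv_mulVec_mulVec, Matrix.mulVec_zero] at h4
      obtain ⟨c, hc⟩ := Function.ne_iff.1 hw0
      have h5 := congrFun h4 (e.symm (i, c))
      simp [Matrix.mulVec_single_one] at h5
      exact h5.resolve_right hc)
  obtain ⟨c, hc⟩ := h1 (ι₁ (Matrix.single ⟨0, by omega⟩ ⟨1, by omega⟩ 1)) ⟨_, rfl⟩
  have h2 : (Matrix.single (⟨0, by omega⟩ : Fin d) (⟨1, by omega⟩ : Fin d) (1 : F)) ⊗ₖ (1 : Matrix (Fin k) (Fin k) F) = c • 1 :=
    tm_inj e P (by rw [tm_smul, tm_one]; exact hc)
  have h3 := congrFun (congrFun h2 (⟨0, by omega⟩, ⟨0, by omega⟩)) (⟨1, by omega⟩, ⟨0, by omega⟩)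
  simp at h3

theorem not_sp_le_subfield [Fintype F] (hm : 0 < m) {F₁ : Subfield F} (hne : F₁ ≠ ⊤) {P : GL (Ix m) F} :
    ¬ Cfsg.spGL m F ≤ subfieldSubgroup F₁ P := by
  classical
  intro h
  let u : Ix m → F := Pi.single (Sum.inl ⟨0, hm⟩) 1
  have hu : u ≠ 0 := by simp [u]
  set A : Matrix (Ix m) (Ix m) F := (tvS u (1 : F)).val - 1
  set N : Matrix (Ix m) (Ix m) F := (P⁻¹).val * A * P.val
  have htv : ∀ c : F, (tvS u c).val = 1 + c • A := fun c => by
    refine Matrix.ext_of_mulVec_single fun i => ?_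
    simp only [A, Matrix.add_mulVec, Matrix.smul_mulVec, Matrix.sub_mulVec, Matrix.one_mulVec, tvS_apply, one_mul,
      add_sub_cancel_left, smul_smul]
  have hAA : A * A = 0 := by
    refine Matrix.ext_of_mulVec_single fun i => ?_
    simp only [A, ← Matrix.mulVec_mulVec, Matrix.sub_mulVec, Matrix.one_mulVec, tvS_apply, one_mul,
      add_sub_cancel_left, sp_bilinear.smul_left, sp_alt, mul_zero, zero_smul, Matrix.zero_mulVec]
  have hNN : N * N = 0 := by
    simp only [N, Matrix.mul_assoc]
    rw [← Matrix.mul_assoc P.val, ← Units.val_mul, mul_inv_cancel, Units.val_one, Matrix.one_mul,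
      ← Matrix.mul_assoc A A, hAA, Matrix.zero_mul, Matrix.mul_zero]
  have hN0 : N ≠ 0 := fun h0 => by
    obtain ⟨z, hz⟩ := (sp_nondeg u hu).1
    have h1 : A = 0 := by
      have := congrArg (fun x => P.val * x * (P⁻¹).val) h0
      simpa only [N, ← Matrix.mul_assoc, ← Units.val_mul, mul_inv_cancel, Units.val_one, Matrix.one_mul,
        Matrix.mul_assoc A, Matrix.mul_one, Matrix.mul_zero, Matrix.zero_mul] using this
    have h2 := congrArg (· *ᵥ z) h1
    simp only [A, Matrix.sub_mulVec, Matrix.one_mulVec, tvS_apply, one_mul, add_sub_cancel_left, Matrix.zero_mulVec,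
      smul_eq_zero] at h2
    exact h2.elim hz hu
  have key : ∀ c : F, ∃ d : F, d ∈ F₁ ∧ d ≠ 0 ∧ ∀ i j, d * (1 + c • N) i j ∈ F₁ := by
    intro c
    obtain ⟨s, hs, hR⟩ := (mem_subfieldSubgroup_iff F₁ P (tvS u c)).1 (h (tvS_mem u c))
    have hval : (P⁻¹ * tvS u c * P).val = 1 + c • N := by
      rw [Units.val_mul, Units.val_mul, htv, Matrix.mul_add, Matrix.add_mul, Matrix.mul_one, ← Units.val_mul,
        inv_mul_cancel, Units.val_one, Matrix.mul_smul, Matrix.smul_mul]
    rw [hval] at hR
    set d := s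
    have hsq : ∀ i j, d * d * (1 + (2 * c) • N) i j ∈ F₁ := by
      intro i j
      have h3 : (1 + c • N) * (1 + c • N) = 1 + (2 * c) • N := by
        simp only [Matrix.add_mul, Matrix.mul_add, Matrix.one_mul, Matrix.mul_one, Matrix.smul_mul, Matrix.mul_smul,
          hNN, smul_zero, add_zero]
        module
      rw [← h3, Matrix.mul_apply, Finset.mul_sum]
      refine sum_mem fun l _ => ?_
      rw [show d * d * ((1 + c • N) i l * (1 + c • N) l j) = (d * (1 + c • N) i l) * (d * (1 + c • N) l j) by ring]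
      exact mul_mem (hR i l) (hR l j)
    refine ⟨d, ?_, hs, hR⟩
    by_cases hc : c = 0
    · have h3 := hR (Sum.inl ⟨0, hm⟩) (Sum.inl ⟨0, hm⟩)
      simpa [hc] using h3
    by_cases h2 : (2 : F) = 0
    · have h3 := hsq (Sum.inl ⟨0, hm⟩) (Sum.inl ⟨0, hm⟩)
      rw [h2, zero_mul, zero_smul, add_zero, Matrix.one_apply_eq, mul_one] at h3
      have hinj : Function.Injective fun x : F₁ => x * x := fun x y hxy => by
        rcases mul_self_eq_mul_self_iff.1 hxy with e | e
        · exact e
        · refine Subtype.ext ?_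
          have e' := congrArg Subtype.val e
          simp only [Subfield.coe_neg] at e'
          linear_combination e' - (y : F) * h2
      obtain ⟨y, hy⟩ := Finite.injective_iff_surjective.1 hinj ⟨_, h3⟩
      have hy' : (y : F) * y = d * d := congrArg Subtype.val hy
      rcases mul_self_eq_mul_self_iff.1 hy' with e | e
      · exact e ▸ y.2
      · rw [show d = -(y : F) by rw [e, neg_neg]]; exact neg_mem y.2
    · obtain ⟨i, j, hij, hNij⟩ : ∃ i j, i ≠ j ∧ N i j ≠ 0 := by
        by_contra hcon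
        push Not at hcon
        refine hN0 (Matrix.ext fun i j => ?_)
        by_cases hij : i = j
        · subst hij
          have h3 := congrFun (congrFun hNN i) i
          rw [Matrix.mul_apply, Finset.sum_eq_single i (fun l _ hl => by rw [hcon i l (Ne.symm hl), zero_mul])
            (fun hn => absurd (Finset.mem_univ _) hn)] at h3
          exact mul_self_eq_zero.1 h3
        · exact hcon i j hij
      have h3 := hsq i j
      have h4 := hR i j
      simp only [Matrix.add_apply, Matrix.one_apply_ne hij, zero_add, Matrix.smul_apply, smul_eq_mul] at h3 h4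
      have h5 : d = (d * d * (2 * c * N i j)) / (d * (c * N i j)) / 2 := by field_simp
      rw [h5]
      exact div_mem (div_mem h3 h4) (natCast_mem F₁ 2)
  obtain ⟨i, j, hNij⟩ : ∃ i j, N i j ≠ 0 := by
    by_contra hcon
    push Not at hcon
    exact hN0 (Matrix.ext hcon)
  refine hne (eq_top_iff.2 fun x _ => ?_)
  obtain ⟨d, hd, hd0, hR⟩ := key (x / N i j)
  have h3 := div_mem (hR i j) hd
  rw [mul_div_cancel_left₀ _ hd0, Matrix.add_apply, Matrix.smul_apply, smul_eq_mul, div_mul_cancel₀ _ hNij] at h3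
  have h4 : ((1 : Matrix (Ix m) (Ix m) F) i j) ∈ F₁ := by
    by_cases hij : i = j
    · subst hij; rw [Matrix.one_apply_eq]; exact one_mem _
    · rw [Matrix.one_apply_ne hij]; exact zero_mem _
  simpa using sub_mem h3 h4

theorem not_sp_le_quad [Fintype F] (hm : 2 ≤ m) (heven : ¬ Odd (Fintype.card F)) {Q : (Ix m → F) → F}
    (hQ : IsNondegenerateQuadraticForm Q) (hpol : ∀ u v, QuadraticMap.polar Q u v = Cfsg.sympForm m F u v) :
    ¬ Cfsg.spGL m F ≤ quadSimilarityGroup Q := by
  intro h
  have h2 := two_zero_of_not_odd heven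
  have hadd : ∀ u v, Q (u + v) = Q u + Q v + Cfsg.sympForm m F u v := fun u v => by
    rw [← hpol, QuadraticMap.polar]; ring
  obtain ⟨x₀, hx₀⟩ : ∃ x, Q x ≠ 0 := by
    by_contra hcon
    push Not at hcon
    obtain ⟨y, hy⟩ := (sp_nondeg (Pi.single (Sum.inl (⟨0, by omega⟩ : Fin m)) (1 : F) : Ix m → F) (by simp)).1
    exact hy (by rw [← hpol]; simp [QuadraticMap.polar, hcon])
  have key : ∀ (u : Ix m → F) (l : F), ∃ c : Fˣ, ∀ x,
      Q x + (l * Cfsg.sympForm m F x u) ^ 2 * Q u + l * Cfsg.sympForm m F x u * Cfsg.sympForm m F x u = c * Q x := by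
    intro u l
    obtain ⟨c, hc⟩ := h (tvS_mem u l)
    refine ⟨c, fun x => ?_⟩
    rw [← hc x, tvS_apply, hadd, hQ.smul, sp_bilinear.smul_right]
  have hQ0 : ∀ l : F, l ≠ 0 → l * Q x₀ = -1 := by
    intro l hl
    obtain ⟨c, hc⟩ := key x₀ l
    have hc1 : (c : F) = 1 := by
      have h3 := hc x₀
      rw [sp_alt] at h3
      simp only [mul_zero, ne_eq, OfNat.ofNat_ne_zero, not_false_eq_true, zero_pow, zero_mul, add_zero] at h3
      exact (mul_eq_right₀ hx₀).1 h3.symm
    have hne : x₀ ≠ 0 := fun h0 => hx₀ (by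
      have := hQ.smul 0 0
      rw [zero_smul] at this
      rw [h0, this]; ring)
    obtain ⟨x, hx⟩ := (sp_nondeg x₀ hne).1
    have h3 := hc x
    rw [hc1] at h3
    have h4 : l * Q x₀ + 1 = 0 := by
      refine (mul_eq_zero.1 (?_ : (l * Q x₀ + 1) * (l * Cfsg.sympForm m F x x₀ ^ 2) = 0)).resolve_right
        (mul_ne_zero hl (pow_ne_zero _ hx))
      linear_combination h3
    linear_combination h4
  have hall : ∀ l : F, l = 0 ∨ l = 1 := fun l => by
    by_cases hl : l = 0
    · exact Or.inl hl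
    · right
      refine mul_right_cancel₀ hx₀ ?_
      rw [hQ0 l hl, hQ0 1 one_ne_zero]
  have hone : ∀ u, u ≠ 0 → Q u = 1 := fun u hu => by
    obtain ⟨c, hc⟩ := key u 1
    have hc1 : (c : F) = 1 := (hall c).resolve_left c.ne_zero
    obtain ⟨x, hx⟩ := (sp_nondeg u hu).1
    have h3 := hc x
    rw [hc1, (hall _).resolve_left hx] at h3
    linear_combination h3 - h2
  let a : Ix m → F := Pi.single (Sum.inl ⟨0, by omega⟩) 1
  let φ : (Ix m → F) →ₗ[F] F :=
    { toFun := fun v => Cfsg.sympForm m F a v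
      map_add' := fun x y => sp_bilinear.add_right _ _ _
      map_smul' := fun c x => sp_bilinear.smul_right _ _ _ }
  let ψ : (Ix m → F) →ₗ[F] F := LinearMap.proj (Sum.inl ⟨0, by omega⟩)
  obtain ⟨b, hb0, hb, hb'⟩ := exists_common_zero (by rw [Symp.finrank_space]; omega) φ ψ
  have hab : a + b ≠ 0 := fun h0 => by
    have h3 := congrFun h0 (Sum.inl ⟨0, by omega⟩)
    rw [Pi.add_apply, show b (Sum.inl ⟨0, _⟩) = 0 from hb'] at h3
    simp [a] at h3
  have h3 := hadd a b
  rw [hone _ hab, hone a (by simp [a]), hone b hb0, show Cfsg.sympForm m F a b = 0 from hb, add_zero] at h3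
  exact one_ne_zero (by linear_combination -h3 : (1 : F) = 0)

/-- A subgroup of isometries of symplectic type with more than eight elements has a non-central involution. -/
theorem exists_involution (hm : 0 < m) {R : Subgroup (GL (Ix m) F)} [Finite R] (hR : R ≤ Cfsg.spGL m F)
    (habs : ActsAbsolutelyIrreducibly (matrixSet R)) (hcard : 8 < Nat.card R) (hexp : ∀ x ∈ R, x ^ 4 = 1)
    (hsq : ∀ x ∈ R, x ^ 2 ∈ scalars (Ix m) F) (hcs : ∀ x ∈ R, ∀ y ∈ R, ⁅x, y⁆ ∈ scalars (Ix m) F) :
    ∃ x ∈ R, x ∉ scalars (Ix m) F ∧ x * x = 1 := by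
  classical
  haveI : Nonempty (Ix m) := ⟨Sum.inl ⟨0, hm⟩⟩
  have hpm : ∀ z ∈ R, z ∈ scalars (Ix m) F → z.val = 1 ∨ z.val = -1 := fun z hz hs => scalar_sign hm (hR hz) hs
  obtain ⟨x, hx, hxs⟩ : ∃ x ∈ R, x ∉ scalars (Ix m) F := by
    by_contra hcon
    push Not at hcon
    have hinj : Function.Injective fun z : R => decide ((z : GL (Ix m) F).val = 1) := fun a b hab => by
      simp only [decide_eq_decide] at hab
      refine Subtype.ext (Units.ext ?_)
      rcases hpm a a.2 (hcon a a.2) with ha | ha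
      · rw [ha, hab.1 ha]
      · rcases hpm b b.2 (hcon b b.2) with hb | hb
        · rw [hb, hab.2 hb]
        · rw [ha, hb]
    have h1 := Nat.card_le_card_of_injective _ hinj
    simp only [Nat.card_eq_fintype_card (α := Bool), Fintype.card_bool] at h1
    omega
  by_cases hx2 : x * x = 1
  · exact ⟨x, hx, hxs, hx2⟩
  have hxval : (x * x).val = -1 := by
    rcases hpm (x * x) (mul_mem hx hx) (by rw [← pow_two]; exact hsq x hx) with h | h
    · exact absurd (Units.ext h) hx2
    · exact h
  -- the centraliser of `x` in `R` has index at most two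
  let φ : R → Bool := fun y => decide ((⁅(y : GL (Ix m) F), x⁆).val = 1)
  letI : Fintype R := Fintype.ofFinite R
  have hφ : ∀ y z : R, φ y = φ z → Commute ((y : GL (Ix m) F)⁻¹ * z) x := by
    intro y z hyz
    have hy := hpm _ (mul_mem (mul_mem (mul_mem y.2 hx) (inv_mem y.2)) (inv_mem hx)) (hcs _ y.2 x hx)
    have hz := hpm _ (mul_mem (mul_mem (mul_mem z.2 hx) (inv_mem z.2)) (inv_mem hx)) (hcs _ z.2 x hx)
    simp only [φ, decide_eq_decide] at hyz
    have he : ⁅(y : GL (Ix m) F), x⁆ = ⁅(z : GL (Ix m) F), x⁆ := by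
      refine Units.ext ?_
      rcases hy with a | a
      · exact a.trans (hyz.1 a).symm
      · rcases hz with b | b
        · exact (hyz.2 b).trans b.symm
        · exact a.trans b.symm
    show _ * _ = _ * _
    calc (y : GL (Ix m) F)⁻¹ * z * x = (y : GL (Ix m) F)⁻¹ * (⁅(z : GL (Ix m) F), x⁆ * x * z) := by
          rw [commutatorElement_def]; group
      _ = x * ((y : GL (Ix m) F)⁻¹ * z) := by rw [← he, commutatorElement_def]; group
  obtain ⟨b, hb⟩ : ∃ b : Bool, 4 < (Finset.univ.filter fun y => φ y = b).card := by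
    by_contra hcon
    push Not at hcon
    have h1 := Finset.card_filter_add_card_filter_not (s := (Finset.univ : Finset R)) (fun y => φ y = true)
    have h3 : (Finset.univ.filter fun y => ¬ φ y = true) = Finset.univ.filter fun y => φ y = false :=
      Finset.filter_congr fun y _ => by simp
    have := hcon true
    have := hcon false
    rw [h3, Finset.card_univ, ← Nat.card_eq_fintype_card] at h1
    omega
  obtain ⟨y₀, hy₀⟩ : (Finset.univ.filter fun y => φ y = b).Nonempty := Finset.card_pos.1 (by omega)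
  let one' : R := 1
  let x' : R := ⟨x, hx⟩
  let m1 : R := ⟨x * x, mul_mem hx hx⟩
  obtain ⟨y, hy, hy'⟩ : ∃ y ∈ (Finset.univ.filter fun y => φ y = b).image (fun y => y₀⁻¹ * y),
      y ∉ ({one', x', m1, m1 * x'} : Finset R) := by
    by_contra hcon
    push Not at hcon
    have h1 := Finset.card_le_card hcon
    rw [Finset.card_image_of_injective _ (mul_right_injective _)] at h1
    have h3 : ({one', x', m1, m1 * x'} : Finset R).card ≤ 4 := Finset.card_le_four
    omega
  obtain ⟨z, hz, rfl⟩ := Finset.mem_image.1 hy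
  set w := y₀⁻¹ * z with hw
  have hcomm : Commute (w : GL (Ix m) F) x :=
    hφ y₀ z ((Finset.mem_filter.1 hy₀).2.trans (Finset.mem_filter.1 hz).2.symm)
  simp only [Finset.mem_insert, Finset.mem_singleton, not_or] at hy'
  have hws : (w : GL (Ix m) F) ∉ scalars (Ix m) F := fun hs => by
    rcases hpm _ w.2 hs with h | h
    · exact hy'.1 (Subtype.ext (Units.ext h))
    · exact hy'.2.2.1 (Subtype.ext (Units.ext (h.trans hxval.symm)))
  by_cases hw2 : (w : GL (Ix m) F) * w = 1
  · exact ⟨_, w.2, hws, hw2⟩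
  have hwval : ((w : GL (Ix m) F) * w).val = -1 := by
    rcases hpm _ (mul_mem w.2 w.2) (by rw [← pow_two]; exact hsq _ w.2) with h | h
    · exact absurd (Units.ext h) hw2
    · exact h
  refine ⟨x * w, mul_mem hx w.2, fun hs => ?_, ?_⟩
  · rcases hpm _ (mul_mem hx w.2) hs with h | h
    · refine hy'.2.2.2 (Subtype.ext ?_)
      show (w : GL (Ix m) F) = x * x * x
      calc (w : GL (Ix m) F) = x ^ 4 * w := by rw [hexp x hx, one_mul]
        _ = x * x * x * (x * w) := by simp only [pow_succ, pow_zero, one_mul, mul_assoc]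
        _ = x * x * x := by rw [show x * (w : GL (Ix m) F) = 1 from Units.ext h, mul_one]
    · refine hy'.2.1 (Subtype.ext ?_)
      show (w : GL (Ix m) F) = x
      refine mul_left_cancel (a := x) (Units.ext ?_)
      rw [hxval]; exact h
  · calc x * (w : GL (Ix m) F) * (x * w) = x * x * (w * w) := hcomm.mul_mul_mul_comm x w
      _ = 1 := Units.ext (by rw [Units.val_mul, hxval, hwval]; simp)

/-- The symplectic group does not normalise a group of symplectic type. -/
theorem not_sp_le_normalizer [Fintype F] (h2 : (2 : F) ≠ 0) (hm : 0 < m) {R : Subgroup (GL (Ix m) F)}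
    (hR : R ≤ Cfsg.spGL m F) (habs : ActsAbsolutelyIrreducibly (matrixSet R)) (hexp : ∀ x ∈ R, x ^ 4 = 1)
    {x : GL (Ix m) F} (hx : x ∈ R) (hxs : x ∉ scalars (Ix m) F) (hx2 : x * x = 1) :
    ¬ Cfsg.spGL m F ≤ subgroupNormalizer R := by
  intro h
  haveI : Nonempty (Ix m) := ⟨Sum.inl ⟨0, hm⟩⟩
  have hxinv : x⁻¹ = x := inv_eq_of_mul_eq_one_right hx2
  have hzero : ∀ u, Cfsg.sympForm m F u (x.val *ᵥ u) = 0 := fun u => by
    have h1 : Cfsg.sympForm m F u (x.val *ᵥ u) = Cfsg.sympForm m F (x.val *ᵥ u) u := by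
      conv_rhs => rw [← hxinv]
      rw [← mem_spGL.1 (hR hx) ((x⁻¹).val *ᵥ u) u, mulVec_inv_mulVec]
    rw [sp_skew (x.val *ᵥ u)] at h1
    exact (mul_eq_zero.1 (show (2 : F) * Cfsg.sympForm m F u (x.val *ᵥ u) = 0 by linear_combination h1)).resolve_left h2
  have heig : ∀ u, ∃ c : F, x.val *ᵥ u = c • u := by
    intro u
    by_cases hu : u = 0
    · exact ⟨0, by simp [hu]⟩
    set g := tvS u (1 : F)
    obtain ⟨A, hA⟩ : ∃ A : Matrix (Ix m) (Ix m) F, A = g.val - 1 := ⟨_, rfl⟩
    obtain ⟨B, hB⟩ : ∃ B : Matrix (Ix m) (Ix m) F, B = x.val * A * x.val := ⟨_, rfl⟩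
    have hAv : ∀ v, A *ᵥ v = Cfsg.sympForm m F v u • u := fun v => by
      rw [hA, Matrix.sub_mulVec, Matrix.one_mulVec, tvS_apply, one_mul, add_sub_cancel_left]
    have hBv : ∀ v, B *ᵥ v = Cfsg.sympForm m F v (x.val *ᵥ u) • (x.val *ᵥ u) := fun v => by
      rw [hB, ← Matrix.mulVec_mulVec, ← Matrix.mulVec_mulVec, hAv, Matrix.mulVec_smul]
      congr 1
      conv_lhs => rw [← mem_spGL.1 (hR hx), Matrix.mulVec_mulVec, ← Units.val_mul, hx2, Units.val_one, Matrix.one_mulVec]
    have hAA : A * A = 0 := Matrix.ext_of_mulVec_single fun i => by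
      rw [← Matrix.mulVec_mulVec, hAv, hAv, sp_bilinear.smul_left, sp_alt, mul_zero, zero_smul, Matrix.zero_mulVec]
    have hAB : A * B = 0 := Matrix.ext_of_mulVec_single fun i => by
      rw [← Matrix.mulVec_mulVec, hBv, hAv, sp_bilinear.smul_left, sp_refl (hzero u), mul_zero, zero_smul,
        Matrix.zero_mulVec]
    have hBA : B * A = 0 := Matrix.ext_of_mulVec_single fun i => by
      rw [← Matrix.mulVec_mulVec, hAv, hBv, sp_bilinear.smul_left, hzero u, mul_zero, zero_smul, Matrix.zero_mulVec]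
    have hBB : B * B = 0 := Matrix.ext_of_mulVec_single fun i => by
      rw [← Matrix.mulVec_mulVec, hBv, hBv, sp_bilinear.smul_left, sp_alt, mul_zero, zero_smul, Matrix.zero_mulVec]
    have hy : g * x * g⁻¹ * x ∈ R := mul_mem ((Subgroup.mem_normalizer_iff.1 (h (tvS_mem u 1)) x).1 hx) hx
    have hginv : (g⁻¹).val = 1 - A := by
      have h1 : g.val * (1 - A) = 1 := by
        rw [show g.val = 1 + A by rw [hA]; abel, Matrix.add_mul, Matrix.mul_sub, Matrix.one_mul, Matrix.mul_sub,
          Matrix.mul_one, hAA]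
        simp only [Matrix.one_mul]
        abel
      have h3 := congrArg ((g⁻¹).val * ·) h1
      simp only [← Matrix.mul_assoc, ← Units.val_mul, inv_mul_cancel, Units.val_one, Matrix.one_mul,
        Matrix.mul_one] at h3
      exact h3.symm
    have hN : (g * x * g⁻¹ * x).val = 1 + (A - B) := by
      rw [Units.val_mul, Units.val_mul, Units.val_mul, hginv]
      rw [show g.val = 1 + A by rw [hA]; abel]
      simp only [Matrix.add_mul, Matrix.mul_sub, Matrix.sub_mul, Matrix.one_mul, Matrix.mul_one]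
      have hxx : x.val * x.val = 1 := by rw [← Units.val_mul, hx2, Units.val_one]
      rw [← hB, Matrix.mul_assoc A x.val x.val, hxx, Matrix.mul_one,
        show A * x.val * A * x.val = A * B by rw [hB]; simp only [Matrix.mul_assoc], hAB]
      abel
    have h4 := congrArg Units.val (hexp _ hy)
    have hNN : (A - B) * (A - B) = 0 := by
      rw [Matrix.sub_mul, Matrix.mul_sub, Matrix.mul_sub, hAA, hAB, hBA, hBB]; abel
    rw [Units.val_pow_eq_pow_val, hN, Units.val_one] at h4
    have h5 : (1 + (A - B)) ^ 4 = 1 + (4 : F) • (A - B) := by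
      have hs : (1 + (A - B)) ^ 2 = 1 + (2 : F) • (A - B) := by
        rw [pow_two, Matrix.add_mul, Matrix.mul_add, Matrix.mul_add, hNN, Matrix.one_mul, Matrix.one_mul,
          Matrix.mul_one, two_smul]
        abel
      rw [show (4 : ℕ) = 2 * 2 from rfl, pow_mul, hs, pow_two, Matrix.add_mul, Matrix.mul_add, Matrix.mul_add]
      simp only [Matrix.one_mul, Matrix.mul_one, Matrix.smul_mul, Matrix.mul_smul, hNN, smul_zero, add_zero]
      module
    rw [h5] at h4
    have h6 : A = B := by
      have h7 : (4 : F) ≠ 0 := by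
        rw [show (4 : F) = 2 * 2 by norm_num]; exact mul_ne_zero h2 h2
      exact sub_eq_zero.1 ((smul_eq_zero_iff_right h7).1 (add_eq_left.1 h4))
    obtain ⟨z, hz⟩ := (sp_nondeg u hu).1
    have h8 := congrArg (· *ᵥ z) h6
    simp only [hAv, hBv] at h8
    have hd : Cfsg.sympForm m F z (x.val *ᵥ u) ≠ 0 := fun h0 => by
      rw [h0, zero_smul, smul_eq_zero] at h8
      exact h8.elim hz hu
    refine ⟨(Cfsg.sympForm m F z (x.val *ᵥ u))⁻¹ * Cfsg.sympForm m F z u, ?_⟩
    rw [mul_smul, h8, smul_smul, inv_mul_cancel₀ hd, one_smul]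
  obtain ⟨c, hc⟩ := exists_smul_one heig
  exact hxs (mem_scalars_of_smul hc)

/-- `Sp` is perfect in dimension at least six. -/
theorem spGL_perfect (hm : 3 ≤ m) : commutator (Cfsg.spGL m F) = ⊤ := by
  set e := Symp.glEquiv (Fin m ⊕ Fin m) F
  have h1 : commutator (Symp.iso (Symp.spB m F)) = ⊤ :=
    Symp.commutator_eq_top (Symp.spB_nondegenerate m F) (Symp.spB_isAlt m F) (Or.inl (by
      rw [Symp.finrank_space]; omega))
  have hmap : (Cfsg.spGL m F).map e.toMonoidHom = Symp.iso (Symp.spB m F) := by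
    rw [Symp.spGL_eq_comap, Subgroup.map_comap_eq_self_of_surjective e.surjective]
  let f : Cfsg.spGL m F ≃* Symp.iso (Symp.spB m F) :=
    (e.subgroupMap (Cfsg.spGL m F)).trans (MulEquiv.subgroupCongr hmap)
  have h3 : (⊤ : Subgroup (Cfsg.spGL m F)) = (⊤ : Subgroup (Symp.iso (Symp.spB m F))).map f.symm.toMonoidHom := by
    rw [Subgroup.map_top_of_surjective _ f.symm.surjective]
  rw [commutator_def, h3, ← Subgroup.map_commutator, ← commutator_def, h1]

/-- The symplectic group does not stabilise a tensor power with three factors. -/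
theorem not_sp_le_wreath [Finite F] {d : ℕ} (hd : 2 ≤ d) (hm : 3 ≤ m) {e : Ix m ≃ (Fin 3 → Fin d)} {P : GL (Ix m) F} :
    ¬ Cfsg.spGL m F ≤ tensorWreathSubgroup d 3 e P := by
  classical
  intro h
  haveI : Finite (Matrix (Fin d) (Fin d) F) := inferInstanceAs (Finite (Fin d → Fin d → F))
  let ι₁ : Fin 3 → Matrix (Fin d) (Fin d) F →ₗ[F] Matrix (Ix m) (Ix m) F := fun i =>
    { toFun := fun a => AschGen.powEmb e P i a
      map_add' := fun a b => by
        rw [powEmb_eq_tm, show AschGen.powStd i (a + b) = AschGen.powStd i a + AschGen.powStd i b from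
          (AschGen.powStdLin i).map_add a b, tm_add]
        rfl
      map_smul' := fun c a => by
        rw [powEmb_eq_tm, show AschGen.powStd i (c • a) = c • AschGen.powStd i a from
          (AschGen.powStdLin i).map_smul c a, tm_smul]
        rfl }
  let Y : Fin 3 → Submodule F (Matrix (Ix m) (Ix m) F) := fun i => LinearMap.range (ι₁ i)
  have hgen : ∀ g ∈ tensorWreathSubgroup d 3 e P, ∀ i, ∃ j, ∀ X ∈ Y i, g.val * X * (g⁻¹).val ∈ Y j := by
    rintro _ ⟨_, ⟨x, hx, rfl⟩, rfl⟩
    have key : ∀ i, ∃ j, ∀ a, ∃ b, x.val * AschGen.powStd i a * (x⁻¹).val = AschGen.powStd j b := by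
      induction hx using Subgroup.closure_induction with
      | mem y hy =>
        intro i
        rcases hy with ⟨gs, hgs⟩ | ⟨σ, hσ⟩
        · refine ⟨i, fun a => ⟨(gs i).val * a * ((gs i)⁻¹).val, ?_⟩⟩
          have hy1 : y.val = AschGen.pureTens fun j => (gs j).val := Matrix.ext hgs
          have hy2 : y.val * AschGen.pureTens (fun j => ((gs j)⁻¹).val) = 1 := by
            rw [hy1, AschGen.pureTens_mul]; simp [AschGen.pureTens_one]
          have hy3 : (y⁻¹).val = AschGen.pureTens fun j => ((gs j)⁻¹).val := by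
            have h4 := congrArg ((y⁻¹).val * ·) hy2
            simp only [← Matrix.mul_assoc, ← Units.val_mul, inv_mul_cancel, Units.val_one, Matrix.one_mul,
              Matrix.mul_one] at h4
            exact h4.symm
          rw [hy3, hy1, AschGen.powStd, AschGen.powStd, AschGen.pureTens_mul, AschGen.pureTens_mul]
          congr 1
          funext j
          rcases eq_or_ne j i with rfl | hj
          · simp
          · simp [hj]
        · refine ⟨σ i, fun a => ⟨a, ?_⟩⟩
          have hperm : ∀ X : Fin 3 → Matrix (Fin d) (Fin d) F,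
              y.val * AschGen.pureTens X = AschGen.pureTens (fun k => X (σ.symm k)) * y.val := fun X => by
            ext p q
            rw [Matrix.mul_apply, Matrix.mul_apply, Finset.sum_eq_single (p ∘ σ) (fun z _ hz => by simp [hσ, hz])
              (fun hn => absurd (Finset.mem_univ _) hn), Finset.sum_eq_single (q ∘ σ.symm) (fun z _ hz => by
                have : ¬ q = z ∘ σ := fun h => hz (by rw [h, Function.comp_assoc, Equiv.self_comp_symm, Function.comp_id])
                simp [hσ, this]) (fun hn => absurd (Finset.mem_univ _) hn)]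
            have hq : (q ∘ ⇑σ.symm) ∘ ⇑σ = q := by rw [Function.comp_assoc, Equiv.symm_comp_self, Function.comp_id]
            simp only [hσ, AschGen.pureTens, Matrix.of_apply, hq, if_true, one_mul, mul_one, Function.comp_apply]
            rw [← Equiv.prod_comp σ (fun k => X (σ.symm k) (p k) (q (σ.symm k)))]
            simp
          rw [AschGen.powStd, hperm, Matrix.mul_assoc, ← Units.val_mul, mul_inv_cancel, Units.val_one, Matrix.mul_one,
            AschGen.powStd]
          congr 1
          funext k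
          rcases eq_or_ne k (σ i) with rfl | hk
          · simp
          · have hk' : σ.symm k ≠ i := fun e => hk (by rw [← e, Equiv.apply_symm_apply])
            rw [Function.update_of_ne hk, Function.update_of_ne hk']
      | one => exact fun i => ⟨i, fun a => ⟨a, by simp⟩⟩
      | mul y z _ _ hy hz =>
        intro i
        obtain ⟨j, hj⟩ := hz i
        obtain ⟨l, hl⟩ := hy j
        refine ⟨l, fun a => ?_⟩
        obtain ⟨b, hb⟩ := hj a
        obtain ⟨c, hc⟩ := hl b
        refine ⟨c, ?_⟩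
        rw [← hc, ← hb, mul_inv_rev, Units.val_mul, Units.val_mul]
        simp only [Matrix.mul_assoc]
      | inv y _ hy =>
        intro i
        choose τ hτ using hy
        choose b hb using hτ
        have hτi : Function.Injective τ := fun a c hac => by
          by_contra hne
          have h5 : ∀ u, ∃ v, AschGen.powStd a u = AschGen.powStd c v := fun u => by
            let L : Matrix (Fin d) (Fin d) F → Matrix (Fin d) (Fin d) F := fun v => b c v
            have hL : Function.Injective L := fun v v' hv => by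
              have h6 : y.val * AschGen.powStd c v * (y⁻¹).val = y.val * AschGen.powStd c v' * (y⁻¹).val := by
                rw [hb, hb]; exact congrArg (AschGen.powStd (τ c)) hv
              exact AschGen.powEmb_injective (by omega) e P c (congrArg (tm e P) ((AschGen.conjA y).injective h6))
            obtain ⟨v, hv⟩ := Finite.injective_iff_surjective.1 hL (b a u)
            refine ⟨v, (AschGen.conjA y).injective ?_⟩
            show y.val * _ * _ = y.val * _ * _
            rw [hb, hb, hac]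
            exact congrArg (AschGen.powStd (τ c)) hv.symm
          obtain ⟨v, hv⟩ := h5 (Matrix.single ⟨0, by omega⟩ ⟨1, by omega⟩ 1)
          have h6 := congrFun (congrFun hv (Function.update (fun _ => (⟨0, by omega⟩ : Fin d)) a ⟨0, by omega⟩))
            (Function.update (fun _ => (⟨0, by omega⟩ : Fin d)) a ⟨1, by omega⟩)
          rw [AschGen.powStd_apply, AschGen.powStd_apply, if_pos (fun j hj => by simp [hj]), if_neg (fun h7 => by
            have h8 := h7 a hne
            simp [Fin.ext_iff] at h8)] at h6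
          simp at h6
        obtain ⟨j, rfl⟩ := (Finite.injective_iff_surjective.1 hτi) i
        refine ⟨j, fun a => ?_⟩
        have hLinj : Function.Injective (b j) := fun v v' hv => by
          have h6 : y.val * AschGen.powStd j v * (y⁻¹).val = y.val * AschGen.powStd j v' * (y⁻¹).val := by
            rw [hb, hb]; exact congrArg (AschGen.powStd (τ j)) hv
          exact AschGen.powEmb_injective (by omega) e P j (congrArg (tm e P) ((AschGen.conjA y).injective h6))
        obtain ⟨v, rfl⟩ := (Finite.injective_iff_surjective.1 hLinj) a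
        refine ⟨v, ?_⟩
        rw [← hb, inv_inv]
        simp only [← Matrix.mul_assoc, ← Units.val_mul, inv_mul_cancel, Units.val_one, Matrix.one_mul]
        simp only [Matrix.mul_assoc, ← Units.val_mul, inv_mul_cancel, Units.val_one, Matrix.mul_one]
    intro i
    obtain ⟨j, hj⟩ := key i
    refine ⟨j, ?_⟩
    rintro _ ⟨a, rfl⟩
    obtain ⟨b, hb⟩ := hj a
    refine ⟨b, ?_⟩
    show tm e P _ = (P * glReindex e.symm x * P⁻¹).val * tm e P _ * ((P * glReindex e.symm x * P⁻¹)⁻¹).val
    rw [show (P * glReindex e.symm x * P⁻¹)⁻¹ = P * glReindex e.symm x⁻¹ * P⁻¹ by rw [map_inv]; group,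
      tm_glReindex, tm_glReindex, ← tm_mul, ← tm_mul, hb]
  -- the action on the three algebras
  have hY : Function.Injective Y := fun a c hac => by
    by_contra hne
    have h5 : ι₁ a (Matrix.single ⟨0, by omega⟩ ⟨1, by omega⟩ 1) ∈ Y c := hac ▸ ⟨_, rfl⟩
    obtain ⟨v, hv⟩ := h5
    have h6 := congrFun (congrFun (tm_inj e P hv) (Function.update (fun _ => (⟨0, by omega⟩ : Fin d)) a ⟨0, by omega⟩))
      (Function.update (fun _ => (⟨0, by omega⟩ : Fin d)) a ⟨1, by omega⟩)
    rw [AschGen.powStd_apply, AschGen.powStd_apply, if_neg (fun h7 => by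
      have h8 := h7 a hne
      simp [Fin.ext_iff] at h8), if_pos (fun j hj => by simp [hj])] at h6
    simp at h6
  have hmap : ∀ g : Cfsg.spGL m F, ∀ i, ∃ j, ∀ X, X ∈ Y i ↔ g.1.val * X * ((g.1)⁻¹).val ∈ Y j := by
    intro g i
    obtain ⟨j, hj⟩ := hgen _ (h g.2) i
    obtain ⟨l, hl⟩ := hgen _ (h (inv_mem g.2)) j
    have hback : ∀ X, ((g.1)⁻¹).val * (g.1.val * X * ((g.1)⁻¹).val) * (((g.1)⁻¹)⁻¹).val = X := fun X => by
      simp only [inv_inv, ← Matrix.mul_assoc, ← Units.val_mul, inv_mul_cancel, Units.val_one, Matrix.one_mul]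
      simp only [Matrix.mul_assoc, ← Units.val_mul, inv_mul_cancel, Units.val_one, Matrix.mul_one]
    have hle : Y i ≤ Y l := fun X hX => by
      have := hl _ (hj X hX)
      rwa [hback] at this
    have hil : i = l := by
      have hrank : ∀ k, Module.finrank F (Y k) = Module.finrank F (Matrix (Fin d) (Fin d) F) := fun k =>
        LinearMap.finrank_range_of_inj (AschGen.powEmb_injective (by omega) e P k)
      exact hY (Submodule.eq_of_le_of_finrank_eq hle (by rw [hrank, hrank]))
    refine ⟨j, fun X => ⟨hj X, fun hX => ?_⟩⟩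
    have := hl _ hX
    rwa [hback, ← hil] at this
  choose π hπ using hmap
  have hπu : ∀ (g : Cfsg.spGL m F) i j, (∀ X ∈ Y i, g.1.val * X * ((g.1)⁻¹).val ∈ Y j) → π g i = j := by
    intro g i j hj
    refine hY (Submodule.eq_of_le_of_finrank_eq (fun Z hZ => ?_) ?_)
    · have hZ' : Z = g.1.val * (((g.1)⁻¹).val * Z * g.1.val) * ((g.1)⁻¹).val := by
        simp only [← Matrix.mul_assoc, ← Units.val_mul, mul_inv_cancel, Units.val_one, Matrix.one_mul]
        simp only [Matrix.mul_assoc, ← Units.val_mul, mul_inv_cancel, Units.val_one, Matrix.mul_one]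
      rw [hZ']
      exact hj _ ((hπ g i _).2 (hZ' ▸ hZ))
    · rw [LinearMap.finrank_range_of_inj (AschGen.powEmb_injective (by omega) e P _),
        LinearMap.finrank_range_of_inj (AschGen.powEmb_injective (by omega) e P _)]
  have hmul : ∀ g g' i, π (g * g') i = π g (π g' i) := fun g g' i => hπu _ _ _ fun X hX => by
    have := (hπ g _ _).1 ((hπ g' i X).1 hX)
    simpa [Units.val_mul, Matrix.mul_assoc] using this
  have hone : ∀ i, π 1 i = i := fun i => hπu _ _ _ fun X hX => by simpa using hX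
  let act : Cfsg.spGL m F →* Equiv.Perm (Fin 3) :=
    { toFun := fun g => ⟨π g, π g⁻¹, fun i => by rw [← hmul, inv_mul_cancel, hone],
        fun i => by rw [← hmul, mul_inv_cancel, hone]⟩
      map_one' := Equiv.ext hone
      map_mul' := fun g g' => Equiv.ext (hmul g g') }
  have htriv : act.range = ⊥ := by
    refine perfect_trivial (by simp [Nat.card_eq_fintype_card, Fintype.card_perm, Nat.factorial]) act.range ?_
    rw [MonoidHom.range_eq_map, ← Subgroup.map_commutator, ← commutator_def, spGL_perfect hm]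
  have hfix : ∀ (g : Cfsg.spGL m F) i, π g i = i := fun g i => by
    have h6 : act g = 1 := Subgroup.mem_bot.1 (htriv ▸ ⟨g, rfl⟩)
    exact DFunLike.congr_fun h6 i
  have h1 := scalar_of_normalised (by omega : 0 < m) (Y 0) (fun u X hX => by
      have := (hπ ⟨tvS u 1, tvS_mem u 1⟩ 0 X).1 hX
      rwa [hfix] at this) (by
      rintro _ ⟨a, rfl⟩ φ ψ hv
      suffices ha : a = 0 by rw [ha, map_zero]
      refine Matrix.ext fun i j => ?_
      let emb : (Fin d × Fin d → F) →ₗ[F] (Ix m → F) :=
        { toFun := fun w => P.val *ᵥ ((fun x : Fin 3 → Fin d => if x 0 = j then w (x 1, x 2) else 0) ∘ e)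
          map_add' := fun a b => by
            rw [← Matrix.mulVec_add]; congr 1; funext l; simp only [Function.comp_apply, Pi.add_apply]; split_ifs <;> simp
          map_smul' := fun c a => by
            rw [RingHom.id_apply, ← Matrix.mulVec_smul]; congr 1; funext l
            simp only [Function.comp_apply, Pi.smul_apply, smul_eq_mul]; split_ifs <;> simp }
      obtain ⟨w, hw0, hφ, hψ⟩ := exists_common_zero (V := Fin d × Fin d → F) (by
        rw [Module.finrank_fintype_fun_eq_card, Fintype.card_prod, Fintype.card_fin]; nlinarith)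
        (φ.comp emb) (ψ.comp emb)
      have h3 := hv _ hφ hψ
      change tm e P _ *ᵥ (P.val *ᵥ _) = 0 at h3
      rw [tm_act] at h3
      have h4 := congrArg ((P⁻¹).val *ᵥ ·) h3
      simp only [inv_mulVec_mulVec, Matrix.mulVec_zero] at h4
      obtain ⟨⟨c1, c2⟩, hc⟩ := Function.ne_iff.1 hw0
      have h5 := congrFun h4 (e.symm ![i, c1, c2])
      simp only [Function.comp_apply, Equiv.apply_symm_apply, Matrix.mulVec, dotProduct, Pi.zero_apply] at h5
      rw [Finset.sum_eq_single ![j, c1, c2] (fun z _ hz => ?_) (fun hn => absurd (Finset.mem_univ _) hn)] at h5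
      · rw [AschGen.powStd_apply, if_pos (fun l hl => by fin_cases l <;> simp at hl ⊢)] at h5
        simp at h5
        exact h5.resolve_right hc
      · rw [AschGen.powStd_apply]
        by_cases hz0 : z 0 = j
        · rw [if_neg, zero_mul]
          intro hall
          refine hz ?_
          funext l
          fin_cases l
          · simpa using hz0
          · simpa using (hall 1 (by decide)).symm
          · simpa using (hall 2 (by decide)).symm
        · rw [if_neg hz0, mul_zero])
  obtain ⟨c, hc⟩ := h1 (ι₁ 0 (Matrix.single ⟨0, by omega⟩ ⟨1, by omega⟩ 1)) ⟨_, rfl⟩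
  have h2 : AschGen.powStd (0 : Fin 3) (Matrix.single (⟨0, by omega⟩ : Fin d) (⟨1, by omega⟩ : Fin d) (1 : F)) = c • 1 :=
    tm_inj e P (by rw [tm_smul, tm_one]; exact hc)
  have h3 := congrFun (congrFun h2 (Function.update (fun _ => (⟨0, by omega⟩ : Fin d)) 0 ⟨0, by omega⟩))
    (Function.update (fun _ => (⟨0, by omega⟩ : Fin d)) 0 ⟨1, by omega⟩)
  rw [AschGen.powStd_apply, if_pos (fun j hj => by simp [hj]), Matrix.smul_apply, Matrix.one_apply_ne (fun h4 => by
    have := congrFun h4 0
    simp [Fin.ext_iff] at this)] at h3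
  simp at h3

end Cfsg.Lib.Linear.AschSp
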