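import Cfsg.Agent.Lib.Linear.AschSp.Small
import Cfsg.Agent.Lib.Linear.AschSp.NotSp
import Cfsg.Agent.Lib.Linear.SympInvolution
import Cfsg.Agent.Lib.Linear.SymplecticGroup

/-!
# Maximal subgroups of the symplectic groups
-/

set_option autoImplicit false
set_option linter.unusedSectionVars false
set_option linter.style.haveILetI false

namespace Cfsg.Lib.Linear.AschSp

open Cfsg.Geo Cfsg.Lib.Linear Cfsg.Lib.Linear.Asch
open scoped Matrix MatrixGroups

variable {m : ℕ} {F : Type*} [Field F] {H : Subgroup (GL (Ix m) F)}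

/-- The shape of a maximal subgroup of a symplectic group. -/
inductive MaxCases [Fintype F] (H : Subgroup (GL (Ix m) F)) : Prop
  | totSing (W : Submodule F (Ix m → F)) (h0 : W ≠ ⊥)
      (hts : IsTotallySingularFor (Cfsg.sympForm m F) W) (heq : H = subspaceStabilizer W ⊓ Cfsg.spGL m F)
  | small (W : Submodule F (Ix m → F)) (h0 : W ≠ ⊥) (hnd : IsNondegenerateOn (Cfsg.sympForm m F) W)
      (hlt : Module.finrank F W < m) (he : Even (Module.finrank F W))
      (heq : H = subspaceStabilizer W ⊓ Cfsg.spGL m F)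
  | orth (t k : ℕ) (D : Fin t → Submodule F (Ix m → F))
      (hD : IsNondegenerateMDecomposition (Cfsg.sympForm m F) k D) (hc : t * k = 2 * m) (he : Even k)
      (hq : k = 2 → 3 ≤ Fintype.card F) (heq : H = decompositionStabilizer D ⊓ Cfsg.spGL m F)
  | pair (D : Fin 2 → Submodule F (Ix m → F)) (hodd : Odd (Fintype.card F)) (hD : IsMDecomposition m D)
      (hts : ∀ i, IsTotallySingularFor (Cfsg.sympForm m F) (D i)) (hq : m = 2 → 5 ≤ Fintype.card F)
      (heq : H = decompositionStabilizer D ⊓ Cfsg.spGL m F)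
  | selfField (r : ℕ) (K : Subalgebra F (Matrix (Ix m) (Ix m) F)) (hr : r.Prime) (hK : IsFieldSubalgebra r K)
      (hsa : IsSelfAdjointFor (Cfsg.sympForm m F) K) (halt : ∀ k ∈ K, ∀ v, Cfsg.sympForm m F (k *ᵥ v) v = 0)
      (hdvd : r ∣ m) (heq : H = subalgebraNormalizer K ⊓ Cfsg.spGL m F)
  | hermField (K : Subalgebra F (Matrix (Ix m) (Ix m) F)) (hodd : Odd (Fintype.card F))
      (hK : IsFieldSubalgebra 2 K) (hadj : IsAdjointClosedFor (Cfsg.sympForm m F) K)
      (hne : ¬ IsSelfAdjointFor (Cfsg.sympForm m F) K) (heq : H = subalgebraNormalizer K ⊓ Cfsg.spGL m F)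
  | tensor (hodd : Odd (Fintype.card F)) (n₁ n₂ : ℕ) (e : Ix m ≃ Fin n₁ × Fin n₂) (P : GL (Ix m) F)
      (f₁ : (Fin n₁ → F) → (Fin n₁ → F) → F) (f₂ : (Fin n₂ → F) → (Fin n₂ → F) → F) (h₁ : 2 ≤ n₁)
      (he : Even n₁) (h₂ : 3 ≤ n₂) (hc : n₁ * n₂ = 2 * m) (hq : n₂ = 3 → 5 ≤ Fintype.card F)
      (hf₁ : IsSymplecticForm f₁) (hf₂ : IsSymmetricForm f₂)
      (hst : IsTensorFormStructure id (Cfsg.sympForm m F) f₁ f₂ e P)
      (heq : H = tensorProductSubgroup n₁ n₂ e P ⊓ Cfsg.spGL m F)
  | power (h : PowMember H)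
  | subfld (F₁ : Subfield F) (r : ℕ) (P : GL (Ix m) F) (ζ : F) (hr : r.Prime)
      (hcard : Fintype.card F = Nat.card F₁ ^ r) (hζ : ζ ≠ 0)
      (hP : IsFormRationalStructure (Cfsg.sympForm m F) F₁ ζ P) (heq : H = subfieldSubgroup F₁ P ⊓ Cfsg.spGL m F)
  | six (R : Subgroup (GL (Ix m) F)) (p k : ℕ) (hR : IsSymplecticTypeGroup 2 R)
      (habs : ActsAbsolutelyIrreducibly (matrixSet R)) (hsim : R ≤ similarityGroup (Cfsg.sympForm m F))
      (hp : p.Prime) (hodd : Odd p) (hcard : Fintype.card F = p) (hcR : Nat.card R = 2 ^ (1 + 2 * k))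
      (hZ : Nat.card (Subgroup.center R) = 2) (hminus : IsOfMinusType k R) (hdim : 2 * m = 2 ^ k)
      (heq : H = subgroupNormalizer R ⊓ Cfsg.spGL m F)
  | quad (heven : ¬ Odd (Fintype.card F)) (Q : (Ix m → F) → F) (hQ : IsNondegenerateQuadraticForm Q)
      (hpol : ∀ u v, QuadraticMap.polar Q u v = Cfsg.sympForm m F u v)
      (heq : H = quadSimilarityGroup Q ⊓ Cfsg.spGL m F)
  | residual (h : InSymplecticResidualClass H)

theorem even_of_nondeg {W : Submodule F (Ix m → F)} (hnd : IsNondegenerateOn (Cfsg.sympForm m F) W) :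
    Even (Module.finrank F W) :=
  SympInv.even_finrank (Symp.spB m F) _ W le_rfl (fun w _ => Symp.spB_isAlt m F w) fun x hx hx0 => by
    obtain ⟨y, hy, hxy⟩ := (hnd x hx hx0).2
    exact ⟨y, hy, by rwa [Symp.spB_apply]⟩

theorem five_le_card [Fintype F] (hodd : Odd (Fintype.card F)) (h3 : Fintype.card F ≠ 3) :
    5 ≤ Fintype.card F := by
  have h1 : 1 < Fintype.card F := Fintype.one_lt_card
  obtain ⟨a, ha⟩ := hodd
  omega

theorem max_cases [Fintype F] (hm : 2 ≤ m) (hH : IsMaximalIn (Cfsg.spGL m F) H) : MaxCases H := by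
  have hle : H ≤ Cfsg.spGL m F := hH.1.le
  have key : ∀ {M : Subgroup (GL (Ix m) F)}, H ≤ M → ¬ Cfsg.spGL m F ≤ M → H = M ⊓ Cfsg.spGL m F :=
    fun h1 h2 => eq_inf_of_maximal hH h1 h2
  have orth : ∀ (t k : ℕ) (D : Fin t → Submodule F (Ix m → F)),
      IsNondegenerateMDecomposition (Cfsg.sympForm m F) k D → t * k = 2 * m →
      H ≤ decompositionStabilizer D → MaxCases H := by
    intro t k D hD hc hDle
    have he : Even k := hD.decomp.finrank_eq ⟨0, lt_of_lt_of_le (by norm_num) hD.decomp.two_le⟩ ▸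
      even_of_nondeg (hD.nondegenerate _)
    have hk : 2 ≤ k := by
      have := hD.decomp.pos
      obtain ⟨a, ha⟩ := he
      omega
    by_cases hq : k = 2 → 3 ≤ Fintype.card F
    · exact .orth t k D hD hc he hq (key hDle (not_sp_le_decomp hD.decomp hk))
    · push Not at hq
      obtain ⟨rfl, hq⟩ := hq
      have hq2 : Fintype.card F = 2 := by
        have : 1 < Fintype.card F := Fintype.one_lt_card
        omega
      obtain ⟨heven, Q, hQ, hpol, hQle⟩ := two_planes_quad hq2 hle hD hDle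
      exact .quad heven Q hQ hpol (key hQle (not_sp_le_quad hm heven hQ hpol))
  have sing : ∀ W : Submodule F (Ix m → F), W ≠ ⊥ → IsTotallySingularFor (Cfsg.sympForm m F) W →
      H ≤ subspaceStabilizer W → MaxCases H := by
    intro W h0 hts hW
    refine .totSing W h0 hts (key hW (not_sp_le_subspace h0 fun htop => ?_))
    obtain ⟨v, hv, hv0⟩ := Submodule.exists_mem_ne_zero_of_ne_bot h0
    obtain ⟨y, hy⟩ := (sp_nondeg v hv0).1
    exact hy (hts y (htop ▸ Submodule.mem_top) v hv)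
  have small : ∀ W : Submodule F (Ix m → F), W ≠ ⊥ → IsNondegenerateOn (Cfsg.sympForm m F) W →
      Module.finrank F W < m → H ≤ subspaceStabilizer W → MaxCases H := by
    intro W h0 hnd hlt hW
    refine .small W h0 hnd hlt (even_of_nondeg hnd) (key hW (not_sp_le_subspace h0 fun htop => ?_))
    rw [htop, finrank_top, Symp.finrank_space] at hlt
    omega
  cases sp_cases (by omega : 0 < m) hle with
  | totSing W h0 hts hW => exact sing W h0 hts hW
  | small W h0 hnd hlt hW => exact small W h0 hnd hlt hW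
  | orth t k D hD hc hDle => exact orth t k D hD hc hDle
  | pair D hodd hD hts hDle =>
    by_cases hq : m = 2 → 5 ≤ Fintype.card F
    · exact .pair D hodd hD hts hq (key hDle (not_sp_le_decomp hD hm))
    · push Not at hq
      obtain ⟨rfl, hq⟩ := hq
      have hq3 : Fintype.card F = 3 := by
        by_contra h3
        have := five_le_card hodd h3
        omega
      by_cases hirr : ActsIrreducibly (matrixSet H)
      · obtain ⟨D', hD', hle'⟩ := pair_three hq3 hle hirr hD hts hDle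
        exact orth 2 2 D' hD' rfl hle'
      · rcases reducible_cases hle hirr with ⟨W, h0, h1, h2⟩ | ⟨W, h0, h1, h2, h3⟩ | ⟨D', h1, h2⟩
        · exact sing W h0 h1 h2
        · exact small W h0 h1 h2 h3
        · exact orth 2 2 D' h1 rfl h2
  | selfField r K hr hK hsa halt hdvd hKle =>
    exact .selfField r K hr hK hsa halt hdvd (key hKle (not_sp_le_field hm hr.two_le hK))
  | hermField K hodd hK hadj hne hKle =>
    exact .hermField K hodd hK hadj hne (key hKle (not_sp_le_field hm le_rfl hK))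
  | tensor hodd h =>
    obtain ⟨n₁, n₂, e, P, f₁, f₂, h₁, he, h₂, hf₁, hf₂, hst, hTle⟩ := h
    have hc : n₁ * n₂ = 2 * m := by
      have := Fintype.card_congr e
      rw [card_ix, Fintype.card_prod, Fintype.card_fin, Fintype.card_fin] at this
      exact this.symm
    by_cases hq : n₂ = 3 → 5 ≤ Fintype.card F
    · exact .tensor hodd n₁ n₂ e P f₁ f₂ h₁ he h₂ hc hq hf₁ hf₂ hst (key hTle (not_sp_le_tensor h₁ h₂))
    · push Not at hq
      obtain ⟨rfl, hq⟩ := hq
      have hq3 : Fintype.card F = 3 := by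
        by_contra h3
        have := five_le_card hodd h3
        omega
      obtain ⟨D, hD, hDle⟩ := tensor_three hq3 hle (by omega) hf₁ hf₂ hst hTle
      exact orth 3 n₁ D hD (by omega) hDle
  | power h => exact .power h
  | subfld F₁ r P ζ hne hr hcard hζ hP hPle =>
    exact .subfld F₁ r P ζ hr hcard hζ hP (key hPle (not_sp_le_subfield (by omega) hne))
  | six h =>
    obtain ⟨R, p, k, hR, habs, hsim, ⟨hRsp, hexp, hsq, hcs⟩, hp, hodd, hcard, hcR, hZ, hminus, hdim, hRle⟩ := h
    have h2 : (2 : F) ≠ 0 := fun h0 => not_odd_of_two_zero h0 (hcard ▸ hodd)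
    have hk : 2 ≤ k := by
      by_contra hk
      interval_cases k <;> omega
    have h8 : 8 < Nat.card R := by
      rw [hcR]
      have h32 : 2 ^ (1 + 2 * 2) ≤ 2 ^ (1 + 2 * k) := Nat.pow_le_pow_right (by norm_num) (by omega)
      omega
    haveI : Finite R := Nat.finite_of_card_ne_zero (by omega)
    obtain ⟨x, hx, hxs, hx2⟩ := exists_involution (by omega) hRsp habs h8 hexp hsq hcs
    exact .six R p k hR habs hsim hp hodd hcard hcR hZ hminus hdim
      (key hRle (not_sp_le_normalizer h2 (by omega) hRsp habs hexp hx hxs hx2))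
  | quad heven Q hQ hpol hQle => exact .quad heven Q hQ hpol (key hQle (not_sp_le_quad hm heven hQ hpol))
  | residual h => exact .residual h

theorem MaxCases.power_elim [Fintype F] {Pr : Prop} (h : PowMember H) (hne : ∀ k t : ℕ, 3 ≤ t → 2 ≤ k → k ^ t ≠ 2 * m) :
    Pr := by
  obtain ⟨k, t, e, -, -, -, -, ht, hk, -⟩ := h
  have := Fintype.card_congr e
  rw [card_ix, Fintype.card_fun, Fintype.card_fin, Fintype.card_fin] at this
  exact absurd this.symm (hne k t ht hk)

theorem pow_ne_of_lt {a : ℕ} (ha : a < 27) (h8 : a ≠ 8) (h16 : a ≠ 16) (k t : ℕ) (ht : 3 ≤ t) (hk : 2 ≤ k) :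
    k ^ t ≠ a := by
  intro h
  have h3 : k ^ 3 ≤ a := h ▸ Nat.pow_le_pow_right (by omega) ht
  have hk3 : k < 3 := by
    by_contra hk'
    have : 3 ^ 3 ≤ k ^ 3 := Nat.pow_le_pow_left (by omega) 3
    omega
  obtain rfl : k = 2 := by omega
  have : 2 ^ t < 2 ^ 5 := by omega
  have ht5 : t < 5 := (Nat.pow_lt_pow_iff_right (by norm_num)).1 this
  interval_cases t <;> omega

theorem two_pow_ne {a : ℕ} (ha : a < 16) (h4 : a ≠ 4) (h8 : a ≠ 8) (h2 : a ≠ 2) (h1 : a ≠ 1) (k : ℕ) :
    2 ^ k ≠ a := by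
  intro h
  have hk : k < 4 := (Nat.pow_lt_pow_iff_right (a := 2) (by norm_num)).1 (by omega)
  interval_cases k <;> omega

/-- Factorisations of a small number. -/
theorem factor_mem {a b N : ℕ} (h : a * b = N) (hN : 0 < N) : a ∈ N.divisors ∧ b = N / a := by
  have ha : 0 < a := Nat.pos_of_ne_zero fun h0 => by simp [h0] at h; omega
  exact ⟨Nat.mem_divisors.2 ⟨⟨b, h.symm⟩, by omega⟩, by rw [← h, Nat.mul_div_cancel_left _ ha]⟩

end Cfsg.Lib.Linear.AschSp
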