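import Cfsg.Agent.Lib.Linear.AschSp.Max

/-!
# A symmetric factor of plus type in dimension four

Such a factor is a product of two alternating planes, so the tensor decomposition refines to a
decomposition into three factors.
-/

set_option autoImplicit false
set_option linter.unusedSectionVars false
set_option linter.style.haveILetI false

namespace Cfsg.Lib.Linear.AschSp

open Cfsg.Geo Cfsg.Lib.Linear Cfsg.Lib.Linear.Asch Cfsg.Lib.Linear.AschGen
open scoped Matrix MatrixGroups Kronecker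

variable {m : ℕ} {F : Type*} [Field F] {H : Subgroup (GL (Ix m) F)}

/-- The alternating form of the plane. -/
def altTwo : Matrix (Fin 2) (Fin 2) F := !![0, 1; -1, 0]

def brk (p q : Fin 2 → F) : F := p 0 * q 1 - p 1 * q 0

theorem brk_self (p : Fin 2 → F) : brk p p = 0 := by simp only [brk]; ring

theorem brk_smul_left (c : F) (p q : Fin 2 → F) : brk (c • p) q = c * brk p q := by
  simp only [brk, Pi.smul_apply, smul_eq_mul]; ring

theorem brk_smul_right (c : F) (p q : Fin 2 → F) : brk p (c • q) = c * brk p q := by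
  simp only [brk, Pi.smul_apply, smul_eq_mul]; ring

theorem brk_skew (p q : Fin 2 → F) : brk p q = - brk q p := by simp only [brk]; ring

theorem exists_smul_of_brk {p q : Fin 2 → F} (hp : p ≠ 0) (h : brk p q = 0) : ∃ c : F, q = c • p := by
  simp only [brk] at h
  by_cases h0 : p 0 = 0
  · have h1 : p 1 ≠ 0 := fun h1 => hp (funext fun i => by fin_cases i <;> simpa)
    have hq : q 0 = 0 := by
      rw [h0, zero_mul, zero_sub, neg_eq_zero] at h
      exact (mul_eq_zero.1 h).resolve_left h1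
    refine ⟨q 1 / p 1, funext fun i => ?_⟩
    fin_cases i
    · simp [hq, h0]
    · simp [h1]
  · refine ⟨q 0 / p 0, funext fun i => ?_⟩
    fin_cases i
    · simp [h0]
    · simp only [Fin.mk_one, Fin.isValue, Pi.smul_apply, smul_eq_mul]
      field_simp
      linear_combination h

theorem altTwo_gram {f : (Fin 2 → F) → (Fin 2 → F) → F} (hf : IsSymplecticForm f) :
    ∃ a : F, a ≠ 0 ∧ gramMatrix f = a • altTwo := by
  have h : gramMatrix f = gramMatrix f 0 1 • altTwo := by
    refine Matrix.ext fun i j => ?_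
    fin_cases i <;> fin_cases j <;> simp [altTwo, gramMatrix, hf.alternating]
    exact hf.skew _ _
  refine ⟨gramMatrix f 0 1, fun h0 => ?_, h⟩
  obtain ⟨⟨x, hx⟩, -⟩ := hf.nondegenerate (Pi.single 0 1) (by simp)
  apply hx
  have h1 : x = x 0 • Pi.single 0 1 + x 1 • Pi.single 1 1 := funext fun i => by fin_cases i <;> simp
  rw [h1, hf.bilinear.add_left, hf.bilinear.smul_left, hf.bilinear.smul_left, hf.alternating, mul_zero, zero_add,
    hf.skew, show f (Pi.single 0 1) (Pi.single 1 1) = 0 from h0, neg_zero, mul_zero]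

theorem altTwo_conj (A : Matrix (Fin 2) (Fin 2) F) : Aᵀ * altTwo * A = A.det • altTwo := by
  refine Matrix.ext fun i j => ?_
  fin_cases i <;> fin_cases j <;>
    simp [altTwo, Matrix.mul_apply, Fin.sum_univ_two, Matrix.det_fin_two] <;> ring

/-- A pure vector. -/
def pv (p q : Fin 2 → F) : Fin 2 × Fin 2 → F := fun ij => p ij.1 * q ij.2

theorem pv_smul_left (c : F) (p q : Fin 2 → F) : pv (c • p) q = c • pv p q := by
  funext ij; simp only [pv, Pi.smul_apply, smul_eq_mul]; ring

theorem pv_smul_right (c : F) (p q : Fin 2 → F) : pv p (c • q) = c • pv p q := by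
  funext ij; simp only [pv, Pi.smul_apply, smul_eq_mul]; ring

theorem pv_form (p q p' q' : Fin 2 → F) :
    pv p q ⬝ᵥ (altTwo ⊗ₖ altTwo : Matrix _ _ F) *ᵥ pv p' q' = brk p p' * brk q q' := by
  simp [pv, brk, altTwo, Matrix.mulVec, dotProduct, Fintype.sum_prod_type, Fin.sum_univ_two]
  ring

theorem pure_of_singular (h2 : (2 : F) ≠ 0) {x : Fin 2 × Fin 2 → F}
    (h : x ⬝ᵥ (altTwo ⊗ₖ altTwo : Matrix _ _ F) *ᵥ x = 0) : ∃ p q, x = pv p q := by
  have hd : x (0, 0) * x (1, 1) = x (0, 1) * x (1, 0) := by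
    refine sub_eq_zero.1 ((mul_eq_zero.1 (show (2 : F) * (x (0, 0) * x (1, 1) - x (0, 1) * x (1, 0)) = 0 from ?_)).resolve_left h2)
    rw [← h]
    simp [altTwo, Matrix.mulVec, dotProduct, Fintype.sum_prod_type, Fin.sum_univ_two]
    ring
  by_cases h0 : x (0, 0) = 0
  · rw [h0, zero_mul] at hd
    rcases mul_eq_zero.1 hd.symm with h1 | h1
    · refine ⟨Pi.single 1 1, fun j => x (1, j), funext fun ij => ?_⟩
      obtain ⟨i, j⟩ := ij
      fin_cases i <;> fin_cases j <;> simp [pv, h0, h1]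
    · refine ⟨fun i => x (i, 1), Pi.single 1 1, funext fun ij => ?_⟩
      obtain ⟨i, j⟩ := ij
      fin_cases i <;> fin_cases j <;> simp [pv, h0, h1]
  · refine ⟨![1, x (1, 0) / x (0, 0)], fun j => x (0, j), funext fun ij => ?_⟩
    obtain ⟨i, j⟩ := ij
    fin_cases i <;> fin_cases j <;> simp [pv, h0]
    field_simp
    linear_combination hd

theorem submatrix_pv (p q : Fin 2 → F) (i : Fin 2 × Fin 2) : pv p q i.swap = pv q p i := mul_comm _ _

theorem altTwo_kron_swap :
    (altTwo ⊗ₖ altTwo : Matrix _ _ F).submatrix Prod.swap Prod.swap = altTwo ⊗ₖ altTwo :=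
  Matrix.ext fun i j => mul_comm _ _

/-- The similitudes of the product of two alternating planes. -/
theorem similitude_split (h2 : (2 : F) ≠ 0) {B : Matrix (Fin 2 × Fin 2) (Fin 2 × Fin 2) F} {s : F} (hs : s ≠ 0)
    (hB : Bᵀ * (altTwo ⊗ₖ altTwo) * B = s • (altTwo ⊗ₖ altTwo)) :
    ∃ C D : Matrix (Fin 2) (Fin 2) F, IsUnit C.det ∧ IsUnit D.det ∧
      (B = C ⊗ₖ D ∨ B = (C ⊗ₖ D).submatrix id Prod.swap) := by
  set G : Matrix (Fin 2 × Fin 2) (Fin 2 × Fin 2) F := altTwo ⊗ₖ altTwo with hG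
  have hrel : ∀ i j, B.col i ⬝ᵥ G *ᵥ B.col j = s * G i j := fun i j => by
    have h1 := congrFun (congrFun hB i) j
    rw [Matrix.smul_apply, smul_eq_mul] at h1
    rw [← h1, Matrix.mul_assoc, Matrix.mul_apply]
    simp only [dotProduct, Matrix.transpose_apply, Matrix.col_apply]
    refine Finset.sum_congr rfl fun k _ => ?_
    rw [Matrix.mul_apply]
    rfl
  have hdiag : ∀ i, G i i = 0 := fun i => by
    obtain ⟨a, b⟩ := i
    fin_cases a <;> fin_cases b <;> simp [hG, altTwo]
  have hpure : ∀ i, ∃ p q, B.col i = pv p q := fun i =>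
    pure_of_singular h2 (by rw [hrel, hdiag, mul_zero])
  choose p q hpq using hpure
  have core : ∀ (p q : Fin 2 × Fin 2 → Fin 2 → F),
      (∀ i j, brk (p i) (p j) * brk (q i) (q j) = s * G i j) → brk (q (0, 0)) (q (0, 1)) ≠ 0 →
      ∃ C D : Matrix (Fin 2) (Fin 2) F, IsUnit C.det ∧ IsUnit D.det ∧
        ∀ i j, pv (p j) (q j) i = (C ⊗ₖ D) i j := by
    intro p q hR hq
    have e1 := hR (0, 0) (1, 1)
    have e2 := hR (0, 1) (1, 1)
    have e3 := hR (1, 0) (0, 0)
    have e4 := hR (1, 0) (0, 1)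
    have e5 := hR (1, 0) (1, 1)
    have e6 := hR (0, 0) (0, 1)
    have e7 := hR (0, 1) (1, 0)
    simp [hG, altTwo] at e1 e2 e3 e4 e5 e6 e7
    have hp0 : p (0, 0) ≠ 0 := fun h => hs (by rw [← e1, h]; simp [brk])
    obtain ⟨l, hl⟩ := exists_smul_of_brk hp0 (e6.resolve_right hq)
    have hl0 : l ≠ 0 := fun h => by
      rw [hl, h, zero_smul] at e7
      simp [brk] at e7
      exact hs e7
    set P := p (0, 0) with hP
    set Q := q (0, 0) with hQ
    set Q' := l • q (0, 1) with hQ'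
    have hQQ : brk Q Q' ≠ 0 := by rw [hQ', brk_smul_right]; exact mul_ne_zero hl0 hq
    have hPp : brk P (p (1, 1)) ≠ 0 := fun h => hs (by rw [← e1, h, zero_mul])
    have hQ'0 : Q' ≠ 0 := fun h => hQQ (by rw [h]; simp [brk])
    have e2' : brk P (p (1, 1)) * brk Q' (q (1, 1)) = 0 := by
      rw [hl, brk_smul_left] at e2
      rw [hQ', brk_smul_left]
      rcases e2 with h | h
      · rw [(mul_eq_zero.1 h).resolve_left hl0, zero_mul]
      · rw [h, mul_zero, mul_zero]
    obtain ⟨μ, hμ⟩ := exists_smul_of_brk hQ'0 ((mul_eq_zero.1 e2').resolve_left hPp)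
    set P' := μ • p (1, 1) with hP'
    have hPP : brk P P' * brk Q Q' = s := by
      rw [← e1, hμ]
      simp only [hP', hQ', brk_smul_right]
      ring
    have e4' : brk (p (1, 0)) P * brk (q (1, 0)) Q' = -s := by
      rw [hl, brk_smul_right] at e4
      rw [hQ', brk_smul_right]
      linear_combination e4
    have hrP : brk (p (1, 0)) P ≠ 0 := fun h => hs (neg_eq_zero.1 (by rw [← e4', h, zero_mul]))
    have htQ' : brk (q (1, 0)) Q' ≠ 0 := fun h => hs (neg_eq_zero.1 (by rw [← e4', h, mul_zero]))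
    have htQ : brk (q (1, 0)) Q = 0 := e3.resolve_left hrP
    have hrP' : brk (p (1, 0)) P' = 0 := by
      rw [hμ, brk_smul_right] at e5
      rw [hP', brk_smul_right]
      rcases e5 with h | h
      · rw [h, mul_zero]
      · rcases mul_eq_zero.1 h with h | h
        · rw [h, zero_mul]
        · exact absurd h htQ'
    have hP'0 : P' ≠ 0 := fun h => hs (by rw [← hPP, h]; simp [brk])
    have hQ0 : Q ≠ 0 := fun h => hs (by rw [← hPP, h]; simp [brk])
    obtain ⟨ν, hν⟩ := exists_smul_of_brk hP'0 (by rw [brk_skew, hrP', neg_zero])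
    obtain ⟨ρ, hρ⟩ := exists_smul_of_brk hQ0 (by rw [brk_skew, htQ, neg_zero])
    have h1 : ν * ρ = 1 := by
      refine mul_right_cancel₀ hs ?_
      simp only [hν, hρ, hP', hQ', brk_smul_left, brk_smul_right, brk_skew (p (1, 1)) P] at e4' hPP
      linear_combination (-1 : F) * e4' - ν * ρ * hPP
    refine ⟨Matrix.of fun i a => ![P i, P' i] a, Matrix.of fun i b => ![Q i, Q' i] b, ?_, ?_, ?_⟩
    · refine isUnit_iff_ne_zero.2 ?_
      simp [Matrix.det_fin_two]
      exact fun h => hs (by rw [← hPP, brk]; linear_combination brk Q Q' * h)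
    · refine isUnit_iff_ne_zero.2 ?_
      simp [Matrix.det_fin_two]
      exact fun h => hQQ (by rw [brk]; linear_combination h)
    · rintro ⟨i, j⟩ ⟨a, b⟩
      fin_cases a <;> fin_cases b <;>
        simp only [pv, Matrix.kroneckerMap_apply, Matrix.of_apply, Fin.mk_zero, Fin.mk_one, Fin.isValue,
          Matrix.cons_val_zero, Matrix.cons_val_one]
      · rfl
      · rw [hl, hQ', Pi.smul_apply, Pi.smul_apply, smul_eq_mul, smul_eq_mul]; ring
      · rw [hν, hρ, Pi.smul_apply, Pi.smul_apply, smul_eq_mul, smul_eq_mul]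
        linear_combination (P' i * Q j) * h1
      · rw [hμ, hP', Pi.smul_apply, Pi.smul_apply, smul_eq_mul, smul_eq_mul]; ring
  have hR : ∀ i j, brk (p i) (p j) * brk (q i) (q j) = s * G i j := fun i j => by
    rw [← hrel, hpq, hpq, hG, pv_form]
  have hcol : ∀ i j, B i j = pv (p j) (q j) i := fun i j => congrFun (hpq j) i
  by_cases hq : brk (q (0, 0)) (q (0, 1)) = 0
  · have hp : brk (p (0, 0)) (p (0, 1)) ≠ 0 := fun hp => by
      have e7 := hR (0, 1) (1, 0)
      have e2 := hR (0, 1) (1, 1)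
      have e1 := hR (0, 0) (1, 1)
      simp [hG, altTwo] at e1 e2 e7
      obtain ⟨l, hl⟩ := exists_smul_of_brk (fun h => hs (by rw [← e1, h]; simp [brk])) hp
      obtain ⟨μ, hμ⟩ := exists_smul_of_brk (fun h => hs (by rw [← e1, h]; simp [brk])) hq
      rw [hl, hμ, brk_smul_left, brk_smul_left] at e2
      have h0 : l * μ * s = 0 := by
        rw [← e1]
        rcases e2 with h | h <;> rcases mul_eq_zero.1 h with h | h <;> simp [h]
      rw [hl, hμ, brk_smul_left, brk_smul_left] at e7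
      rcases mul_eq_zero.1 ((mul_eq_zero.1 h0).resolve_right hs) with h | h <;> simp [h] at e7 <;> exact hs e7
    obtain ⟨C, D, hC, hD, hCD⟩ := core q p (fun i j => by rw [mul_comm]; exact hR i j) hp
    refine ⟨D, C, hD, hC, Or.inr (Matrix.ext fun i j => ?_)⟩
    have h1 := hCD i.swap j
    rw [submatrix_pv] at h1
    rw [hcol, h1]
    exact mul_comm _ _
  · obtain ⟨C, D, hC, hD, hCD⟩ := core p q hR hq
    exact ⟨C, D, hC, hD, Or.inl (Matrix.ext fun i j => by rw [hcol, hCD])⟩

theorem form_mat {n : ℕ} {f : (Fin n → F) → (Fin n → F) → F} (hf : IsBilinearForm f) (x y : Fin n → F) :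
    f x y = x ⬝ᵥ gramMatrix f *ᵥ y := by
  let β : (Fin n → F) →ₗ[F] (Fin n → F) →ₗ[F] F :=
    LinearMap.mk₂ F f hf.add_left hf.smul_left hf.add_right hf.smul_right
  have h : β = Matrix.toLinearMap₂' F (gramMatrix f) := by
    refine (Pi.basisFun F (Fin n)).ext fun i => (Pi.basisFun F (Fin n)).ext fun j => ?_
    rw [Pi.basisFun_apply, Pi.basisFun_apply, Matrix.toLinearMap₂'_apply']
    simp [β, gramMatrix, Matrix.mulVec_single_one]
  show β x y = _
  rw [h, Matrix.toLinearMap₂'_apply']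

/-- A plus type form in dimension four is a product of two alternating planes. -/
theorem plus_gram (h2 : (2 : F) ≠ 0) {f : (Fin 4 → F) → (Fin 4 → F) → F} (hf : IsSymmetricForm f)
    (hplus : IsPlusTypeOn (fun v : Fin 4 → F => f v v) ⊤) :
    ∃ v : Fin 2 × Fin 2 → Fin 4 → F, ∀ i j, f (v i) (v j) = (altTwo ⊗ₖ altTwo : Matrix _ _ F) i j := by
  obtain ⟨U, -, hts, hdim⟩ := hplus
  rw [finrank_top, Module.finrank_fin_fun] at hdim
  let b := Module.finBasisOfFinrankEq F U (show Module.finrank F U = 2 by omega)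
  have hb := hf.bilinear
  have hUU : ∀ u ∈ U, ∀ w ∈ U, f u w = 0 := fun u hu w hw => by
    have h := hts (u + w) (U.add_mem hu hw)
    simp only [hb.add_left, hb.add_right] at h
    rw [show f u u = 0 from hts u hu, show f w w = 0 from hts w hw, hf.symm w u] at h
    exact (mul_eq_zero.1 (show (2 : F) * f u w = 0 by linear_combination h)).resolve_left h2
  set u : Fin 2 → Fin 4 → F := fun i => (b i : Fin 4 → F) with hu
  let T : (Fin 4 → F) →ₗ[F] (Fin 2 → F) :=
    { toFun := fun y i => f (u i) y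
      map_add' := fun y z => funext fun i => hb.add_right _ _ _
      map_smul' := fun c y => funext fun i => hb.smul_right _ _ _ }
  have hT : Function.Surjective T := by
    rw [← LinearMap.range_eq_top]
    by_contra hne
    obtain ⟨φ, hφ0, hφ⟩ := Submodule.exists_le_ker_of_lt_top _ (lt_top_iff_ne_top.2 hne)
    have hφx : ∀ x : Fin 2 → F, φ x = x 0 * φ (Pi.single 0 1) + x 1 * φ (Pi.single 1 1) := fun x => by
      conv_lhs => rw [show x = x 0 • Pi.single 0 1 + x 1 • Pi.single 1 1 from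
        funext fun i => by fin_cases i <;> simp]
      simp
    set w : U := φ (Pi.single 0 1) • b 0 + φ (Pi.single 1 1) • b 1 with hw
    have hwy : ∀ y, f (w : Fin 4 → F) y = 0 := fun y => by
      have h := hφ ⟨y, rfl⟩
      rw [LinearMap.mem_ker, hφx] at h
      simp only [hw, Submodule.coe_add, Submodule.coe_smul, hb.add_left, hb.smul_left]
      rw [← h]
      simp [T, hu, mul_comm]
    have hw0 : w = 0 := by
      by_contra h0
      obtain ⟨y, hy⟩ := (hf.nondegenerate (w : Fin 4 → F) fun h => h0 (Subtype.ext h)).2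
      exact hy (hwy y)
    have hli := Fintype.linearIndependent_iff.1 b.linearIndependent ![φ (Pi.single 0 1), φ (Pi.single 1 1)]
      (by rw [Fin.sum_univ_two]; exact hw0)
    exact hφ0 (LinearMap.ext fun x => by
      rw [hφx, show φ (Pi.single 0 1) = 0 from hli 0, show φ (Pi.single 1 1) = 0 from hli 1]; simp)
  obtain ⟨y₀, hy₀⟩ := hT (Pi.single 0 1)
  obtain ⟨y₁, hy₁⟩ := hT (Pi.single 1 1)
  have a00 : f (u 0) y₀ = 1 := by simpa [T] using congrFun hy₀ 0
  have a10 : f (u 1) y₀ = 0 := by simpa [T] using congrFun hy₀ 1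
  have a01 : f (u 0) y₁ = 0 := by simpa [T] using congrFun hy₁ 0
  have a11 : f (u 1) y₁ = 1 := by simpa [T] using congrFun hy₁ 1
  set x₀ := y₀ + (-(f y₀ y₀) / 2) • u 0 with hx₀
  set x₁ := y₁ + (-(f y₁ x₀)) • u 0 + (-(f y₁ y₁) / 2) • u 1 with hx₁
  have uu : ∀ i j, f (u i) (u j) = 0 := fun i j => hUU _ (b i).2 _ (b j).2
  have c00 : f (u 0) x₀ = 1 := by rw [hx₀, hb.add_right, hb.smul_right, a00, uu, mul_zero, add_zero]
  have c10 : f (u 1) x₀ = 0 := by rw [hx₀, hb.add_right, hb.smul_right, a10, uu, mul_zero, add_zero]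
  have c01 : f (u 0) x₁ = 0 := by
    rw [hx₁, hb.add_right, hb.add_right, hb.smul_right, hb.smul_right, a01, uu, uu]; ring
  have c11 : f (u 1) x₁ = 1 := by
    rw [hx₁, hb.add_right, hb.add_right, hb.smul_right, hb.smul_right, a11, uu, uu]; ring
  have x00 : f x₀ x₀ = 0 := by
    rw [hx₀]
    simp only [hb.add_left, hb.add_right, hb.smul_left, hb.smul_right, uu, a00, hf.symm y₀ (u 0)]
    field_simp
    ring
  have x10 : f x₁ x₀ = 0 := by
    rw [hx₁, hb.add_left, hb.add_left, hb.smul_left, hb.smul_left, c00, c10]; ring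
  have x11 : f x₁ x₁ = 0 := by
    rw [hx₁]
    simp only [hb.add_left, hb.add_right, hb.smul_left, hb.smul_right, uu, a01, a11, hf.symm y₁ (u 0),
      hf.symm y₁ (u 1)]
    field_simp
    ring
  refine ⟨fun ij => ![![u 0, u 1], ![-x₁, x₀]] ij.1 ij.2, ?_⟩
  have hnl : ∀ a c, f (-a) c = -f a c := fun a c => by
    rw [← neg_one_smul F a, hb.smul_left]; ring
  have hnr : ∀ a c, f a (-c) = -f a c := fun a c => by
    rw [← neg_one_smul F c, hb.smul_right]; ring
  rintro ⟨i, j⟩ ⟨k, l⟩
  fin_cases i <;> fin_cases j <;> fin_cases k <;> fin_cases l <;>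
    simp [altTwo, hnl, hnr, uu, c00, c10, c01, c11, x00, x10, x11, hf.symm x₀ (u 0), hf.symm x₀ (u 1),
      hf.symm x₁ (u 0), hf.symm x₁ (u 1), hf.symm x₀ x₁]

/-- The index bijection of the refinement. -/
def threeIx : Fin 2 × Fin 4 ≃ (Fin 3 → Fin 2) where
  toFun z := ![z.1, (finProdFinEquiv.symm z.2 : Fin 2 × Fin 2).1, (finProdFinEquiv.symm z.2 : Fin 2 × Fin 2).2]
  invFun w := (w 0, (finProdFinEquiv : Fin 2 × Fin 2 ≃ Fin 4) (w 1, w 2))
  left_inv z := by simp
  right_inv w := by funext i; fin_cases i <;> simp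

theorem pureTens_three (A C D : Matrix (Fin 2) (Fin 2) F) :
    pureTens ![A, C, D] = (A ⊗ₖ ((C ⊗ₖ D).submatrix finProdFinEquiv.symm finProdFinEquiv.symm)).submatrix
      threeIx.symm threeIx.symm := by
  refine Matrix.ext fun x y => ?_
  have hx : ∀ w : Fin 3 → Fin 2,
      (finProdFinEquiv : Fin 2 × Fin 2 ≃ Fin 4).symm (threeIx.symm w).2 = (w 1, w 2) := fun w =>
    finProdFinEquiv.symm_apply_apply _
  simp only [Matrix.submatrix_apply, Matrix.kroneckerMap_apply, hx, pureTens, Matrix.of_apply, Fin.prod_univ_three]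
  exact mul_assoc _ _ _

theorem wreath_three {g : GL (Ix m) F} {e : Ix m ≃ (Fin 3 → Fin 2)} {P : GL (Ix m) F}
    {A C D : Matrix (Fin 2) (Fin 2) F} (hA : IsUnit A.det) (hC : IsUnit C.det) (hD : IsUnit D.det)
    (hg : g.val = tm e P (pureTens ![A, C, D]) ∨
      g.val = tm e P ((pureTens ![A, C, D]).submatrix id (fun y => y ∘ Equiv.swap 1 2))) :
    g ∈ tensorWreathSubgroup 2 3 e P := by
  classical
  let gs : Fin 3 → GL (Fin 2) F := fun i => Matrix.nonsingInvUnit (![A, C, D] i) (by fin_cases i <;> assumption)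
  let X : GL (Fin 3 → Fin 2) F := ⟨pureTens fun i => (gs i).val, pureTens fun i => (gs i)⁻¹.val,
    by rw [pureTens_mul]; simp only [← Units.val_mul, mul_inv_cancel, Units.val_one]; exact pureTens_one,
    by rw [pureTens_mul]; simp only [← Units.val_mul, inv_mul_cancel, Units.val_one]; exact pureTens_one⟩
  let σ : Equiv.Perm (Fin 3) := Equiv.swap 1 2
  let S : Matrix (Fin 3 → Fin 2) (Fin 3 → Fin 2) F := Matrix.of fun x y => if y = x ∘ σ then 1 else 0
  have hmul : ∀ Y : Matrix (Fin 3 → Fin 2) (Fin 3 → Fin 2) F, Y * S = Y.submatrix id (fun y => y ∘ σ) := fun Y => by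
    refine Matrix.ext fun x y => ?_
    have hiff : ∀ z : Fin 3 → Fin 2, y = z ∘ σ ↔ z = y ∘ σ := fun z => by
      constructor <;> intro h <;> subst h <;> funext i <;> simp [σ]
    simp [Matrix.mul_apply, S, hiff]
  have hSS : S * S = 1 := by
    rw [hmul]
    refine Matrix.ext fun x y => ?_
    simp only [Matrix.submatrix_apply, S, Matrix.of_apply, id, Matrix.one_apply]
    refine if_congr ⟨fun h => ?_, fun h => by rw [h]⟩ rfl rfl
    funext i
    simpa [σ] using (congrFun h (σ.symm i)).symm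
  let Sg : GL (Fin 3 → Fin 2) F := ⟨S, S, hSS, hSS⟩
  have hX : X ∈ tensorWreathStandard 2 3 F := Subgroup.subset_closure (Or.inl ⟨gs, fun x y => rfl⟩)
  have hS : Sg ∈ tensorWreathStandard 2 3 F := Subgroup.subset_closure (Or.inr ⟨σ, fun x y => rfl⟩)
  rcases hg with h | h
  · exact ⟨_, ⟨X, hX, rfl⟩, Units.ext (by rw [h]; exact tm_glReindex e P X)⟩
  · refine ⟨_, ⟨X * Sg, mul_mem hX hS, rfl⟩, Units.ext ?_⟩
    rw [h]
    refine (tm_glReindex e P (X * Sg)).trans ?_
    rw [Units.val_mul]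
    exact congrArg (tm e P) (hmul _)

/-- A plus type factor of dimension four splits further. -/
theorem plus_split [Fintype F] (h2 : (2 : F) ≠ 0) (hH : H ≤ Cfsg.spGL m F) {e : Ix m ≃ Fin 2 × Fin 4}
    {P : GL (Ix m) F} {f₁ : (Fin 2 → F) → (Fin 2 → F) → F} {f₂ : (Fin 4 → F) → (Fin 4 → F) → F}
    (hf₁ : IsSymplecticForm f₁) (hf₂ : IsSymmetricForm f₂)
    (hplus : IsPlusTypeOn (fun v : Fin 4 → F => f₂ v v) ⊤)
    (hst : IsTensorFormStructure id (Cfsg.sympForm m F) f₁ f₂ e P) (hle : H ≤ tensorProductSubgroup 2 4 e P) :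
    ∃ (e' : Ix m ≃ (Fin 3 → Fin 2)) (P' : GL (Ix m) F) (f : (Fin 2 → F) → (Fin 2 → F) → F),
      IsSymplecticForm f ∧ IsTensorPowerFormStructure id (Cfsg.sympForm m F) f e' P' ∧
      H ≤ tensorWreathSubgroup 2 3 e' P' := by
  classical
  obtain ⟨c, hc, hform⟩ := hst
  obtain ⟨a, ha, hA₁⟩ := altTwo_gram hf₁
  obtain ⟨v, hv⟩ := plus_gram h2 hf₂ hplus
  set φ : Fin 4 ≃ Fin 2 × Fin 2 := (finProdFinEquiv : Fin 2 × Fin 2 ≃ Fin 4).symm with hφ
  set G₂ := gramMatrix f₂
  set K : Matrix (Fin 2 × Fin 2) (Fin 2 × Fin 2) F := altTwo ⊗ₖ altTwo with hK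
  set M : Matrix (Fin 4) (Fin 4) F := Matrix.of fun i j => v (φ j) i with hM
  have hMG : Mᵀ * G₂ * M = K.submatrix φ φ := by
    refine Matrix.ext fun i j => ?_
    rw [Matrix.submatrix_apply, ← hv, form_mat hf₂.bilinear, Matrix.mul_assoc, Matrix.mul_apply]
    simp only [dotProduct, Matrix.transpose_apply, hM, Matrix.of_apply]
    refine Finset.sum_congr rfl fun k _ => ?_
    rw [Matrix.mul_apply]
    rfl
  have hKu : IsUnit K.det := by
    rw [hK, Matrix.det_kronecker]
    simp [altTwo, Matrix.det_fin_two]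
  have hMu : IsUnit M.det := by
    have h := hKu
    rw [← Matrix.det_submatrix_equiv_self φ K, ← hMG, Matrix.det_mul, IsUnit.mul_iff] at h
    exact h.2
  let Mg : GL (Fin 4) F := Matrix.nonsingInvUnit M hMu
  let Z : GL (Fin 2 × Fin 4) F := ⟨(1 : Matrix (Fin 2) (Fin 2) F) ⊗ₖ Mg.val, (1 : Matrix (Fin 2) (Fin 2) F) ⊗ₖ Mg⁻¹.val,
    by rw [← Matrix.mul_kronecker_mul, mul_one, ← Units.val_mul, mul_inv_cancel, Units.val_one, Matrix.one_kronecker_one],
    by rw [← Matrix.mul_kronecker_mul, mul_one, ← Units.val_mul, inv_mul_cancel, Units.val_one, Matrix.one_kronecker_one]⟩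
  let P' : GL (Ix m) F := P * glReindex e.symm Z
  let e' : Ix m ≃ (Fin 3 → Fin 2) := e.trans threeIx
  have hgC : gC e P = (c * a) • ((altTwo : Matrix (Fin 2) (Fin 2) F) ⊗ₖ G₂) := by
    refine Matrix.ext fun i j => ?_
    have h := hform (Pi.single i 1) (Pi.single j 1)
    rw [coord_form, formOfGram_mat, hA₁] at h
    simpa [Matrix.mulVec_single_one, mul_assoc] using h
  refine ⟨e', P', formOfGram id altTwo, symp_formOfGram h2 (by simp [altTwo, Matrix.det_fin_two]) ?_, ?_, ?_⟩
  · refine Matrix.ext fun i j => ?_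
    fin_cases i <;> fin_cases j <;> simp [altTwo]
  · refine ⟨c * a, mul_ne_zero hc ha, fun x y => ?_⟩
    rw [gram_formOfGram]
    have hPx : ∀ z : (Fin 3 → Fin 2) → F, P'.val *ᵥ (z ∘ e') = P.val *ᵥ ((Z.val *ᵥ (z ∘ threeIx)) ∘ e) := fun z => by
      rw [Units.val_mul, ← Matrix.mulVec_mulVec]
      congr 1
      show (Z.val.submatrix e e) *ᵥ _ = _
      rw [Matrix.submatrix_mulVec_equiv]
      congr 2
      funext i; simp [e']
    rw [hPx, hPx, coord_form, ← Matrix.vecMul_transpose, ← Matrix.dotProduct_mulVec, Matrix.mulVec_mulVec,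
      Matrix.mulVec_mulVec, hgC]
    have hZ : Z.valᵀ * ((c * a) • ((altTwo : Matrix (Fin 2) (Fin 2) F) ⊗ₖ G₂)) * Z.val =
        (c * a) • ((pureTens fun _ : Fin 3 => (altTwo : Matrix (Fin 2) (Fin 2) F)).submatrix threeIx threeIx) := by
      rw [Matrix.mul_smul, Matrix.smul_mul]
      congr 1
      show ((1 : Matrix (Fin 2) (Fin 2) F) ⊗ₖ M)ᵀ * _ * ((1 : Matrix (Fin 2) (Fin 2) F) ⊗ₖ M) = _
      rw [kron_comp_left, Matrix.transpose_one, ← Matrix.mul_kronecker_mul, ← Matrix.mul_kronecker_mul,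
        Matrix.one_mul, Matrix.mul_one, hMG]
      refine Matrix.ext fun i j => ?_
      simp only [Matrix.submatrix_apply, Matrix.kroneckerMap_apply, pureTens, Matrix.of_apply,
        Fin.prod_univ_three, hK, hφ]
      exact (mul_assoc _ _ _).symm
    rw [hZ, Matrix.smul_mulVec, dotProduct_smul, smul_eq_mul, Matrix.submatrix_mulVec_equiv]
    congr 1
    rw [show (y ∘ threeIx) ∘ threeIx.symm = y from funext fun i => by simp]
    refine (Equiv.sum_comp threeIx
      (fun z => x z * ((pureTens fun _ : Fin 3 => (altTwo : Matrix (Fin 2) (Fin 2) F)) *ᵥ y) z)).trans ?_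
    simp [Matrix.mulVec, dotProduct, pureTens, Finset.mul_sum, mul_assoc]
  · intro g hg
    obtain ⟨A, B, hAB⟩ := kronHold_iff.1 hle g hg
    have hfix := gC_fix e P (hH hg) hAB
    rw [hgC, Matrix.mul_smul, Matrix.smul_mul, kron_comp_left, ← Matrix.mul_kronecker_mul, ← Matrix.mul_kronecker_mul,
      altTwo_conj] at hfix
    have hdet : A.val.det ≠ 0 := (A.isUnit.map Matrix.detMonoidHom).ne_zero
    have hB : B.valᵀ * G₂ * B.val = A.val.det⁻¹ • G₂ := by
      refine Matrix.ext fun i j => ?_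
      have h := congrFun (congrFun hfix (0, i)) (1, j)
      simp [altTwo] at h
      rw [Matrix.smul_apply, smul_eq_mul, eq_inv_mul_iff_mul_eq₀ hdet]
      exact h.resolve_right (not_or.2 ⟨hc, ha⟩)
    set B' : Matrix (Fin 4) (Fin 4) F := (Mg⁻¹).val * B.val * Mg.val with hB'
    have hMB : Mg.val * B' = B.val * Mg.val := by
      rw [hB', ← Matrix.mul_assoc, ← Matrix.mul_assoc, ← Units.val_mul, mul_inv_cancel, Units.val_one, Matrix.one_mul]
    have hK' : (B'.submatrix φ.symm φ.symm)ᵀ * K * B'.submatrix φ.symm φ.symm = A.val.det⁻¹ • K := by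
      have h1 : B'ᵀ * (K.submatrix φ φ) * B' = A.val.det⁻¹ • K.submatrix φ φ := by
        rw [← hMG]
        show B'ᵀ * (Mg.valᵀ * G₂ * Mg.val) * B' = _
        calc B'ᵀ * (Mg.valᵀ * G₂ * Mg.val) * B' = (Mg.val * B')ᵀ * G₂ * (Mg.val * B') := by
              simp only [Matrix.transpose_mul, Matrix.mul_assoc]
          _ = Mg.valᵀ * (B.valᵀ * G₂ * B.val) * Mg.val := by
              simp only [hMB, Matrix.transpose_mul, Matrix.mul_assoc]
          _ = _ := by rw [hB, Matrix.mul_smul, Matrix.smul_mul]; rfl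
      have h3 := congrArg (fun X : Matrix (Fin 4) (Fin 4) F => X.submatrix φ.symm φ.symm) h1
      simp only [← Matrix.submatrix_mul_equiv _ _ φ.symm φ.symm φ.symm, Matrix.submatrix_smul, Pi.smul_apply,
        Matrix.submatrix_submatrix, Equiv.self_comp_symm, Matrix.submatrix_id_id] at h3
      rw [Matrix.transpose_submatrix]
      exact h3
    obtain ⟨C, D, hC, hD, hCD⟩ := similitude_split h2 (inv_ne_zero hdet) hK'
    have hgg : g.val = tm e' P' ((A.val ⊗ₖ B').submatrix threeIx.symm threeIx.symm) := by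
      rw [hAB]
      show P.val * _ * (P⁻¹).val = (P.val * Z.val.submatrix e e) * _ * ((Z⁻¹).val.submatrix e e * (P⁻¹).val)
      rw [show ((A.val ⊗ₖ B').submatrix threeIx.symm threeIx.symm).submatrix e' e' = (A.val ⊗ₖ B').submatrix e e from
        Matrix.ext fun i j => by simp [e']]
      simp only [Matrix.mul_assoc]
      congr 1
      simp only [← Matrix.mul_assoc, Matrix.submatrix_mul_equiv]
      congr 2
      show A.val ⊗ₖ B.val = ((1 : Matrix (Fin 2) (Fin 2) F) ⊗ₖ Mg.val) * _ * ((1 : Matrix (Fin 2) (Fin 2) F) ⊗ₖ (Mg⁻¹).val)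
      rw [← Matrix.mul_kronecker_mul, ← Matrix.mul_kronecker_mul, Matrix.one_mul, Matrix.mul_one, hMB,
        Matrix.mul_assoc, ← Units.val_mul, mul_inv_cancel, Units.val_one, Matrix.mul_one]
    have hB'e : B' = (B'.submatrix φ.symm φ.symm).submatrix φ φ := by simp
    rcases hCD with h | h
    · refine wreath_three (A.isUnit.map Matrix.detMonoidHom) hC hD (Or.inl ?_)
      rw [hgg, hB'e, h, pureTens_three]
    · refine wreath_three (A.isUnit.map Matrix.detMonoidHom) hC hD (Or.inr ?_)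
      rw [hgg, hB'e, h]
      congr 1
      refine Matrix.ext fun x y => ?_
      have hx : ∀ w : Fin 3 → Fin 2, φ (threeIx.symm w).2 = (w 1, w 2) := fun w =>
        finProdFinEquiv.symm_apply_apply _
      simp only [Matrix.submatrix_apply, Matrix.kroneckerMap_apply, hx, pureTens, Matrix.of_apply,
        Fin.prod_univ_three]
      exact (mul_assoc _ _ _).symm

end Cfsg.Lib.Linear.AschSp
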