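import Cfsg.Agent.Lib.Linear.AschSp.ClassSix

/-!
# Groups generated by signed involutions and elements of order four
-/

set_option autoImplicit false
set_option linter.unusedSectionVars false
set_option linter.style.haveILetI false

namespace Cfsg.Lib.Linear.AschSp

open Cfsg.Geo Cfsg.Lib.Linear Cfsg.Lib.Linear.Asch
open scoped Matrix MatrixGroups commutatorElement

variable {m : ℕ} {F : Type*} [Field F] {H : Subgroup (GL (Ix m) F)}

/-- The two matrices commute or anticommute. -/
def SignComm (x y : Matrix (Ix m) (Ix m) F) : Prop := x * y = y * x ∨ x * y = -(y * x)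

theorem SignComm.symm {x y : Matrix (Ix m) (Ix m) F} (h : SignComm x y) : SignComm y x := by
  rcases h with h | h
  · exact Or.inl h.symm
  · exact Or.inr (by rw [h, neg_neg])

theorem SignComm.mul {x y z : Matrix (Ix m) (Ix m) F} (h : SignComm x z) (h' : SignComm y z) :
    SignComm (x * y) z := by
  unfold SignComm at *
  rcases h' with h' | h' <;> rcases h with h | h
  · exact Or.inl (by rw [Matrix.mul_assoc, h', ← Matrix.mul_assoc, h, Matrix.mul_assoc])
  · exact Or.inr (by rw [Matrix.mul_assoc, h', ← Matrix.mul_assoc, h, neg_mul, Matrix.mul_assoc])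
  · exact Or.inr (by rw [Matrix.mul_assoc, h', mul_neg, ← Matrix.mul_assoc, h, Matrix.mul_assoc])
  · exact Or.inl (by rw [Matrix.mul_assoc, h', mul_neg, ← Matrix.mul_assoc, h, neg_mul, neg_neg, Matrix.mul_assoc])

theorem SignComm.inv {x : GL (Ix m) F} {z : Matrix (Ix m) (Ix m) F} (h : SignComm x.val z) :
    SignComm (x⁻¹).val z := by
  have h1 : ∀ w : Matrix (Ix m) (Ix m) F, (x⁻¹).val * (x.val * w) * (x⁻¹).val = w * (x⁻¹).val := fun w => by
    rw [← Matrix.mul_assoc, ← Units.val_mul, inv_mul_cancel, Units.val_one, Matrix.one_mul]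
  have h3 : ∀ w : Matrix (Ix m) (Ix m) F, (x⁻¹).val * (w * x.val) * (x⁻¹).val = (x⁻¹).val * w := fun w => by
    rw [← Matrix.mul_assoc, Matrix.mul_assoc, ← Units.val_mul, mul_inv_cancel, Units.val_one, Matrix.mul_one]
  rcases h with h | h
  · have := congrArg (fun w => (x⁻¹).val * w * (x⁻¹).val) h
    simp only [h1, h3] at this
    exact Or.inl this.symm
  · have := congrArg (fun w => (x⁻¹).val * w * (x⁻¹).val) h
    simp only [mul_neg, neg_mul, h1, h3] at this
    exact Or.inr (by rw [this, neg_neg])

variable {S : Set (GL (Ix m) F)}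

theorem closure_signComm (hcomm : ∀ s ∈ S, ∀ t ∈ S, SignComm s.val t.val) :
    ∀ x ∈ Subgroup.closure S, ∀ y ∈ Subgroup.closure S, SignComm x.val y.val := by
  have h1 : ∀ x ∈ Subgroup.closure S, ∀ t ∈ S, SignComm x.val t.val := by
    intro x hx t ht
    induction hx using Subgroup.closure_induction with
    | mem s hs => exact hcomm s hs t ht
    | one => exact Or.inl (by simp)
    | mul a b _ _ ha hb => rw [Units.val_mul]; exact ha.mul hb
    | inv a _ ha => exact ha.inv
  intro x hx y hy
  induction hy using Subgroup.closure_induction with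
  | mem t ht => exact h1 x hx t ht
  | one => exact Or.inl (by simp)
  | mul a b _ _ ha hb => rw [Units.val_mul]; exact (ha.symm.mul hb.symm).symm
  | inv a _ ha => exact ha.symm.inv.symm

theorem closure_sq (hsq : ∀ s ∈ S, s.val * s.val = 1 ∨ s.val * s.val = -1)
    (hcomm : ∀ s ∈ S, ∀ t ∈ S, SignComm s.val t.val) :
    ∀ x ∈ Subgroup.closure S, x.val * x.val = 1 ∨ x.val * x.val = -1 := by
  intro x hx
  induction hx using Subgroup.closure_induction with
  | mem s hs => exact hsq s hs
  | one => exact Or.inl (by simp)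
  | mul a b ha' hb' ha hb =>
    have h1 : (a * b).val * (a * b).val = a.val * a.val * (b.val * b.val) ∨
        (a * b).val * (a * b).val = -(a.val * a.val * (b.val * b.val)) := by
      rw [Units.val_mul]
      rcases closure_signComm hcomm b hb' a ha' with h | h
      · exact Or.inl (by rw [Matrix.mul_assoc, ← Matrix.mul_assoc b.val, h]; simp only [Matrix.mul_assoc])
      · exact Or.inr (by
          rw [Matrix.mul_assoc, ← Matrix.mul_assoc b.val, h]
          simp only [neg_mul, mul_neg, Matrix.mul_assoc])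
    rcases ha with ha | ha <;> rcases hb with hb | hb <;> rcases h1 with h | h <;>
      simp only [Units.val_mul] at h ⊢ <;> simp [h, ha, hb]
  | inv a _ ha =>
    have h1 : (a * a).val = 1 ∨ (a * a).val = -1 := by rwa [Units.val_mul]
    have h3 : ((a⁻¹).val * (a⁻¹).val) * (a * a).val = 1 := by
      rw [← Units.val_mul, ← Units.val_mul]
      simp
    rcases h1 with h | h
    · rw [h, Matrix.mul_one] at h3; exact Or.inl h3
    · rw [h, mul_neg, mul_one] at h3; exact Or.inr (neg_eq_iff_eq_neg.1 h3)

/-- A set of signed generators spanning the matrix algebra gives a member of class six. -/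
theorem sixMember_of_signed [Fintype F] (h2 : (2 : F) ≠ 0) {p : ℕ} (hp : p.Prime) (hpodd : Odd p)
    (hcard : Fintype.card F = p) {k : ℕ} (hk : 2 ≤ k) (hdim : 2 * m = 2 ^ k)
    (hsp : ∀ s ∈ S, s ∈ Cfsg.spGL m F) (hsq : ∀ s ∈ S, s.val * s.val = 1 ∨ s.val * s.val = -1)
    (hcomm : ∀ s ∈ S, ∀ t ∈ S, SignComm s.val t.val)
    (hspan : Algebra.adjoin F ((fun g : GL (Ix m) F => g.val) '' S) = ⊤)
    (hnorm : ∀ g ∈ H, ∀ s ∈ S, g * s * g⁻¹ ∈ Subgroup.closure S) : SixMember H := by
  classical
  have hm : 0 < m := by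
    by_contra h
    have := Nat.one_le_two_pow (n := k)
    omega
  haveI : Nonempty (Ix m) := ⟨Sum.inl ⟨0, hm⟩⟩
  set R := Subgroup.closure S with hR
  have hRsp : R ≤ Cfsg.spGL m F := (Subgroup.closure_le _).2 hsp
  have hsc := closure_signComm hcomm
  have hq := closure_sq hsq hcomm
  have habs : ActsAbsolutelyIrreducibly (matrixSet R) := by
    refine ⟨fun W hW => ?_, fun M hM => ?_⟩
    · have hall : ∀ M : Matrix (Ix m) (Ix m) F, ∀ v ∈ W, M *ᵥ v ∈ W := by
        intro M
        have hM : M ∈ Algebra.adjoin F ((fun g : GL (Ix m) F => g.val) '' S) := hspan ▸ Algebra.mem_top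
        induction hM using Algebra.adjoin_induction with
        | mem M hM =>
          obtain ⟨s, hs, rfl⟩ := hM
          intro v hv
          exact hW _ ⟨s, Subgroup.subset_closure hs, rfl⟩ ⟨v, hv, Matrix.toLin'_apply _ _⟩
        | algebraMap r =>
          intro v hv
          rw [Algebra.algebraMap_eq_smul_one, Matrix.smul_mulVec, Matrix.one_mulVec]
          exact W.smul_mem r hv
        | add a b _ _ ha hb => intro v hv; rw [Matrix.add_mulVec]; exact W.add_mem (ha v hv) (hb v hv)
        | mul a b _ _ ha hb => intro v hv; rw [← Matrix.mulVec_mulVec]; exact ha _ (hb v hv)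
      by_contra hne
      push Not at hne
      obtain ⟨h0, h1⟩ := hne
      obtain ⟨v, hv, hv0⟩ := Submodule.exists_mem_ne_zero_of_ne_bot h0
      refine h1 (eq_top_iff.2 fun w _ => ?_)
      obtain ⟨i, hi⟩ := Function.ne_iff.1 hv0
      have h3 := hall (Matrix.of fun a b => if b = i then w a / v i else 0) v hv
      convert h3 using 1
      funext a
      simp only [Matrix.mulVec, dotProduct, Matrix.of_apply, ite_mul, zero_mul, Finset.sum_ite_eq',
        Finset.mem_univ, if_true]
      exact (div_mul_cancel₀ _ hi).symm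
    · have hcomm' : ∀ X : Matrix (Ix m) (Ix m) F, M * X = X * M := by
        intro X
        have hX : X ∈ Algebra.adjoin F ((fun g : GL (Ix m) F => g.val) '' S) := hspan ▸ Algebra.mem_top
        induction hX using Algebra.adjoin_induction with
        | mem X hX =>
          obtain ⟨s, hs, rfl⟩ := hX
          exact hM _ ⟨s, Subgroup.subset_closure hs, rfl⟩
        | algebraMap r => exact (Algebra.commutes r M).symm
        | add a b _ _ ha hb => rw [Matrix.mul_add, Matrix.add_mul, ha, hb]
        | mul a b _ _ ha hb => rw [← Matrix.mul_assoc, ha, Matrix.mul_assoc, hb, ← Matrix.mul_assoc]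
      obtain ⟨c, hc⟩ := Matrix.mem_range_scalar_of_commute_single (M := M)
        (fun i j _ => (hcomm' (Matrix.single i j 1)).symm)
      exact ⟨c, by rw [← hc, Matrix.scalar_apply, Matrix.smul_one_eq_diagonal]⟩
  have hpm : ∀ x ∈ R, x ∈ scalars (Ix m) F → x.val = 1 ∨ x.val = -1 := fun x hx hs =>
    scalar_sign hm (hRsp hx) hs
  have hanti : ∀ x ∈ R, x ∉ scalars (Ix m) F → ∃ y ∈ R, x.val * y.val = -(y.val * x.val) := by
    intro x hx hxs
    by_contra hne
    push Not at hne
    exact hxs (absIrr_center habs fun y hy => Units.ext ((hsc x hx y hy).resolve_right (hne y hy)))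
  have hsm : ∀ z : GL (Ix m) F, z.val = 1 ∨ z.val = -1 → z ∈ scalars (Ix m) F := fun z hz => by
    refine (mem_scalars_iff z).2 ?_
    rcases hz with h | h
    · exact ⟨1, by rw [h, Units.val_one, one_smul]⟩
    · exact ⟨-1, by rw [h, Units.val_neg, Units.val_one, neg_one_smul]⟩
  have hsqs : ∀ x ∈ R, x ^ 2 ∈ scalars (Ix m) F := fun x hx => hsm _ (by rw [pow_two, Units.val_mul]; exact hq x hx)
  have hx4 : ∀ x ∈ R, x ^ 4 = 1 := fun x hx => Units.ext (by
    rw [show 4 = 2 * 2 from rfl, pow_mul, Units.val_pow_eq_pow_val, Units.val_pow_eq_pow_val, pow_two x.val]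
    rcases hq x hx with h | h <;> simp [h])
  have hcs : ∀ x ∈ R, ∀ y ∈ R, ⁅x, y⁆ ∈ scalars (Ix m) F := fun x hx y hy => hsm _ (by
    rw [commutatorElement_def, Units.val_mul, Units.val_mul, Units.val_mul]
    have h1 : ∀ z w : GL (Ix m) F, z.val * w.val * (z⁻¹).val * (w⁻¹).val = (z * w * (w * z)⁻¹).val := fun z w => by
      simp [mul_assoc]
    rw [h1]
    rcases hsc x hx y hy with h | h
    · left
      rw [show x * y = y * x from Units.ext h, mul_inv_cancel, Units.val_one]
    · right
      rw [Units.val_mul, Units.val_mul, h, neg_mul, ← Units.val_mul, ← Units.val_mul, mul_inv_cancel, Units.val_one])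
  obtain ⟨x₀, hx₀, hx₀s⟩ : ∃ x ∈ R, x ∉ scalars (Ix m) F := by
    by_contra hne
    push Not at hne
    have h1 : ∀ X : Matrix (Ix m) (Ix m) F, ∃ c : F, X = c • 1 := fun X => habs.2 X (by
      rintro _ ⟨g, hg, rfl⟩
      obtain ⟨c, hc⟩ := (mem_scalars_iff g).1 (hne g hg)
      show X * g.val = g.val * X
      rw [hc, Matrix.mul_smul, Matrix.smul_mul, Matrix.mul_one, Matrix.one_mul])
    obtain ⟨c, hc⟩ := h1 (Matrix.single (Sum.inl ⟨0, hm⟩) (Sum.inr ⟨0, hm⟩) 1)
    have h3 := congrFun (congrFun hc (Sum.inl ⟨0, hm⟩)) (Sum.inr ⟨0, hm⟩)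
    simp at h3
  have hneg : (-1 : GL (Ix m) F) ∈ R := by
    obtain ⟨y, hy, hxy⟩ := hanti x₀ hx₀ hx₀s
    have h1 : x₀ * y * (y * x₀)⁻¹ = -1 := by
      refine mul_inv_eq_iff_eq_mul.2 (Units.ext ?_)
      rw [Units.val_mul, Units.val_mul, Units.val_neg, Units.val_one, Units.val_mul, neg_one_mul]
      exact hxy
    exact h1 ▸ mul_mem (mul_mem hx₀ hy) (inv_mem (mul_mem hy hx₀))
  have hne1 : (-1 : Matrix (Ix m) (Ix m) F) ≠ 1 := fun h => h2 (by
    have h1 := congrFun (congrFun h (Sum.inl ⟨0, hm⟩)) (Sum.inl ⟨0, hm⟩)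
    simp at h1
    linear_combination -h1)
  -- the centre
  have hZ : ∀ z : R, z ∈ Subgroup.center R ↔ (z : GL (Ix m) F).val = 1 ∨ (z : GL (Ix m) F).val = -1 := fun z => by
    refine ⟨fun hz => hpm _ z.2 (absIrr_center habs fun y hy =>
      (congrArg (fun g : R => (g : GL (Ix m) F)) (Subgroup.mem_center_iff.1 hz ⟨y, hy⟩)).symm), fun hz => ?_⟩
    refine Subgroup.mem_center_iff.2 fun w => Subtype.ext (Units.ext ?_)
    rcases hz with h | h <;> simp [h]
  let negR : R := ⟨-1, hneg⟩
  have hnegZ : negR ∈ Subgroup.center R := (hZ _).2 (Or.inr rfl)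
  have hcZ : Nat.card (Subgroup.center R) = 2 := by
    refine Nat.card_eq_two_iff.2 ⟨1, ⟨negR, hnegZ⟩, fun h => hne1 ?_, ?_⟩
    · exact (congrArg (fun z : Subgroup.center R => ((z : R) : GL (Ix m) F).val) h).symm
    · ext z
      simp only [Set.mem_insert_iff, Set.mem_singleton_iff, Set.mem_univ, iff_true]
      rcases (hZ z.1).1 z.2 with h | h
      · exact Or.inl (Subtype.ext (Subtype.ext (Units.ext h)))
      · exact Or.inr (Subtype.ext (Subtype.ext (Units.ext (h.trans (Units.val_neg 1).symm))))
  -- the order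
  haveI : Finite R := inferInstance
  let Z := Subgroup.center R
  letI : Fintype (R ⧸ Z) := Fintype.ofFinite _
  let rep : R ⧸ Z → Matrix (Ix m) (Ix m) F := fun q => ((Quotient.out q : R) : GL (Ix m) F).val
  have hrep : ∀ x : R, ∃ c : F, (x : GL (Ix m) F).val = c • rep (QuotientGroup.mk x) := by
    intro x
    obtain ⟨z, hz⟩ := QuotientGroup.mk_out_eq_mul Z x
    have hx : (x : GL (Ix m) F).val = ((QuotientGroup.mk x : R ⧸ Z).out : GL (Ix m) F).val *
        (((z : R) : GL (Ix m) F)⁻¹).val := by
      rw [hz, Subgroup.coe_mul, ← Units.val_mul, mul_inv_cancel_right]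
    rcases (hZ (z : R)⁻¹).1 (inv_mem z.2) with h | h
    · exact ⟨1, by rw [one_smul, hx, show (((z : R) : GL (Ix m) F)⁻¹).val = 1 from h, Matrix.mul_one]⟩
    · exact ⟨-1, by rw [neg_one_smul, hx, show (((z : R) : GL (Ix m) F)⁻¹).val = -1 from h, mul_neg, mul_one]⟩
  have htr : ∀ x ∈ R, x ∉ scalars (Ix m) F → x.val.trace = 0 := by
    intro x hx hxs
    obtain ⟨y, -, hy⟩ := hanti x hx hxs
    have h1 : y.val * x.val * (y⁻¹).val = -x.val := by
      rw [show y.val * x.val = -(x.val * y.val) by rw [hy, neg_neg], neg_mul, Matrix.mul_assoc, ← Units.val_mul,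
        mul_inv_cancel, Units.val_one, Matrix.mul_one]
    have h3 := congrArg Matrix.trace h1
    rw [Matrix.trace_mul_cycle, ← Units.val_mul, inv_mul_cancel, Units.val_one, Matrix.one_mul, Matrix.trace_neg] at h3
    refine (mul_eq_zero.1 (?_ : (2 : F) * x.val.trace = 0)).resolve_left h2
    linear_combination h3
  have hn0 : ((2 * m : ℕ) : F) ≠ 0 := by
    rw [hdim, Nat.cast_pow]
    exact pow_ne_zero _ (by exact_mod_cast h2)
  have hli : LinearIndependent F rep := by
    rw [Fintype.linearIndependent_iff]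
    intro c hc q
    set y : R := Quotient.out q with hy
    have h1 : ∑ r, c r * ((rep r) * (((y : R) : GL (Ix m) F)⁻¹).val).trace = 0 := by
      have h3 := congrArg (fun M => (M * (((y : R) : GL (Ix m) F)⁻¹).val).trace) hc
      simpa [Matrix.sum_mul, Matrix.smul_mul, Matrix.trace_sum, Matrix.trace_smul] using h3
    rw [Finset.sum_eq_single q] at h1
    · have h3 : rep q * (((y : R) : GL (Ix m) F)⁻¹).val = 1 := by
        show ((y : R) : GL (Ix m) F).val * _ = 1
        rw [← Units.val_mul, mul_inv_cancel, Units.val_one]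
      rw [h3, Matrix.trace_one, card_ix] at h1
      exact (mul_eq_zero.1 h1).resolve_right hn0
    · intro r _ hr
      rw [mul_eq_zero]
      right
      let w : R := Quotient.out r * y⁻¹
      have hw : rep r * (((y : R) : GL (Ix m) F)⁻¹).val = (w : GL (Ix m) F).val := rfl
      rw [hw]
      refine htr _ w.2 fun hws => hr ?_
      have hwZ : w ∈ Z := (hZ w).2 (hpm _ w.2 hws)
      have h4 : (QuotientGroup.mk (Quotient.out r) : R ⧸ Z) = QuotientGroup.mk y := by
        rw [QuotientGroup.eq]
        have : (Quotient.out r)⁻¹ * y = (Quotient.out r)⁻¹ * w⁻¹ * Quotient.out r := by simp [w, mul_assoc]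
        rw [this]
        exact (inferInstance : Z.Normal).conj_mem' _ (inv_mem hwZ) _
      rwa [QuotientGroup.out_eq', hy, QuotientGroup.out_eq'] at h4
    · exact fun h => absurd (Finset.mem_univ q) h
  have hsp' : Submodule.span F (Set.range rep) = ⊤ := by
    rw [eq_top_iff, ← span_eq_top habs, Submodule.span_le]
    rintro _ ⟨x, hx, rfl⟩
    obtain ⟨c, hc⟩ := hrep ⟨x, hx⟩
    show x.val ∈ _
    rw [show x.val = _ from hc]
    exact Submodule.smul_mem _ _ (Submodule.subset_span ⟨_, rfl⟩)
  have hcq : Fintype.card (R ⧸ Z) = 2 ^ k * 2 ^ k := by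
    have h1 := Module.finrank_eq_card_basis (Module.Basis.mk hli hsp'.ge)
    rw [Module.finrank_matrix, Module.finrank_self, mul_one, card_ix, hdim] at h1
    exact h1.symm
  have hcR : Nat.card R = 2 ^ (1 + 2 * k) := by
    rw [Subgroup.card_eq_card_quotient_mul_card_subgroup Z, show Nat.card Z = 2 from hcZ,
      Nat.card_eq_fintype_card, hcq, pow_add, pow_one, two_mul k, pow_add]
    ring
  -- every non-central element anticommutes with an element of square minus one
  have hkey : ∀ a ∈ R, a ∉ scalars (Ix m) F →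
      ∃ x ∈ R, x.val * x.val = -1 ∧ x.val * a.val = -(a.val * x.val) := by
    intro a ha has
    obtain ⟨x, hx, hax⟩ := hanti a ha has
    have hxa : x.val * a.val = -(a.val * x.val) := by rw [hax, neg_neg]
    rcases hq x hx with hx2 | hx2
    swap
    · exact ⟨x, hx, hx2, hxa⟩
    obtain ⟨z, hz, hza, w, hw, hwa, hzw⟩ : ∃ z ∈ R, z.val * a.val = a.val * z.val ∧ ∃ w ∈ R,
        w.val * a.val = a.val * w.val ∧ z.val * w.val = -(w.val * z.val) := by
      by_contra hne
      push Not at hne
      have hCab : ∀ z ∈ R, z.val * a.val = a.val * z.val → ∀ w ∈ R, w.val * a.val = a.val * w.val →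
          z.val * w.val = w.val * z.val := fun z hz hza w hw hwa => (hsc z hz w hw).resolve_right (hne z hz hza w hw hwa)
      have hcent : ∀ c ∈ R, c.val * a.val = a.val * c.val → c.val * x.val = x.val * c.val →
          c ∈ scalars (Ix m) F := fun c hc hca hcx => absIrr_center habs fun y hy => by
        refine Units.ext ?_
        rw [Units.val_mul, Units.val_mul]
        rcases hsc y hy a ha with h | h
        · exact hCab c hc hca y hy h
        · have hxy : (x * y).val * a.val = a.val * (x * y).val := by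
            rw [Units.val_mul, Matrix.mul_assoc, h, mul_neg, ← Matrix.mul_assoc, hxa, neg_mul, neg_neg,
              Matrix.mul_assoc]
          have h3 := hCab c hc hca (x * y) (mul_mem hx hy) hxy
          rw [Units.val_mul, ← Matrix.mul_assoc, hcx, Matrix.mul_assoc x.val y.val] at h3
          exact congrArg Units.val (mul_left_cancel (a := x)
            (Units.ext (by simpa only [Units.val_mul, Matrix.mul_assoc] using h3) : x * (c * y) = x * (y * c)))
      -- the quotient would then have at most four elements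
      have hcls : ∀ y : R, ∃ z : Z, (y : R) = z ∨ y = z * ⟨a, ha⟩ ∨ y = z * ⟨x, hx⟩ ∨ y = z * (⟨a, ha⟩ * ⟨x, hx⟩) := by
        intro y
        have hsplit : ∀ c : R, (c : GL (Ix m) F).val * a.val = a.val * (c : GL (Ix m) F).val →
            ∃ z : Z, c = z ∨ c = z * ⟨a, ha⟩ := fun c hca => by
          rcases hsc _ c.2 x hx with h | h
          · exact ⟨⟨c, (hZ c).2 (hpm _ c.2 (hcent _ c.2 hca h))⟩, Or.inl rfl⟩
          · let d : R := c * ⟨a, ha⟩⁻¹
            have hai : (a⁻¹).val * x.val = -(x.val * (a⁻¹).val) := by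
              rcases (show SignComm (a⁻¹).val x.val from (hsc a ha x hx).inv) with h' | h'
              · exfalso
                have h5 : Commute a x := Commute.inv_left_iff.1 (Units.ext h' : a⁻¹ * x = x * a⁻¹)
                have h5' : a.val * x.val = x.val * a.val := congrArg Units.val h5
                rw [hxa] at h5'
                have h6 : (2 : F) • (a.val * x.val) = 0 := by
                  rw [two_smul]; exact eq_neg_iff_add_eq_zero.1 h5'
                exact (a * x).ne_zero ((smul_eq_zero.1 h6).resolve_left h2)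
              · exact h'
            have hda : (d : GL (Ix m) F).val * a.val = a.val * (d : GL (Ix m) F).val := by
              show ((c : GL (Ix m) F) * a⁻¹).val * a.val = a.val * ((c : GL (Ix m) F) * a⁻¹).val
              have h9 : (c : GL (Ix m) F) * a = a * c := Units.ext hca
              rw [← Units.val_mul, ← Units.val_mul, ← mul_assoc a (c : GL (Ix m) F), ← h9, inv_mul_cancel_right,
                mul_inv_cancel_right]
            have hdx : (d : GL (Ix m) F).val * x.val = x.val * (d : GL (Ix m) F).val := by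
              show ((c : GL (Ix m) F) * a⁻¹).val * x.val = x.val * ((c : GL (Ix m) F) * a⁻¹).val
              rw [Units.val_mul, Matrix.mul_assoc, hai, mul_neg, ← Matrix.mul_assoc, h, neg_mul, neg_neg,
                Matrix.mul_assoc]
            refine ⟨⟨d, (hZ d).2 (hpm _ d.2 (hcent _ d.2 hda hdx))⟩, Or.inr ?_⟩
            simp [d]
        rcases hsc _ y.2 a ha with h | h
        · obtain ⟨z, h1 | h1⟩ := hsplit y h
          · exact ⟨z, Or.inl h1⟩
          · exact ⟨z, Or.inr (Or.inl h1)⟩
        · obtain ⟨z, h1 | h1⟩ := hsplit (y * ⟨x, hx⟩) (by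
            rw [Subgroup.coe_mul, Units.val_mul, Matrix.mul_assoc, hxa, mul_neg, ← Matrix.mul_assoc, h, neg_mul,
              neg_neg, Matrix.mul_assoc])
          all_goals
            have hxx : (⟨x, hx⟩ : R) * ⟨x, hx⟩ = 1 := Subtype.ext (Units.ext hx2)
            have h5 : y = y * ⟨x, hx⟩ * ⟨x, hx⟩ := by rw [mul_assoc, hxx, mul_one]
          · exact ⟨z, Or.inr (Or.inr (Or.inl (by rw [h5, h1])))⟩
          · exact ⟨z, Or.inr (Or.inr (Or.inr (by rw [h5, h1, mul_assoc])))⟩
      let f : Fin 4 → R ⧸ Z := fun i => QuotientGroup.mk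
        (![(1 : R), ⟨a, ha⟩, ⟨x, hx⟩, ⟨a, ha⟩ * ⟨x, hx⟩] i)
      have hf : Function.Surjective f := by
        intro q
        obtain ⟨y, rfl⟩ := QuotientGroup.mk_surjective q
        have hz1 : ∀ (z : Z) (b : R), (QuotientGroup.mk ((z : R) * b) : R ⧸ Z) = QuotientGroup.mk b := fun z b => by
          rw [QuotientGroup.mk_mul, (QuotientGroup.eq_one_iff _).2 z.2, one_mul]
        obtain ⟨z, h | h | h | h⟩ := hcls y
        · exact ⟨0, by
            show QuotientGroup.mk (1 : R) = _
            rw [h]; exact ((QuotientGroup.eq_one_iff _).2 z.2).symm⟩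
        · exact ⟨1, by rw [h, hz1]; rfl⟩
        · exact ⟨2, by rw [h, hz1]; rfl⟩
        · exact ⟨3, by rw [h, hz1]; rfl⟩
      have h6 := Fintype.card_le_of_surjective f hf
      rw [hcq, Fintype.card_fin] at h6
      have h7 : 2 ^ 2 ≤ 2 ^ k := Nat.pow_le_pow_right (by norm_num) hk
      nlinarith
    have hxz : (x * z).val * a.val = -(a.val * (x * z).val) := by
      rw [Units.val_mul, Matrix.mul_assoc, hza, ← Matrix.mul_assoc, hxa, neg_mul, Matrix.mul_assoc]
    have hxw : (x * w).val * a.val = -(a.val * (x * w).val) := by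
      rw [Units.val_mul, Matrix.mul_assoc, hwa, ← Matrix.mul_assoc, hxa, neg_mul, Matrix.mul_assoc]
    rcases hq _ (mul_mem hx hz) with h1 | h1
    swap
    · exact ⟨_, mul_mem hx hz, h1, hxz⟩
    rcases hq _ (mul_mem hx hw) with h3 | h3
    swap
    · exact ⟨_, mul_mem hx hw, h3, hxw⟩
    refine ⟨x * z * w, mul_mem (mul_mem hx hz) hw, ?_, ?_⟩
    · -- squares: the third product must have square minus one
      rw [Units.val_mul] at h1 h3
      simp only [Units.val_mul]
      have hzx : z.val * x.val * z.val = x.val := by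
        have := congrArg (x.val * ·) h1
        simp only [← Matrix.mul_assoc] at this
        rw [hx2, Matrix.one_mul, Matrix.mul_one] at this
        exact this
      have hwx : w.val * x.val * w.val = x.val := by
        have := congrArg (x.val * ·) h3
        simp only [← Matrix.mul_assoc] at this
        rw [hx2, Matrix.one_mul, Matrix.mul_one] at this
        exact this
      calc x.val * z.val * w.val * (x.val * z.val * w.val)
          = x.val * (z.val * (w.val * x.val) * (z.val * w.val)) := by simp only [Matrix.mul_assoc]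
        _ = x.val * (z.val * (w.val * x.val) * -(w.val * z.val)) := by rw [hzw]
        _ = -(x.val * (z.val * (w.val * x.val * w.val) * z.val)) := by
            simp only [Matrix.mul_assoc, mul_neg]
        _ = -(x.val * x.val) := by rw [hwx, hzx]
        _ = -1 := by rw [hx2]
    · rw [Units.val_mul, Matrix.mul_assoc, hwa, ← Matrix.mul_assoc, hxz, neg_mul, Matrix.mul_assoc]
  have hsymp : IsSymplecticTypeGroup 2 R := by
    refine ⟨Nat.prime_two, fun g => ⟨2, Subtype.ext (by simpa using hx4 _ g.2)⟩, fun A hA hAc => ?_, ?_⟩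
    · have hAZ : A ≤ Subgroup.center R := by
        intro a ha
        rw [hZ]
        refine hpm _ a.2 ?_
        by_contra has
        obtain ⟨x, hx, hx2, hxa⟩ := hkey _ a.2 has
        let u : GL (Ix m) F := ⟨1 + x.val, (2 : F)⁻¹ • (1 - x.val), by
          simp only [Matrix.mul_smul, Matrix.add_mul, Matrix.mul_sub, Matrix.one_mul, Matrix.mul_one, hx2]
          match_scalars <;> field_simp <;> ring, by
          simp only [Matrix.smul_mul, Matrix.sub_mul, Matrix.mul_add, Matrix.one_mul, Matrix.mul_one, hx2]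
          match_scalars <;> field_simp <;> ring⟩
        have hconj : ∀ y : GL (Ix m) F, y ∈ R → (x.val * y.val = y.val * x.val → u * y * u⁻¹ = y) ∧
            (x.val * y.val = -(y.val * x.val) → u * y * u⁻¹ = x * y) := fun y _ => by
          refine ⟨fun h => mul_inv_eq_iff_eq_mul.2 (Units.ext ?_), fun h => mul_inv_eq_iff_eq_mul.2 (Units.ext ?_)⟩
          · show (1 + x.val) * y.val = y.val * (1 + x.val)
            rw [Matrix.add_mul, Matrix.mul_add, Matrix.one_mul, Matrix.mul_one, h]
          · show (1 + x.val) * y.val = x.val * y.val * (1 + x.val)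
            rw [Matrix.add_mul, Matrix.mul_add, Matrix.one_mul, Matrix.mul_one, Matrix.mul_assoc x.val y.val x.val,
              show y.val * x.val = -(x.val * y.val) by rw [h, neg_neg], mul_neg, ← Matrix.mul_assoc, hx2, neg_mul,
              neg_neg, Matrix.one_mul, add_comm]
        have hmem : ∀ y : R, u * (y : GL (Ix m) F) * u⁻¹ ∈ R := fun y => by
          rcases hsc x hx _ y.2 with h | h
          · rw [(hconj _ y.2).1 h]; exact y.2
          · rw [(hconj _ y.2).2 h]; exact mul_mem hx y.2
        let φ : R →* R :=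
          { toFun := fun y => ⟨_, hmem y⟩
            map_one' := Subtype.ext (by simp)
            map_mul' := fun y z => Subtype.ext (by simp [mul_assoc]) }
        have hφi : Function.Injective φ := fun y z h => Subtype.ext (by simpa [φ] using congrArg Subtype.val h)
        let φe : R ≃* R := MulEquiv.ofBijective φ (Finite.injective_iff_bijective.1 hφi)
        have hfix := hA.fixed φe
        have h1 : φe a ∈ A := by
          have : a ∈ A.comap φe.toMonoidHom := by rw [hfix]; exact ha
          exact this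
        have h3 : ((φe a : R) : GL (Ix m) F) = x * a := (hconj _ a.2).2 hxa
        have h5 : ((⟨φe a, h1⟩ : A) * ⟨a, ha⟩) = ⟨a, ha⟩ * ⟨φe a, h1⟩ := hAc.is_comm.comm _ _
        have h7 : (x * a * a : GL (Ix m) F).val = ((a : GL (Ix m) F) * (x * a)).val := by
          rw [← h3]
          exact congrArg (fun w : A => ((w : R) : GL (Ix m) F).val) h5
        simp only [Units.val_mul, ← Matrix.mul_assoc] at h7
        rw [hxa, neg_mul] at h7
        have h8 : (2 : F) • ((a : GL (Ix m) F).val * x.val * (a : GL (Ix m) F).val) = 0 := by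
          rw [two_smul]; exact eq_neg_iff_add_eq_zero.1 h7.symm
        exact ((a : GL (Ix m) F) * x * a).ne_zero ((smul_eq_zero.1 h8).resolve_left h2)
      haveI : IsCyclic (Subgroup.center R) := by
        haveI : Fact (Nat.Prime 2) := ⟨Nat.prime_two⟩
        exact isCyclic_of_prime_card hcZ
      exact isCyclic_of_injective (Subgroup.inclusion hAZ) (Subgroup.inclusion_injective hAZ)
    · have hd : Monoid.exponent R ∣ 4 := Monoid.exponent_dvd_of_forall_pow_eq_one fun g => Subtype.ext (by
        simpa using hx4 _ g.2)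
      obtain ⟨x, hx, hx2, -⟩ := hkey x₀ hx₀ hx₀s
      have ho : orderOf (⟨x, hx⟩ : R) = 2 ^ (1 + 1) := by
        haveI : Fact (Nat.Prime 2) := ⟨Nat.prime_two⟩
        refine orderOf_eq_prime_pow (fun h => hne1 ?_) (Subtype.ext (by simpa using hx4 x hx))
        have h1 := congrArg (fun g : R => (g : GL (Ix m) F).val) h
        simp only [pow_one, pow_two, Subgroup.coe_mul, Units.val_mul, hx2] at h1
        simpa using h1
      have := Monoid.order_dvd_exponent (⟨x, hx⟩ : R)
      rw [ho] at this
      exact Nat.dvd_antisymm hd this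
  refine ⟨R, p, k, hsymp, habs, fun g hg => ⟨1, fun u v => by
      rw [Units.val_one, one_mul]; exact mem_spGL.1 (hRsp hg) u v⟩,
    ⟨hRsp, hx4, hsqs, hcs⟩, hp, hpodd, hcard, hcR, hcZ, minus_of_card hm h2 hRsp habs hcR hcZ hdim, hdim,
    fun g hg => ?_⟩
  have hmap : ∀ h ∈ H, ∀ y ∈ R, h * y * h⁻¹ ∈ R := by
    intro h hh y hy
    induction hy using Subgroup.closure_induction with
    | mem s hs => exact hnorm h hh s hs
    | one => simp
    | mul a b _ _ ha hb => simpa [mul_assoc] using mul_mem ha hb
    | inv a _ ha => simpa [mul_assoc] using inv_mem ha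
  rw [subgroupNormalizer, Subgroup.mem_normalizer_iff]
  refine fun y => ⟨hmap g hg y, fun hy => ?_⟩
  simpa [mul_assoc] using hmap g⁻¹ (inv_mem hg) _ hy

end Cfsg.Lib.Linear.AschSp
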