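import Cfsg.Agent.Lib.Linear.AschSp.Descent
import Cfsg.Agent.Lib.Linear.AschSp.Field

/-!
# Absolutely irreducible normal subgroups: invariant forms and subfields
-/

set_option autoImplicit false
set_option linter.unusedSectionVars false
set_option linter.style.haveILetI false

namespace Cfsg.Lib.Linear.AschSp

open Cfsg.Geo Cfsg.Lib.Linear Cfsg.Lib.Linear.Asch
open scoped Matrix MatrixGroups

variable {m : ℕ} {F : Type*} [Field F] {H G : Subgroup (GL (Ix m) F)}

theorem card_ix : Fintype.card (Ix m) = 2 * m := by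
  rw [Fintype.card_sum, Fintype.card_fin, two_mul]

theorem gram_fix (hG : G ≤ Cfsg.spGL m F) : ∀ s ∈ matrixSet G,
    sᵀ * gramMatrix (Cfsg.sympForm m F) * s = gramMatrix (Cfsg.sympForm m F) := by
  intro s hs
  have h := fixes_gram sp_sesq (fixesForm hG) s hs
  rwa [show s.map (RingEquiv.refl F) = s from Matrix.map_id s] at h

/-- An absolutely irreducible group of isometries fixes no bilinear form but the multiples of the
standard one. -/
theorem form_unique (hirr : ActsAbsolutelyIrreducibly (matrixSet G)) (hG : G ≤ Cfsg.spGL m F)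
    {M : Matrix (Ix m) (Ix m) F} (hM : ∀ x ∈ G, x.valᵀ * M * x.val = M) :
    ∃ c : F, M = c • gramMatrix (Cfsg.sympForm m F) := by
  set J := gramMatrix (Cfsg.sympForm m F) with hJ
  have hJu : IsUnit J.det := isUnit_det_gram sp_sesq
  obtain ⟨c, hc⟩ := hirr.2 (J⁻¹ * M) (by
    rintro _ ⟨x, hx, rfl⟩
    have hxt : IsUnit x.valᵀ.det := by
      rw [Matrix.det_transpose]; exact x.isUnit.map Matrix.detMonoidHom
    have h1 : ∀ N : Matrix (Ix m) (Ix m) F, x.valᵀ * N * x.val = N → N * x.val = (x.valᵀ)⁻¹ * N := by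
      intro N hN
      conv_rhs => rw [← hN]
      simp only [← Matrix.mul_assoc, Matrix.nonsing_inv_mul _ hxt, Matrix.one_mul]
    have hJx := h1 J (gram_fix hG _ (mem_matrixSet hx))
    have h2 : J⁻¹ * (x.valᵀ)⁻¹ = x.val * J⁻¹ := by
      calc J⁻¹ * (x.valᵀ)⁻¹ = J⁻¹ * ((x.valᵀ)⁻¹ * J) * J⁻¹ := by
            rw [Matrix.mul_assoc, Matrix.mul_assoc, Matrix.mul_nonsing_inv _ hJu, Matrix.mul_one]
        _ = J⁻¹ * (J * x.val) * J⁻¹ := by rw [hJx]
        _ = x.val * J⁻¹ := by rw [← Matrix.mul_assoc J⁻¹, Matrix.nonsing_inv_mul _ hJu, Matrix.one_mul]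
    show J⁻¹ * M * x.val = x.val * (J⁻¹ * M)
    rw [Matrix.mul_assoc, h1 M (hM x hx), ← Matrix.mul_assoc, h2, Matrix.mul_assoc])
  refine ⟨c, ?_⟩
  have h3 := congrArg (J * ·) hc
  simpa [← Matrix.mul_assoc, Matrix.mul_nonsing_inv _ hJu] using h3

/-- A normaliser of a group realised over a proper subfield lies in a subfield group whose rational
structure carries a multiple of the form. -/
theorem subfield_cases [Fintype F] (hm : 0 < m) (hG : G ≤ Cfsg.spGL m F)
    (hirr : ActsAbsolutelyIrreducibly (matrixSet G)) (hn : ∀ h ∈ H, ∀ x ∈ G, h * x * h⁻¹ ∈ G)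
    {F₀ : Subfield F} (hF₀ : F₀ ≠ ⊤) (hreal : RealisableOver F₀ (matrixSet G)) :
    ∃ (F₁ : Subfield F) (r : ℕ) (P : GL (Ix m) F) (ζ : F), F₁ ≠ ⊤ ∧ r.Prime ∧
      Fintype.card F = Nat.card F₁ ^ r ∧ ζ ≠ 0 ∧ IsFormRationalStructure (Cfsg.sympForm m F) F₁ ζ P ∧
      H ≤ subfieldSubgroup F₁ P := by
  classical
  haveI : Nonempty (Ix m) := ⟨Sum.inl ⟨0, hm⟩⟩
  obtain ⟨B, hB⟩ := hreal
  obtain ⟨F₁, r, hle, hne, hr, hcard⟩ := exists_prime_index hF₀
  set J := gramMatrix (Cfsg.sympForm m F) with hJ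
  set G' := B⁻¹.valᵀ * J * B⁻¹.val with hG'
  obtain ⟨i0, j0, he⟩ : ∃ i j, G' i j ≠ 0 := by
    by_contra hne'
    push Not at hne'
    have h0 : G' = 0 := Matrix.ext fun i j => hne' i j
    have h1 := congrArg (fun z => B.valᵀ * z * B.val) h0
    simp only [hG', ← Matrix.mul_assoc, ← Matrix.transpose_mul, ← Units.val_mul, inv_mul_cancel, Units.val_one,
      Matrix.transpose_one, Matrix.one_mul, Matrix.mul_zero, Matrix.zero_mul] at h1
    rw [Matrix.mul_assoc, ← Units.val_mul, inv_mul_cancel, Units.val_one, Matrix.mul_one] at h1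
    exact (isUnit_det_gram (sp_sesq (m := m) (F := F))).ne_zero (by
      rw [← hJ, h1]; exact Matrix.det_zero)
  obtain ⟨φ, hφ⟩ := LinearMap.exists_leftInverse_of_injective (LinearMap.toSpanSingleton F₀ F (1 : F))
    (LinearMap.ker_eq_bot.2 (smul_left_injective F₀ one_ne_zero))
  have hφ1 : φ 1 = 1 := by simpa using LinearMap.congr_fun hφ 1
  have hφl : ∀ (c : F₀) (a : F), φ ((c : F) * a) = c * φ a := fun c a => by
    rw [show (c : F) * a = c • a from rfl, map_smul, smul_eq_mul]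
  let G1 : Matrix (Ix m) (Ix m) F := fun i j => ((φ ((G' i0 j0)⁻¹ * G' i j) : F₀) : F)
  have hG1 : ∀ x ∈ G, (B.val * x.val * B⁻¹.val)ᵀ * G1 * (B.val * x.val * B⁻¹.val) = G1 := by
    intro x hx
    have hBv : B.val * x.val * B⁻¹.val = (B * x * B⁻¹).val := rfl
    have hfix : (B * x * B⁻¹).valᵀ * G' * (B * x * B⁻¹).val = G' := by
      have hcancel : B⁻¹.val * (B * x * B⁻¹).val = x.val * B⁻¹.val := by
        rw [← Units.val_mul, ← Units.val_mul]; congr 1; group
      rw [hG', show (B * x * B⁻¹).valᵀ * (B⁻¹.valᵀ * J * B⁻¹.val) * (B * x * B⁻¹).val =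
        (B⁻¹.val * (B * x * B⁻¹).val)ᵀ * J * (B⁻¹.val * (B * x * B⁻¹).val) by
          rw [Matrix.transpose_mul]; simp only [Matrix.mul_assoc], hcancel, Matrix.transpose_mul]
      have hx0 : x.valᵀ * J * x.val = J := gram_fix hG _ (mem_matrixSet hx)
      conv_rhs => rw [← hx0]
      simp only [Matrix.mul_assoc]
    rw [hBv]
    refine Matrix.ext fun i j => ?_
    have h1 := congrArg (fun a : F => ((φ ((G' i0 j0)⁻¹ * a) : F₀) : F)) (congrFun (congrFun hfix i) j)
    refine Eq.trans ?_ h1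
    simp only [Matrix.mul_apply, Finset.sum_mul, Finset.mul_sum, map_sum, AddSubmonoidClass.coe_finsetSum,
      Matrix.transpose_apply]
    refine Finset.sum_congr rfl fun b _ => Finset.sum_congr rfl fun a _ => ?_
    have hr1 : ∀ k l, (B * x * B⁻¹).val k l ∈ F₀ := fun k l => hB _ (mem_matrixSet hx) k l
    rw [show (G' i0 j0)⁻¹ * ((B * x * B⁻¹).val a i * G' a b * (B * x * B⁻¹).val b j) =
      ((⟨_, mul_mem (hr1 a i) (hr1 b j)⟩ : F₀) : F) * ((G' i0 j0)⁻¹ * G' a b) by simp only; ring, hφl,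
      Subfield.coe_mul]
    simp only [G1]
    ring
  obtain ⟨c, hc⟩ := form_unique hirr hG (M := B.valᵀ * G1 * B.val) (fun x hx => by
    conv_rhs => rw [← hG1 x hx]
    simp only [Matrix.transpose_mul, ← Matrix.mul_assoc, ← Units.val_mul]
    simp only [← Matrix.transpose_mul, ← Units.val_mul, Matrix.mul_assoc, inv_mul_cancel, mul_one, Units.val_one,
      Matrix.mul_one, inv_mul_cancel_right])
  have hG1' : G1 = c • G' := by
    have h1 := congrArg (fun z => B⁻¹.valᵀ * z * B⁻¹.val) hc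
    simp only [Matrix.mul_smul, Matrix.smul_mul, ← Matrix.mul_assoc, ← Matrix.transpose_mul, ← Units.val_mul,
      mul_inv_cancel, Units.val_one, Matrix.transpose_one, Matrix.one_mul] at h1
    rw [Matrix.mul_assoc, ← Units.val_mul, mul_inv_cancel, Units.val_one, Matrix.mul_one] at h1
    exact h1
  have hc0 : c ≠ 0 := by
    rintro rfl
    have h1 := congrFun (congrFun hG1' i0) j0
    simp [G1, inv_mul_cancel₀ he, hφ1] at h1
  refine ⟨F₁, r, B⁻¹, c, hne, hr, hcard, hc0, fun u v hu hv => ?_, fun h hh => ?_⟩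
  · have h1 : c * Cfsg.sympForm m F (B⁻¹.val *ᵥ u) (B⁻¹.val *ᵥ v) = u ⬝ᵥ G1 *ᵥ v := by
      rw [hG1', Matrix.smul_mulVec, dotProduct_smul, smul_eq_mul, sesq_gram sp_sesq,
        show (⇑(RingEquiv.refl F) ∘ (B⁻¹.val *ᵥ v)) = B⁻¹.val *ᵥ v from rfl, hG', ← hJ,
        ← Matrix.mulVec_mulVec, ← Matrix.mulVec_mulVec, Matrix.dotProduct_mulVec u, Matrix.vecMul_transpose]
    rw [h1]
    refine sum_mem fun i _ => mul_mem (hu i) ?_
    show ∑ j, G1 i j * v j ∈ F₁
    exact sum_mem fun j _ => mul_mem (hle (φ _).2) (hv j)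
  · rw [mem_subfieldSubgroup_iff, inv_inv]
    exact ratG_mono hle (rat_normalizer hirr F₀ B (fun x hx => hB _ (mem_matrixSet hx)) (hn h hh))

/-- An isometry normalising an irreducible group of isometries of a quadratic form polarising to the
standard form fixes the quadratic form. -/
theorem quad_fix [Fintype F] (hm : 0 < m) (h2 : (2 : F) = 0) (hirr : ActsIrreducibly (matrixSet G))
    {Q : (Ix m → F) → F} (hQ : ∀ (c : F) (v : Ix m → F), Q (c • v) = c ^ 2 * Q v)
    (hpol : ∀ u v, QuadraticMap.polar Q u v = Cfsg.sympForm m F u v)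
    (hfix : FixesQuadForm (matrixSet G) Q) {h : GL (Ix m) F} (hh : h ∈ Cfsg.spGL m F)
    (hn : ∀ x ∈ G, h * x * h⁻¹ ∈ G) (v : Ix m → F) : Q (h.val *ᵥ v) = Q v := by
  classical
  have hadd : ∀ u v, Q (u + v) = Q u + Q v + Cfsg.sympForm m F u v := fun u v => by
    rw [← hpol, QuadraticMap.polar]; ring
  let d : (Ix m → F) → F := fun v => Q (h.val *ᵥ v) - Q v
  have hd : ∀ u v, d (u + v) = d u + d v := fun u v => by
    simp only [d, Matrix.mulVec_add, hadd, mem_spGL.1 hh]; ring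
  have hQ0 : Q 0 = 0 := by simpa using hQ 0 0
  let R : Submodule F (Ix m → F) :=
    { carrier := {v | d v = 0}
      add_mem' := fun {a b} ha hb => by
        show d (a + b) = 0
        rw [hd, show d a = 0 from ha, show d b = 0 from hb, add_zero]
      zero_mem' := by simp [d]
      smul_mem' := fun c v hv => by
        show d (c • v) = 0
        simp only [d, Matrix.mulVec_smul, hQ]
        rw [← mul_sub, show Q (h.val *ᵥ v) - Q v = 0 from hv, mul_zero] }
  have hR : InvSub G R := fun g hg w hw => by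
    show Q (h.val *ᵥ (g.val *ᵥ w)) - Q (g.val *ᵥ w) = 0
    rw [← mul_mulVec, show h * g = h * g * h⁻¹ * h by group, mul_mulVec,
      hfix _ (mem_matrixSet (hn g hg)), hfix _ (mem_matrixSet hg)]
    exact hw
  rcases irr_iff.1 hirr R hR with hR0 | hR0
  · exfalso
    have hinj : Function.Injective d := fun u v huv => by
      have h0 : u + v ∈ R := by
        show d (u + v) = 0
        rw [hd, huv]; linear_combination (d v) * h2
      rw [hR0, Submodule.mem_bot] at h0
      funext i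
      have h3 := congrFun h0 i
      simp only [Pi.add_apply, Pi.zero_apply] at h3
      linear_combination h3 - (v i) * h2
    have h1 := Nat.card_le_card_of_injective d hinj
    rw [Nat.card_fun, Nat.card_eq_fintype_card (α := Ix m), card_ix] at h1
    have h3 := (Nat.pow_le_pow_iff_right (m := 1) (n := 2 * m) (a := Nat.card F)
      (by rw [Nat.card_eq_fintype_card]; exact Fintype.one_lt_card)).1 (by rwa [pow_one])
    omega
  · exact sub_eq_zero.1 (show v ∈ R from hR0 ▸ Submodule.mem_top)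

/-- The alternatives for an absolutely irreducible normal subgroup. -/
theorem simple_cases [Fintype F] (hm : 0 < m) (hH : H ≤ Cfsg.spGL m F) (hle : G ≤ H)
    (hn : ∀ h ∈ H, ∀ x ∈ G, h * x * h⁻¹ ∈ G) (hirr : ActsAbsolutelyIrreducibly (matrixSet G)) :
    (∃ (F₁ : Subfield F) (r : ℕ) (P : GL (Ix m) F) (ζ : F), F₁ ≠ ⊤ ∧ r.Prime ∧
      Fintype.card F = Nat.card F₁ ^ r ∧ ζ ≠ 0 ∧ IsFormRationalStructure (Cfsg.sympForm m F) F₁ ζ P ∧
      H ≤ subfieldSubgroup F₁ P) ∨
    (¬ Odd (Fintype.card F) ∧ ∃ Q : (Ix m → F) → F, IsNondegenerateQuadraticForm Q ∧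
      (∀ u v, QuadraticMap.polar Q u v = Cfsg.sympForm m F u v) ∧ H ≤ quadSimilarityGroup Q) ∨
    ((∀ F₀ : Subfield F, F₀ ≠ ⊤ → ¬ RealisableOver F₀ (matrixSet G)) ∧
      (¬ ∃ Q : (Ix m → F) → F, IsNondegenerateQuadraticForm Q ∧ FixesQuadForm (matrixSet G) Q) ∧
      (¬ ∃ (σ : F ≃+* F) (f : (Ix m → F) → (Ix m → F) → F), IsUnitaryForm σ f ∧ FixesForm (matrixSet G) f)) := by
  classical
  haveI : Nonempty (Ix m) := ⟨Sum.inl ⟨0, hm⟩⟩
  have hG : G ≤ Cfsg.spGL m F := hle.trans hH
  by_cases hreal : ∃ F₀ : Subfield F, F₀ ≠ ⊤ ∧ RealisableOver F₀ (matrixSet G)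
  · obtain ⟨F₀, h0, h1⟩ := hreal
    exact Or.inl (subfield_cases hm hG hirr hn h0 h1)
  push Not at hreal
  right
  by_cases hquad : ∃ Q : (Ix m → F) → F, IsNondegenerateQuadraticForm Q ∧ FixesQuadForm (matrixSet G) Q
  · left
    obtain ⟨Q, hQ, hQfix⟩ := hquad
    have hs := isSesq_of_bilinear hQ.polar_bilinear hQ.nondegenerate
    obtain ⟨c, hc⟩ := form_unique hirr hG (M := gramMatrix (QuadraticMap.polar Q)) (fun x hx => by
      have h1 := fixes_gram hs (fixesForm_polar hQfix) _ (mem_matrixSet hx)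
      rwa [show x.val.map (RingEquiv.refl F) = x.val from Matrix.map_id _] at h1)
    have hpol : ∀ u v, QuadraticMap.polar Q u v = c * Cfsg.sympForm m F u v := fun u v => by
      rw [sesq_gram hs, hc, Matrix.smul_mulVec, dotProduct_smul, smul_eq_mul, ← sesq_gram sp_sesq]
    have hc0 : c ≠ 0 := by
      rintro rfl
      obtain ⟨x, hx⟩ := (hQ.nondegenerate (Pi.single (Sum.inl ⟨0, hm⟩) 1) (by simp)).1
      exact hx (by rw [hpol, zero_mul])
    have h2 : (2 : F) = 0 := by
      by_contra h2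
      have hQ0 : ∀ v, Q v = 0 := fun v => by
        have h1 : QuadraticMap.polar Q v v = 2 * Q v := by
          rw [QuadraticMap.polar, ← two_smul F v, hQ.smul]; ring
        rw [hpol, sp_alt, mul_zero] at h1
        exact (mul_eq_zero.1 h1.symm).resolve_left h2
      obtain ⟨x, hx⟩ := (hQ.nondegenerate (Pi.single (Sum.inl ⟨0, hm⟩) 1) (by simp)).1
      exact hx (by simp [QuadraticMap.polar, hQ0])
    let Q' : (Ix m → F) → F := fun v => c⁻¹ * Q v
    have hpol' : ∀ u v, QuadraticMap.polar Q' u v = Cfsg.sympForm m F u v := fun u v => by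
      rw [show QuadraticMap.polar Q' u v = c⁻¹ * QuadraticMap.polar Q u v by
        simp only [QuadraticMap.polar, Q']; ring, hpol, ← mul_assoc, inv_mul_cancel₀ hc0, one_mul]
    have hsm : ∀ (d : F) (v : Ix m → F), Q' (d • v) = d ^ 2 * Q' v := fun d v => by
      simp only [Q', hQ.smul]; ring
    refine ⟨not_odd_of_two_zero h2, Q', ⟨hsm, ?_, ?_⟩, hpol', fun g hg => ⟨1, fun v => ?_⟩⟩
    · rw [show QuadraticMap.polar Q' = Cfsg.sympForm m F from funext fun u => funext (hpol' u)]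
      exact sp_bilinear
    · rw [show QuadraticMap.polar Q' = Cfsg.sympForm m F from funext fun u => funext (hpol' u)]
      exact sp_nondeg
    · rw [Units.val_one, one_mul]
      exact quad_fix hm h2 hirr.1 hsm hpol' (fun s hs v => by simp only [Q', hQfix s hs]) (hH hg) (hn g hg) v
  right
  refine ⟨hreal, hquad, ?_⟩
  rintro ⟨σ, f, hf, hfix⟩
  have hs := isSesq_of_unitary hf
  let F₀ : Subfield F := RingHom.eqLocusField (σ : F →+* F) (RingHom.id F)
  refine hreal F₀ ?_ (realisable_of_trace hirr F₀ fun x hx => ?_)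
  · intro htop
    refine hf.ne_refl (RingEquiv.ext fun a => ?_)
    have : a ∈ F₀ := htop ▸ trivial
    exact this
  · set J := gramMatrix (Cfsg.sympForm m F) with hJ
    set M := gramMatrix f with hM
    have hJu : IsUnit J.det := isUnit_det_gram sp_sesq
    have hMu : IsUnit M.det := isUnit_det_gram hs
    have h1 : x.valᵀ * M * x.val.map σ = M := fixes_gram hs hfix _ (mem_matrixSet hx)
    have h2 : x.valᵀ * J * x.val = J := gram_fix hG _ (mem_matrixSet hx)
    have hxt : IsUnit x.valᵀ.det := by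
      rw [Matrix.det_transpose]; exact x.isUnit.map Matrix.detMonoidHom
    have h3 : ∀ N X : Matrix (Ix m) (Ix m) F, IsUnit N.det → x.valᵀ * N * X = N →
        X = N⁻¹ * (x.valᵀ)⁻¹ * N := by
      intro N X hN hX
      conv_rhs => arg 2; rw [← hX]
      simp only [← Matrix.mul_assoc, Matrix.nonsing_inv_mul _ hxt, Matrix.mul_assoc N⁻¹ (x.valᵀ)⁻¹,
        Matrix.mul_one, Matrix.nonsing_inv_mul _ hN, Matrix.one_mul]
    have h4 : ∀ N X : Matrix (Ix m) (Ix m) F, IsUnit N.det → x.valᵀ * N * X = N →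
        X.trace = ((x.valᵀ)⁻¹).trace := by
      intro N X hN hX
      rw [h3 N X hN hX, Matrix.trace_mul_cycle, Matrix.mul_nonsing_inv _ hN, Matrix.one_mul]
    show σ x.val.trace = x.val.trace
    rw [show σ x.val.trace = (x.val.map σ).trace by simp [Matrix.trace, map_sum], h4 M _ hMu h1]
    exact (h4 J _ hJu h2).symm

end Cfsg.Lib.Linear.AschSp
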