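import Cfsg.Agent.Lib.Linear.AschSp.General
import Cfsg.Agent.Lib.Linear.Tensor.Cases
import Cfsg.Agent.Lib.Linear.Tensor.SympTwo

/-!
# Structures absorbed over small fields
-/

set_option autoImplicit false
set_option linter.unusedSectionVars false
set_option linter.style.haveILetI false

namespace Cfsg.Lib.Linear.AschSp

open Cfsg.Geo Cfsg.Lib.Linear Cfsg.Lib.Linear.Asch
open scoped Matrix MatrixGroups Kronecker

variable {m : ℕ} {F : Type*} [Field F] {H : Subgroup (GL (Ix m) F)}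

theorem sp_sum_right {κ : Type*} (s : Finset κ) (u : Ix m → F) (x : κ → Ix m → F) :
    Cfsg.sympForm m F u (∑ i ∈ s, x i) = ∑ i ∈ s, Cfsg.sympForm m F u (x i) := by
  simp only [Cfsg.sympForm, Matrix.mulVec_sum, dotProduct_sum]

theorem sp_sum_left {κ : Type*} (s : Finset κ) (u : Ix m → F) (x : κ → Ix m → F) :
    Cfsg.sympForm m F (∑ i ∈ s, x i) u = ∑ i ∈ s, Cfsg.sympForm m F (x i) u := by
  simp only [Cfsg.sympForm, sum_dotProduct]

/-- Coordinates along the members of a decomposition. -/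
theorem decomp_coords {t k : ℕ} {D : Fin t → Submodule F (Ix m → F)} (hD : IsMDecomposition k D) :
    ∃ L : (Π i, D i) ≃ₗ[F] (Ix m → F), ∀ x, L x = ∑ i, (x i : Ix m → F) := by
  classical
  let L : (Π i, D i) →ₗ[F] (Ix m → F) := ∑ i, (D i).subtype ∘ₗ LinearMap.proj i
  have hL : ∀ x, L x = ∑ i, (x i : Ix m → F) := fun x => by simp [L]
  have hinj : Function.Injective L := by
    rw [injective_iff_map_eq_zero]
    intro x hx
    funext i
    refine Subtype.ext ?_
    rw [hL] at hx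
    have h1 : (x i : Ix m → F) ∈ (⨆ j, ⨆ (_ : j ≠ i), D j) := by
      have h2 : (x i : Ix m → F) = -∑ j ∈ Finset.univ.erase i, (x j : Ix m → F) := by
        rw [eq_neg_iff_add_eq_zero]
        rwa [← Finset.add_sum_erase _ _ (Finset.mem_univ i)] at hx
      rw [h2]
      refine neg_mem (Submodule.sum_mem _ fun j hj => ?_)
      exact Submodule.mem_iSup_of_mem j (Submodule.mem_iSup_of_mem (Finset.ne_of_mem_erase hj) (x j).2)
    exact (Submodule.mem_bot F).1 (((iSupIndep_def.1 hD.indep) i).le_bot ⟨(x i).2, h1⟩)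
  have hsurj : Function.Surjective L := by
    rw [← LinearMap.range_eq_top, eq_top_iff, ← hD.iSup_eq_top]
    refine iSup_le fun i v hv => ⟨Pi.single i ⟨v, hv⟩, ?_⟩
    rw [hL, Finset.sum_eq_single i (fun j _ hj => by simp [Pi.single_eq_of_ne hj])
      (fun h => absurd (Finset.mem_univ i) h), Pi.single_eq_same]
  exact ⟨LinearEquiv.ofBijective L ⟨hinj, hsurj⟩, hL⟩

theorem decompStab_map {t : ℕ} {D : Fin t → Submodule F (Ix m → F)} {g : GL (Ix m) F}
    (hg : g ∈ decompositionStabilizer D) (i : Fin t) : ∃ j, ∀ v ∈ D i, g.val *ᵥ v ∈ D j := by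
  obtain ⟨σ, hσ⟩ := hg
  exact ⟨σ i, fun v hv => hσ i ▸ ⟨v, hv, Matrix.toLin'_apply _ _⟩⟩

/-- Over the field of two elements a decomposition into non-degenerate planes carries a quadratic form. -/
theorem two_planes_quad [Fintype F] (hq : Fintype.card F = 2) (hH : H ≤ Cfsg.spGL m F) {t : ℕ}
    {D : Fin t → Submodule F (Ix m → F)} (hD : IsNondegenerateMDecomposition (Cfsg.sympForm m F) 2 D)
    (hle : H ≤ decompositionStabilizer D) :
    ¬ Odd (Fintype.card F) ∧ ∃ Q : (Ix m → F) → F, IsNondegenerateQuadraticForm Q ∧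
      (∀ u v, QuadraticMap.polar Q u v = Cfsg.sympForm m F u v) ∧ H ≤ quadSimilarityGroup Q := by
  classical
  have h2 : (2 : F) = 0 := two_zero_of_not_odd (by rw [hq]; decide)
  have h01 : ∀ x : F, x ≠ 0 → x = 1 := fun x hx => (TensorFrame.zero_or_one hq x).resolve_left hx
  obtain ⟨L, hL⟩ := decomp_coords hD.decomp
  let χ : ∀ i, D i → F := fun i x => if x = 0 then 0 else 1
  have hχ : ∀ i (a b : D i), χ i (a + b) - χ i a - χ i b = Cfsg.sympForm m F a b := by
    intro i a b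
    by_cases ha : a = 0
    · simp [χ, ha, Cfsg.sympForm]
    by_cases hb : b = 0
    · simp [χ, hb, Cfsg.sympForm]
    by_cases hab : a = b
    · subst hab
      have h0 : a + a = 0 := by
        rw [← two_smul F a, h2, zero_smul]
      simp [χ, ha, h0, sp_alt]
      linear_combination -h2
    have hab0 : a + b ≠ 0 := fun h0 => hab (by
      have h3 : a + a = 0 := by rw [← two_smul F a, h2, zero_smul]
      exact add_left_cancel (h3.trans h0.symm))
    have hf : Cfsg.sympForm m F a b = 1 := by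
      refine h01 _ fun h0 => ?_
      have hli : LinearIndependent F ![a, b] := (LinearIndependent.pair_iff' ha).2 fun c hc => by
        rcases TensorFrame.zero_or_one hq c with h | h
        · exact hb (by rw [← hc, h, zero_smul])
        · exact hab (by rw [← hc, h, one_smul])
      have htop := hli.span_eq_top_of_card_eq_finrank' (by rw [Fintype.card_fin, hD.decomp.finrank_eq i])
      obtain ⟨-, x, hx, hax⟩ := hD.nondegenerate i (a : Ix m → F) a.2 (fun h => ha (Subtype.ext h))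
      have hxs : (⟨x, hx⟩ : D i) ∈ Submodule.span F (Set.range ![a, b]) := htop ▸ Submodule.mem_top
      rw [Matrix.range_cons_cons_empty, Submodule.mem_span_pair] at hxs
      obtain ⟨c, d, hcd⟩ := hxs
      apply hax
      have h3 : x = c • (a : Ix m → F) + d • (b : Ix m → F) := (congrArg Subtype.val hcd).symm
      rw [h3, sp_bilinear.add_right, sp_bilinear.smul_right, sp_bilinear.smul_right, sp_alt, h0]
      ring
    simp [χ, ha, hb, hab0, hf]
    linear_combination -h2
  let Q : (Ix m → F) → F := fun v => ∑ i, χ i (L.symm v i)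
  have hχsmul : ∀ i (c : F) (a : D i), χ i (c • a) = c ^ 2 * χ i a := fun i c a => by
    rcases TensorFrame.zero_or_one hq c with h | h <;> simp [χ, h]
  refine quad_span h2 hH (Q := Q) (fun c v => ?_) (fun u v => ?_) (S := ⋃ i, ((D i : Set (Ix m → F)) \ {0})) ?_ ?_
  · simp only [Q, map_smul, Pi.smul_apply, hχsmul, Finset.mul_sum]
  · have hsum : QuadraticMap.polar Q u v = ∑ i, Cfsg.sympForm m F (L.symm u i : Ix m → F) (L.symm v i) := by
      simp only [QuadraticMap.polar, Q, map_add, Pi.add_apply, ← Finset.sum_sub_distrib, hχ]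
    rw [hsum]
    conv_rhs => rw [← L.apply_symm_apply u, ← L.apply_symm_apply v, hL, hL, sp_sum_left]
    refine Finset.sum_congr rfl fun i _ => ?_
    rw [sp_sum_right, Finset.sum_eq_single i (fun j _ hj => hD.orthogonal i j (Ne.symm hj) _ (L.symm u i).2 _ (L.symm v j).2)
      (fun h => absurd (Finset.mem_univ i) h)]
  · rw [eq_top_iff, ← hD.decomp.iSup_eq_top]
    refine iSup_le fun i v hv => ?_
    by_cases h0 : v = 0
    · rw [h0]; exact zero_mem _
    · exact Submodule.subset_span (Set.mem_iUnion.2 ⟨i, hv, h0⟩)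
  · have hone : ∀ i v, v ∈ D i → v ≠ 0 → Q v = 1 := fun i v hv h0 => by
      have h1 : L.symm v = Pi.single i ⟨v, hv⟩ := by
        rw [LinearEquiv.symm_apply_eq, hL, Finset.sum_eq_single i (fun j _ hj => by simp [Pi.single_eq_of_ne hj])
          (fun h => absurd (Finset.mem_univ i) h), Pi.single_eq_same]
      simp only [Q, h1]
      rw [Finset.sum_eq_single i (fun j _ hj => by simp [χ, Pi.single_eq_of_ne hj])
        (fun h => absurd (Finset.mem_univ i) h), Pi.single_eq_same]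
      have : (⟨v, hv⟩ : D i) ≠ 0 := fun h => h0 (congrArg Subtype.val h)
      simp [χ, this]
    intro g hg s hs
    obtain ⟨i, hs', hs0⟩ := Set.mem_iUnion.1 hs
    obtain ⟨j, hj⟩ := decompStab_map (hle hg) i
    rw [hone i s hs' hs0, hone j _ (hj s hs') fun h => hs0 (by
      rw [← inv_mulVec_mulVec g s, h, Matrix.mulVec_zero]; rfl)]

/-- Over the field of three elements a pair of totally singular planes of `Sp4` refines to a pair of
perpendicular planes. -/
theorem pair_three [Fintype F] (hq : Fintype.card F = 3) {H : Subgroup (GL (Ix 2) F)} (hH : H ≤ Cfsg.spGL 2 F)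
    (hirr : ActsIrreducibly (matrixSet H)) {D : Fin 2 → Submodule F (Ix 2 → F)} (hD : IsMDecomposition 2 D)
    (hts : ∀ i, IsTotallySingularFor (Cfsg.sympForm 2 F) (D i)) (hle : H ≤ decompositionStabilizer D) :
    ∃ D' : Fin 2 → Submodule F (Ix 2 → F), IsNondegenerateMDecomposition (Cfsg.sympForm 2 F) 2 D' ∧
      H ≤ decompositionStabilizer D' := by
  classical
  set f := Cfsg.sympForm 2 F with hf
  have h2 : (2 : F) ≠ 0 := TensorFrame.two_ne hq
  have hc : IsCompl (D 0) (D 1) := ⟨hD.indep.pairwiseDisjoint (by decide), codisjoint_iff.2 (by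
    rw [eq_top_iff, ← hD.iSup_eq_top]
    refine iSup_le fun i => ?_
    fin_cases i
    · exact le_sup_left
    · exact le_sup_right)⟩
  let b := Module.finBasisOfFinrankEq F (D 0) (hD.finrank_eq 0)
  -- the pairing of the two members
  let π : D 1 →ₗ[F] (D 0 →ₗ[F] F) :=
    LinearMap.mk₂ F (fun x u => f (x : Ix 2 → F) u) (fun _ _ _ => sp_bilinear.add_left _ _ _)
      (fun _ _ _ => sp_bilinear.smul_left _ _ _) (fun _ _ _ => sp_bilinear.add_right _ _ _)
      (fun _ _ _ => sp_bilinear.smul_right _ _ _)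
  have hπi : Function.Injective π := by
    rw [injective_iff_map_eq_zero]
    intro x hx
    by_contra hne
    obtain ⟨y, hy⟩ := (sp_nondeg (x : Ix 2 → F) fun h => hne (Subtype.ext h)).2
    apply hy
    obtain ⟨a, ha, c, hc', rfl⟩ := Submodule.mem_sup.1 (hc.sup_eq_top ▸ Submodule.mem_top (x := y))
    rw [sp_bilinear.add_right, show Cfsg.sympForm 2 F (x : Ix 2 → F) c = 0 from hts 1 _ x.2 c hc', add_zero]
    exact LinearMap.congr_fun hx ⟨a, ha⟩
  let e : D 1 ≃ₗ[F] (D 0 →ₗ[F] F) := LinearMap.linearEquivOfInjective π hπi (by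
    rw [hD.finrank_eq 1, Module.finrank_linearMap, hD.finrank_eq 0, Module.finrank_self])
  let β : D 0 →ₗ[F] (D 0 →ₗ[F] F) :=
    LinearMap.mk₂ F (fun u v => b.repr u 0 * b.repr v 1 - b.repr u 1 * b.repr v 0)
      (fun _ _ _ => by simp; ring) (fun _ _ _ => by simp; ring) (fun _ _ _ => by simp; ring)
      (fun _ _ _ => by simp; ring)
  let φ : D 0 →ₗ[F] D 1 := e.symm.toLinearMap ∘ₗ β
  have hφ : ∀ u v : D 0, f (φ u : Ix 2 → F) v = β u v := fun u v => by
    have h1 : π (φ u) = β u := e.apply_symm_apply (β u)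
    exact LinearMap.congr_fun h1 v
  have hφi : Function.Injective φ := by
    rw [injective_iff_map_eq_zero]
    intro u hu
    have h1 : ∀ v : D 0, β u v = 0 := fun v => by
      rw [← hφ, hu]; simp [hf, Cfsg.sympForm]
    refine b.repr.map_eq_zero_iff.1 (Finsupp.ext fun i => ?_)
    have h3 := h1 (b 1)
    have h4 := h1 (b 0)
    simp [β] at h3 h4
    fin_cases i
    · simpa using h3
    · simpa using h4
  let φe : D 0 ≃ₗ[F] D 1 := LinearMap.linearEquivOfInjective φ hφi (by rw [hD.finrank_eq, hD.finrank_eq])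
  let Tl : (Ix 2 → F) →ₗ[F] (Ix 2 → F) :=
    LinearMap.ofIsCompl hc ((D 1).subtype ∘ₗ φ) ((D 0).subtype ∘ₗ φe.symm.toLinearMap)
  let T : Matrix (Ix 2) (Ix 2) F := LinearMap.toMatrix' Tl
  have hT0 : ∀ u : D 0, T *ᵥ (u : Ix 2 → F) = (φ u : Ix 2 → F) := fun u => by
    rw [LinearMap.toMatrix'_mulVec]; exact LinearMap.ofIsCompl_left_apply hc u
  have hT1 : ∀ x : D 1, T *ᵥ (x : Ix 2 → F) = (φe.symm x : Ix 2 → F) := fun x => by
    rw [LinearMap.toMatrix'_mulVec]; exact LinearMap.ofIsCompl_right_apply hc x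
  have hsplit : ∀ v, ∃ (a : D 0) (c : D 1), v = (a : Ix 2 → F) + c := fun v => by
    obtain ⟨a, ha, c, hc', rfl⟩ := Submodule.mem_sup.1 (hc.sup_eq_top ▸ Submodule.mem_top (x := v))
    exact ⟨⟨a, ha⟩, ⟨c, hc'⟩, rfl⟩
  have hφe : ∀ u, φe u = φ u := fun u => rfl
  have hTT : T * T = 1 := Matrix.ext_of_mulVec_single fun i => by
    obtain ⟨a, c, h⟩ := hsplit (Pi.single i 1)
    rw [h, ← Matrix.mulVec_mulVec, Matrix.one_mulVec, Matrix.mulVec_add, hT0, hT1, Matrix.mulVec_add, hT1, hT0,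
      ← hφe, LinearEquiv.symm_apply_apply, ← hφe, LinearEquiv.apply_symm_apply]
  have hβskew : ∀ u v : D 0, β u v = -β v u := fun u v => by simp [β]; ring
  have hadj : adjM T = T := adjM_unique fun u v => by
    obtain ⟨a, c, rfl⟩ := hsplit u
    obtain ⟨a', c', rfl⟩ := hsplit v
    have z1 : f (φ a : Ix 2 → F) c' = 0 := hts 1 _ (φ a).2 _ c'.2
    have z2 : f (φe.symm c : Ix 2 → F) a' = 0 := hts 0 _ (φe.symm c).2 _ a'.2
    have z3 : f (a : Ix 2 → F) (φe.symm c') = 0 := hts 0 _ a.2 _ (φe.symm c').2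
    have z4 : f (c : Ix 2 → F) (φ a') = 0 := hts 1 _ c.2 _ (φ a').2
    simp only [hf] at z1 z2 z3 z4
    simp only [Matrix.mulVec_add, hT0, hT1, sp_bilinear.add_left, sp_bilinear.add_right, z1, z2, z3, z4,
      add_zero, zero_add]
    have h1 : f (φ a : Ix 2 → F) a' = f (a : Ix 2 → F) (φ a') := by
      rw [hf, sp_skew (a : Ix 2 → F), ← hf, hφ, hφ, hβskew]
    have h3 : f (φe.symm c : Ix 2 → F) c' = f (c : Ix 2 → F) (φe.symm c') := by
      obtain ⟨x, rfl⟩ := φe.surjective c
      obtain ⟨y, rfl⟩ := φe.surjective c'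
      rw [LinearEquiv.symm_apply_apply, LinearEquiv.symm_apply_apply, hφe, hφe, hf,
        sp_skew (x : Ix 2 → F), ← hf, hφ, hφ, hβskew, neg_neg]
    rw [← hf, h1, h3]
  let Good : Matrix (Ix 2) (Ix 2) F → Prop := fun X =>
    adjM X = X ∧ X * X = 1 ∧ (∀ v ∈ D 0, X *ᵥ v ∈ D 1) ∧ ∀ v ∈ D 1, X *ᵥ v ∈ D 0
  have hgood : Good T := ⟨hadj, hTT, fun v hv => by rw [show T *ᵥ v = _ from hT0 ⟨v, hv⟩]; exact (φ ⟨v, hv⟩).2,
    fun v hv => by rw [show T *ᵥ v = _ from hT1 ⟨v, hv⟩]; exact (φe.symm ⟨v, hv⟩).2⟩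
  have huniq : ∀ X, Good X → ∃ ν : F, X = ν • T := by
    rintro X ⟨hXa, hXX, hX0, hX1⟩
    let γ : D 0 →ₗ[F] (D 0 →ₗ[F] F) :=
      LinearMap.mk₂ F (fun u v => f (X *ᵥ (u : Ix 2 → F)) v)
        (fun _ _ _ => by simp [Matrix.mulVec_add, hf, sp_bilinear.add_left])
        (fun _ _ _ => by simp [Matrix.mulVec_smul, hf, sp_bilinear.smul_left])
        (fun _ _ _ => sp_bilinear.add_right _ _ _) (fun _ _ _ => sp_bilinear.smul_right _ _ _)
    have hγskew : ∀ u v, γ u v = -γ v u := fun u v => by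
      show f _ _ = -f _ _
      rw [hf, adjM_spec, hXa, sp_skew]
    have hγ0 : ∀ u, γ u u = 0 := fun u => (mul_eq_zero.1 (show (2 : F) * γ u u = 0 by
      linear_combination hγskew u u)).resolve_left h2
    set a := γ (b 0) (b 1) with ha
    have hγ : γ = a • β := by
      refine b.ext fun i => b.ext fun j => ?_
      fin_cases i <;> fin_cases j <;> simp [β, hγ0, ha]
      · exact (hγskew _ _).trans (by simp)
    have hXT : ∀ u : D 0, X *ᵥ (u : Ix 2 → F) = a • (φ u : Ix 2 → F) := fun u => by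
      have h1 : π ⟨X *ᵥ (u : Ix 2 → F), hX0 u u.2⟩ = π (a • φ u) := by
        refine LinearMap.ext fun v => ?_
        show γ u v = f (a • (φ u : Ix 2 → F)) v
        rw [hγ, hf, sp_bilinear.smul_left, ← hf, hφ]
        rfl
      exact congrArg Subtype.val (hπi h1)
    have haa : a * a = 1 := by
      refine TensorFrame.sq_one hq fun h0 => ?_
      have h1 := hXT (b 0)
      rw [h0, zero_smul] at h1
      have h3 := congrArg (X *ᵥ ·) h1
      simp only [Matrix.mulVec_mulVec, hXX, Matrix.one_mulVec, Matrix.mulVec_zero] at h3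
      exact b.ne_zero 0 (Subtype.ext h3)
    refine ⟨a, Matrix.ext_of_mulVec_single fun i => ?_⟩
    obtain ⟨u, c, h⟩ := hsplit (Pi.single i 1)
    rw [h, Matrix.mulVec_add, Matrix.mulVec_add, Matrix.smul_mulVec, Matrix.smul_mulVec, hXT, hT0, hT1]
    congr 1
    obtain ⟨w, rfl⟩ := φe.surjective c
    rw [LinearEquiv.symm_apply_apply]
    have h1 := congrArg (X *ᵥ ·) (hXT w)
    simp only [Matrix.mulVec_mulVec, hXX, Matrix.one_mulVec, Matrix.mulVec_smul] at h1
    calc X *ᵥ (φe w : Ix 2 → F) = (a * a) • (X *ᵥ (φe w : Ix 2 → F)) := by rw [haa, one_smul]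
      _ = a • (w : Ix 2 → F) := by rw [mul_smul, hφe, ← h1]
  have hconj : ∀ g ∈ H, ∃ ν : F, g.val * T * (g⁻¹).val = ν • T := by
    intro g hg
    refine huniq _ ⟨by rw [adjM_conj hH hg, hadj], ?_, ?_, ?_⟩
    · simp only [Matrix.mul_assoc]
      rw [← Matrix.mul_assoc (g⁻¹).val g.val, ← Units.val_mul, inv_mul_cancel, Units.val_one, Matrix.one_mul,
        ← Matrix.mul_assoc T T, hTT, Matrix.one_mul, ← Units.val_mul, mul_inv_cancel, Units.val_one]
    all_goals
      intro v hv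
      obtain ⟨σ, hσ⟩ := hle (inv_mem hg)
      obtain ⟨τ, hτ⟩ := hle hg
      rw [← Matrix.mulVec_mulVec, ← Matrix.mulVec_mulVec]
    · have hv' : (g⁻¹).val *ᵥ v ∈ D (σ 0) := hσ 0 ▸ ⟨v, hv, Matrix.toLin'_apply _ _⟩
      have h1 : T *ᵥ ((g⁻¹).val *ᵥ v) ∈ D (σ 0 + 1) := by
        rcases Fin.exists_fin_two.1 ⟨σ 0, rfl⟩ with h | h
        · rw [h] at hv' ⊢; exact hgood.2.2.1 _ hv'
        · rw [h] at hv' ⊢; exact hgood.2.2.2 _ hv'
      have h3 : g.val *ᵥ (T *ᵥ ((g⁻¹).val *ᵥ v)) ∈ D (τ (σ 0 + 1)) := hτ _ ▸ ⟨_, h1, Matrix.toLin'_apply _ _⟩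
      convert h3 using 2
      have hτσ : τ (σ 0) = 0 := by
        by_contra hne
        obtain ⟨w, hw, hw0⟩ := Submodule.exists_mem_ne_zero_of_ne_bot (show D 0 ≠ ⊥ from fun h => by
          have := hD.finrank_eq 0; rw [h, finrank_bot] at this; omega)
        have h4 : w ∈ D (τ (σ 0)) := by
          rw [← mulVec_inv_mulVec g w]
          exact hτ _ ▸ ⟨_, hσ 0 ▸ ⟨w, hw, Matrix.toLin'_apply _ _⟩, Matrix.toLin'_apply _ _⟩
        exact hw0 ((Submodule.mem_bot F).1 ((hD.indep.pairwiseDisjoint hne).le_bot ⟨h4, hw⟩))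
      have hne2 : τ (σ 0 + 1) ≠ 0 := fun h => absurd (τ.injective (h.trans hτσ.symm)) (by
        generalize σ 0 = x; revert x; decide)
      exact ((Fin.exists_fin_two.1 ⟨_, rfl⟩).resolve_left hne2).symm
    · have hv' : (g⁻¹).val *ᵥ v ∈ D (σ 1) := hσ 1 ▸ ⟨v, hv, Matrix.toLin'_apply _ _⟩
      have h1 : T *ᵥ ((g⁻¹).val *ᵥ v) ∈ D (σ 1 + 1) := by
        rcases Fin.exists_fin_two.1 ⟨σ 1, rfl⟩ with h | h
        · rw [h] at hv' ⊢; exact hgood.2.2.1 _ hv'
        · rw [h] at hv' ⊢; exact hgood.2.2.2 _ hv'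
      have h3 : g.val *ᵥ (T *ᵥ ((g⁻¹).val *ᵥ v)) ∈ D (τ (σ 1 + 1)) := hτ _ ▸ ⟨_, h1, Matrix.toLin'_apply _ _⟩
      convert h3 using 2
      have hτσ : τ (σ 1) = 1 := by
        by_contra hne
        obtain ⟨w, hw, hw0⟩ := Submodule.exists_mem_ne_zero_of_ne_bot (show D 1 ≠ ⊥ from fun h => by
          have := hD.finrank_eq 1; rw [h, finrank_bot] at this; omega)
        have h4 : w ∈ D (τ (σ 1)) := by
          rw [← mulVec_inv_mulVec g w]
          exact hτ _ ▸ ⟨_, hσ 1 ▸ ⟨w, hw, Matrix.toLin'_apply _ _⟩, Matrix.toLin'_apply _ _⟩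
        exact hw0 ((Submodule.mem_bot F).1 ((hD.indep.pairwiseDisjoint hne).le_bot ⟨h4, hw⟩))
      have hne2 : τ (σ 1 + 1) ≠ 1 := fun h => absurd (τ.injective (h.trans hτσ.symm)) (by
        generalize σ 1 = x; revert x; decide)
      exact ((Fin.exists_fin_two.1 ⟨_, rfl⟩).resolve_right hne2).symm
  have hns : ∀ d : F, T ≠ d • 1 := fun d hd => by
    obtain ⟨w, hw, hw0⟩ := Submodule.exists_mem_ne_zero_of_ne_bot (show D 0 ≠ ⊥ from fun h => by
      have := hD.finrank_eq 0; rw [h, finrank_bot] at this; omega)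
    have h1 := hgood.2.2.1 w hw
    rw [hd, Matrix.smul_mulVec, Matrix.one_mulVec] at h1
    have h3 := congrArg (· *ᵥ w) hTT
    simp only [hd, Matrix.smul_mul, Matrix.one_mul, Matrix.smul_mulVec, Matrix.one_mulVec] at h3
    have hd0 : d ≠ 0 := fun h0 => hw0 (by rw [← h3, h0, zero_smul])
    exact hw0 ((Submodule.mem_bot F).1 (hc.disjoint.le_bot ⟨hw, ((D 1).smul_mem_iff hd0).1 h1⟩))
  rcases root_cases h2 hH hirr one_ne_zero (by rw [hTT, one_smul]) hns (Or.inl hadj) hconj with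
    ⟨E, hE, -, hEa⟩ | ⟨hsq, -⟩
  · obtain ⟨k, hk, hk2, hle'⟩ := hE.nondeg le_rfl (hEa hadj)
    obtain rfl : k = 2 := by omega
    exact ⟨_, hk, hle'⟩
  · exact absurd (one_mul 1) (hsq 1)

/-- Over the field of three elements a symmetric factor of dimension three has a canonical frame. -/
theorem tensor_three [Fintype F] (hq : Fintype.card F = 3) (hH : H ≤ Cfsg.spGL m F) {d : ℕ} (hd : 0 < d)
    {e : Ix m ≃ Fin d × Fin 3} {P : GL (Ix m) F} {f₁ : (Fin d → F) → (Fin d → F) → F}
    {f₂ : (Fin 3 → F) → (Fin 3 → F) → F} (hf₁ : IsSymplecticForm f₁) (hf₂ : IsSymmetricForm f₂)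
    (hst : IsTensorFormStructure id (Cfsg.sympForm m F) f₁ f₂ e P) (hle : H ≤ tensorProductSubgroup d 3 e P) :
    ∃ D : Fin 3 → Submodule F (Ix m → F), IsNondegenerateMDecomposition (Cfsg.sympForm m F) d D ∧
      H ≤ decompositionStabilizer D := by
  classical
  obtain ⟨κ, v, hκ, hv⟩ := TensorFrame.exists_frame_three hq hf₂
  have S₁ := TensorFrame.Ses.of_bilinear hf₁.bilinear
  have S₂ := TensorFrame.Ses.of_bilinear hf₂.bilinear
  have hT := TensorFrame.pairing₂ S₁ S₂ (e := e) (P := P) hst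
  set pu := (TensorFrame.pure₁ e P).flip with hpu
  have hR := TensorFrame.frameRule_three hq S₂ hκ hv
  have hli : LinearIndependent F v := TensorFrame.li_of_orth S₂ (fun _ => κ) (fun _ => hκ) hv
  have hbij := hT.bijective hli
  let D : Fin 3 → Submodule F (Ix m → F) := fun i => LinearMap.range (pu (v i))
  have hinj : ∀ i, Function.Injective (pu (v i)) := fun i a b hab => by
    have h1 : TensorFrame.phi pu v (Pi.single i a) = TensorFrame.phi pu v (Pi.single i b) := by
      rw [TensorFrame.phi_single, TensorFrame.phi_single, hab]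
    exact Pi.single_injective i (hbij.1 h1)
  have hfin : ∀ i, Module.finrank F (D i) = d := fun i => by
    rw [LinearMap.finrank_range_of_inj (hinj i), Module.finrank_fin_fun]
  obtain ⟨cf, hcf, hform⟩ := hT.form
  have horth : ∀ i j, i ≠ j → AreOrthogonalFor (Cfsg.sympForm m F) (D i) (D j) := by
    rintro i j hij _ ⟨a, rfl⟩ _ ⟨b, rfl⟩
    rw [hform, hv, if_neg hij, zero_mul, mul_zero]
  have htop : iSup D = ⊤ := by
    rw [eq_top_iff]
    intro x _
    obtain ⟨y, rfl⟩ := hbij.2 x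
    rw [TensorFrame.phi_apply]
    exact Submodule.sum_mem _ fun i _ => Submodule.mem_iSup_of_mem i ⟨_, rfl⟩
  have hindep : iSupIndep D := by
    rw [iSupIndep_def]
    intro i
    rw [Submodule.disjoint_def]
    intro x hx hx'
    obtain ⟨a, rfl⟩ := hx
    rw [Submodule.mem_iSup_iff_exists_finsupp] at hx'
    obtain ⟨g, hg, hsum⟩ := hx'
    have hg' : ∀ j, ∃ b, pu (v j) b = g j ∧ (j = i → b = 0) := fun j => by
      by_cases hji : j = i
      · subst hji
        have := hg j
        rw [iSup_neg (by simp), Submodule.mem_bot] at this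
        exact ⟨0, by rw [map_zero, this], fun _ => rfl⟩
      · have := hg j
        rw [iSup_pos hji] at this
        obtain ⟨b, hb⟩ := this
        exact ⟨b, hb, fun h => absurd h hji⟩
    choose bs hbs hbs0 using hg'
    have h1 : TensorFrame.phi pu v bs = TensorFrame.phi pu v (Pi.single i a) := by
      rw [TensorFrame.phi_single, TensorFrame.phi_apply, ← hsum, Finsupp.sum_fintype _ _ (fun _ => rfl)]
      exact Finset.sum_congr rfl fun j _ => hbs j
    have h3 := congrFun (hbij.1 h1) i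
    rw [hbs0 i rfl, Pi.single_eq_same] at h3
    rw [← h3, map_zero]
  refine ⟨D, ⟨⟨by norm_num, hd, hfin, hindep, htop⟩, fun i => nondegOn_of_inf_perp ?_, horth⟩, fun g hg => ?_⟩
  · rw [Submodule.eq_bot_iff]
    rintro x ⟨hx, hx'⟩
    by_contra hne
    obtain ⟨y, hy⟩ := (sp_nondeg x hne).1
    apply hy
    have hy' : y ∈ ⨆ j, D j := htop ▸ Submodule.mem_top
    refine Submodule.iSup_induction D (motive := fun y => Cfsg.sympForm m F y x = 0) hy' (fun j z hz => ?_) ?_ ?_
    · by_cases hji : j = i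
      · subst hji; exact mem_perp.1 hx' z hz
      · exact horth j i hji z hz x hx
    · simp [Cfsg.sympForm]
    · intro a b ha hb; rw [sp_bilinear.add_left, ha, hb, add_zero]
  · have hmove : ∀ i, ∃ j, ∀ x ∈ D i, g.val *ᵥ x ∈ D j := by
      intro i
      obtain ⟨B, A, hAB⟩ := hT.act g (hle hg)
      obtain ⟨a₀, ha₀⟩ : ∃ a : Fin d → F, a ≠ 0 := ⟨Pi.single ⟨0, hd⟩ 1, by simp⟩
      obtain ⟨⟨a₁, ha₁⟩, -⟩ := hf₁.nondegenerate a₀ ha₀
      have hs : ∀ w w', f₂ (B.val *ᵥ w) (B.val *ᵥ w') * f₁ (A.val *ᵥ a₁) (A.val *ᵥ a₀) = f₂ w w' * f₁ a₁ a₀ := by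
        intro w w'
        have h1 := mem_spGL.1 (hH hg) (pu w a₁) (pu w' a₀)
        rw [hAB, hAB, hform, hform] at h1
        exact mul_left_cancel₀ hcf h1
      have hA0 : f₁ (A.val *ᵥ a₁) (A.val *ᵥ a₀) ≠ 0 := fun h0 => by
        have h1 := hs (v 0) (v 0)
        rw [h0, mul_zero, hv, if_pos rfl] at h1
        exact mul_ne_zero hκ ha₁ h1.symm
      obtain ⟨j, μ, hj⟩ := hR B (f₁ a₁ a₀ / f₁ (A.val *ᵥ a₁) (A.val *ᵥ a₀)) (div_ne_zero ha₁ hA0) (fun w w' => by
        rw [div_mul_eq_mul_div, eq_div_iff hA0, hs, mul_comm]) i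
      refine ⟨j, ?_⟩
      rintro _ ⟨a, rfl⟩
      refine ⟨μ • (A.val *ᵥ a), ?_⟩
      rw [hAB, hj, map_smul, map_smul, LinearMap.smul_apply]
    choose σ hσ using hmove
    have hmap : ∀ i, (D i).map (Matrix.toLin' g.val) = D (σ i) := fun i => by
      refine Submodule.eq_of_le_of_finrank_eq ?_ ?_
      · rintro _ ⟨x, hx, rfl⟩
        rw [Matrix.toLin'_apply]
        exact hσ i x hx
      · rw [hfin, ← hfin i]
        exact finrank_move g (D i)
    have hinjσ : Function.Injective σ := fun i j hij => by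
      by_contra hne
      have h1 : D i = D j := by
        have hi := hmap i
        rw [hij, ← hmap j] at hi
        exact Submodule.map_injective_of_injective (f := Matrix.toLin' g.val)
          (fun a b h => by
            have h' : g.val *ᵥ a = g.val *ᵥ b := by simpa using h
            rw [← inv_mulVec_mulVec g a, h', inv_mulVec_mulVec]) hi
      have h3 := hindep.pairwiseDisjoint hne
      simp only [Function.onFun, h1, disjoint_self] at h3
      have := hfin j
      rw [h3, finrank_bot] at this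
      omega
    exact ⟨Equiv.ofBijective σ (Finite.injective_iff_bijective.1 hinjσ), hmap⟩

end Cfsg.Lib.Linear.AschSp
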