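import Cfsg.Agent.Lib.Linear.AschSp.Sign
import Cfsg.Agent.Lib.Linear.AschSp.Plus

/-!
# The field of three elements: groups of symplectic type
-/

set_option autoImplicit false
set_option linter.unusedSectionVars false
set_option linter.style.haveILetI false

namespace Cfsg.Lib.Linear.AschSp

open Cfsg.Geo Cfsg.Lib.Linear Cfsg.Lib.Linear.Asch Cfsg.Lib.Linear.AschGen
open scoped Matrix MatrixGroups Kronecker

section Small

variable {F : Type*} [Field F] [Fintype F]

theorem charP_three (hq : Fintype.card F = 3) : CharP F 3 := by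
  haveI : Fact (Nat.Prime 3) := ⟨by norm_num⟩
  exact charP_of_card_eq_prime hq

theorem exists_zmod_three (hq : Fintype.card F = 3) :
    ∃ φ : ZMod 3 →+* F, Function.Injective φ ∧ Function.Surjective φ := by
  haveI := charP_three hq
  haveI : Fact (Nat.Prime 3) := ⟨by norm_num⟩
  refine ⟨ZMod.castHom (dvd_refl 3) F, RingHom.injective _, ?_⟩
  exact ((Fintype.bijective_iff_injective_and_card _).2 ⟨RingHom.injective _, by rw [ZMod.card, hq]⟩).2

theorem sign_three (hq : Fintype.card F = 3) {a b c a' b' c' : F} (h : -(a * a) - b * c = 1)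
    (h' : -(a' * a') - b' * c' = 1) :
    (b * c' = b' * c ∧ a * b' = a' * b ∧ c * a' = c' * a) ∨ 2 * (a * a') + b * c' + b' * c = 0 := by
  obtain ⟨φ, hφi, hφs⟩ := exists_zmod_three hq
  have key : ∀ a b c a' b' c' : ZMod 3, -(a * a) - b * c = 1 → -(a' * a') - b' * c' = 1 →
      (b * c' = b' * c ∧ a * b' = a' * b ∧ c * a' = c' * a) ∨ 2 * (a * a') + b * c' + b' * c = 0 := by decide
  obtain ⟨a, rfl⟩ := hφs a
  obtain ⟨b, rfl⟩ := hφs b
  obtain ⟨c, rfl⟩ := hφs c
  obtain ⟨a', rfl⟩ := hφs a'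
  obtain ⟨b', rfl⟩ := hφs b'
  obtain ⟨c', rfl⟩ := hφs c'
  have h2 : φ 2 = (2 : F) := map_ofNat φ 2
  rcases key a b c a' b' c' (hφi (by simpa using h)) (hφi (by simpa using h')) with ⟨h1, h3, h4⟩ | h1
  · exact Or.inl ⟨by rw [← map_mul, h1, map_mul], by rw [← map_mul, h3, map_mul], by rw [← map_mul, h4, map_mul]⟩
  · exact Or.inr (by rw [← h2, ← map_mul, ← map_mul, ← map_mul, ← map_mul, ← map_add, ← map_add, h1, map_zero])

theorem two_squares (hq : Fintype.card F = 3) {a b : F} (h : a * a + b * b = 1) :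
    (a = 0 ∧ (b = 1 ∨ b = -1)) ∨ (b = 0 ∧ (a = 1 ∨ a = -1)) := by
  obtain ⟨φ, hφi, hφs⟩ := exists_zmod_three hq
  have key : ∀ a b : ZMod 3, a * a + b * b = 1 →
      (a = 0 ∧ (b = 1 ∨ b = -1)) ∨ (b = 0 ∧ (a = 1 ∨ a = -1)) := by decide
  obtain ⟨a, rfl⟩ := hφs a
  obtain ⟨b, rfl⟩ := hφs b
  rcases key a b (hφi (by simpa using h)) with ⟨rfl, rfl | rfl⟩ | ⟨rfl, rfl | rfl⟩ <;> simp

theorem three_squares (hq : Fintype.card F = 3) {a b c : F} (h : a * a + b * b + c * c = 1) :
    (a = 0 ∧ b = 0 ∧ (c = 1 ∨ c = -1)) ∨ (a = 0 ∧ c = 0 ∧ (b = 1 ∨ b = -1)) ∨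
      (b = 0 ∧ c = 0 ∧ (a = 1 ∨ a = -1)) := by
  obtain ⟨φ, hφi, hφs⟩ := exists_zmod_three hq
  have key : ∀ a b c : ZMod 3, a * a + b * b + c * c = 1 → (a = 0 ∧ b = 0 ∧ (c = 1 ∨ c = -1)) ∨
      (a = 0 ∧ c = 0 ∧ (b = 1 ∨ b = -1)) ∨ (b = 0 ∧ c = 0 ∧ (a = 1 ∨ a = -1)) := by decide
  obtain ⟨a, rfl⟩ := hφs a
  obtain ⟨b, rfl⟩ := hφs b
  obtain ⟨c, rfl⟩ := hφs c
  rcases key a b c (hφi (by simpa using h)) with
    ⟨rfl, rfl, rfl | rfl⟩ | ⟨rfl, rfl, rfl | rfl⟩ | ⟨rfl, rfl, rfl | rfl⟩ <;> simp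

/-- Two elements of trace zero and determinant one commute or anticommute. -/
theorem quat_sign (hq : Fintype.card F = 3) {q r : Matrix (Fin 2) (Fin 2) F} (hqt : q.trace = 0) (hqd : q.det = 1)
    (hrt : r.trace = 0) (hrd : r.det = 1) : q * r = r * q ∨ q * r = -(r * q) := by
  rw [Matrix.trace_fin_two] at hqt hrt
  rw [Matrix.det_fin_two] at hqd hrd
  have e1 : q 1 1 = -q 0 0 := by linear_combination hqt
  have e2 : r 1 1 = -r 0 0 := by linear_combination hrt
  rw [e1] at hqd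
  rw [e2] at hrd
  rcases sign_three hq (a := q 0 0) (b := q 0 1) (c := q 1 0) (a' := r 0 0) (b' := r 0 1) (c' := r 1 0)
    (by linear_combination hqd) (by linear_combination hrd) with ⟨h1, h2, h3⟩ | h
  · refine Or.inl (Matrix.ext fun i j => ?_)
    fin_cases i <;> fin_cases j <;> simp [Matrix.mul_apply, Fin.sum_univ_two, e1, e2]
    · linear_combination h1
    · linear_combination 2 * h2
    · linear_combination 2 * h3
    · linear_combination -h1
  · refine Or.inr (Matrix.ext fun i j => ?_)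
    fin_cases i <;> fin_cases j <;> simp [Matrix.mul_apply, Fin.sum_univ_two, e1, e2]
    · linear_combination h
    · ring
    · ring
    · linear_combination h

theorem quat_sq {q : Matrix (Fin 2) (Fin 2) F} (hqt : q.trace = 0) (hqd : q.det = 1) : q * q = -1 := by
  rw [Matrix.trace_fin_two] at hqt
  rw [Matrix.det_fin_two] at hqd
  have e1 : q 1 1 = -q 0 0 := by linear_combination hqt
  rw [e1] at hqd
  refine Matrix.ext fun i j => ?_
  fin_cases i <;> fin_cases j <;> simp [Matrix.mul_apply, Fin.sum_univ_two, e1]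
  · linear_combination -hqd
  · ring
  · ring
  · linear_combination -hqd

theorem quat_span (h2 : (2 : F) ≠ 0) (hq : Fintype.card F = 3) :
    Algebra.adjoin F {q : Matrix (Fin 2) (Fin 2) F | q.trace = 0 ∧ q.det = 1} = ⊤ := by
  set A := Algebra.adjoin F {q : Matrix (Fin 2) (Fin 2) F | q.trace = 0 ∧ q.det = 1}
  have h3 : (3 : F) = 0 := TensorFrame.three_cast hq
  have hI : (!![0, 1; -1, 0] : Matrix (Fin 2) (Fin 2) F) ∈ A :=
    Algebra.subset_adjoin ⟨by simp [Matrix.trace_fin_two], by simp [Matrix.det_fin_two]⟩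
  have hJ : (!![1, 1; 1, -1] : Matrix (Fin 2) (Fin 2) F) ∈ A :=
    Algebra.subset_adjoin ⟨by simp [Matrix.trace_fin_two], by
      simp [Matrix.det_fin_two]; linear_combination -h3⟩
  rw [eq_top_iff]
  intro M _
  set K : Matrix (Fin 2) (Fin 2) F := !![0, 1; -1, 0] * !![1, 1; 1, -1] with hK
  have hM : M = ((M 0 0 + M 1 1) / 2) • (1 : Matrix (Fin 2) (Fin 2) F) +
      ((M 0 1 - M 1 0) / 2) • !![0, 1; -1, 0] +
      (((M 0 0 - M 1 1) / 2 + (M 0 1 + M 1 0) / 2) / 2) • !![1, 1; 1, -1] +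
      (((M 0 0 - M 1 1) / 2 - (M 0 1 + M 1 0) / 2) / 2) • K := by
    refine Matrix.ext fun i j => ?_
    fin_cases i <;> fin_cases j <;> simp [hK, Matrix.mul_apply, Fin.sum_univ_two] <;> field_simp <;> ring
  rw [hM]
  exact add_mem (add_mem (add_mem (A.smul_mem (one_mem A) _) (A.smul_mem hI _)) (A.smul_mem hJ _))
    (A.smul_mem (mul_mem hI hJ) _)

end Small

section Wreath

variable {m : ℕ} {F : Type*} [Field F] [Fintype F] {H : Subgroup (GL (Ix m) F)} {t : ℕ}

/-- Conjugation by the standard wreath group permutes the quaternion slots. -/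
theorem wreath_conj {k : GL (Fin t → Fin 2) F} (hk : k ∈ tensorWreathStandard 2 t F) :
    ∀ (l : Fin t) (q : Matrix (Fin 2) (Fin 2) F), q.trace = 0 → q.det = 1 →
      ∃ (l' : Fin t) (q' : Matrix (Fin 2) (Fin 2) F), q'.trace = 0 ∧ q'.det = 1 ∧
        k.val * powStd l q * (k⁻¹).val = powStd l' q' := by
  let Q : GL (Fin t → Fin 2) F → Prop := fun k => ∀ (l : Fin t) (q : Matrix (Fin 2) (Fin 2) F), q.trace = 0 →
    q.det = 1 → ∃ (l' : Fin t) (q' : Matrix (Fin 2) (Fin 2) F), q'.trace = 0 ∧ q'.det = 1 ∧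
      k.val * powStd l q * (k⁻¹).val = powStd l' q'
  suffices h : Q k ∧ Q k⁻¹ from h.1
  have pure : ∀ (g : GL (Fin t → Fin 2) F) (gs : Fin t → GL (Fin 2) F),
      g.val = pureTens (fun i => (gs i).val) → Q g := by
    intro g gs hg l q hqt hqd
    refine ⟨l, (gs l).val * q * ((gs l)⁻¹).val, ?_, ?_, ?_⟩
    · rw [Matrix.trace_mul_cycle, ← Units.val_mul, inv_mul_cancel, Units.val_one, Matrix.one_mul, hqt]
    · rw [Matrix.det_mul, Matrix.det_mul, hqd, mul_one, ← Matrix.det_mul, ← Units.val_mul, mul_inv_cancel,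
        Units.val_one, Matrix.det_one]
    · have hmid : g.val * powStd l q = powStd l ((gs l).val * q * ((gs l)⁻¹).val) * g.val := by
        rw [hg, powStd, powStd, pureTens_mul, pureTens_mul]
        congr 1
        funext i
        rcases eq_or_ne i l with rfl | hi
        · rw [Function.update_self, Function.update_self, Matrix.mul_assoc, ← Units.val_mul, inv_mul_cancel,
            Units.val_one, Matrix.mul_one]
        · simp [hi]
      rw [hmid, Matrix.mul_assoc, ← Units.val_mul, mul_inv_cancel, Units.val_one, Matrix.mul_one]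
  have perm : ∀ (g : GL (Fin t → Fin 2) F) (σ : Equiv.Perm (Fin t)),
      (∀ x y, g.val x y = if y = x ∘ σ then 1 else 0) → Q g := by
    intro g σ hg l q hqt hqd
    refine ⟨σ l, q, hqt, hqd, ?_⟩
    have hmid : g.val * powStd l q = powStd (σ l) q * g.val := by
      refine Matrix.ext fun x y => ?_
      have hr : ∀ z, y = z ∘ σ ↔ z = y ∘ σ.symm := fun z => by
        constructor <;> intro h <;> subst h <;> funext i <;> simp
      simp only [Matrix.mul_apply, hg, hr, ite_mul, one_mul, zero_mul, mul_ite, mul_one, mul_zero,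
        Finset.sum_ite_eq', Finset.mem_univ, if_true]
      rw [powStd_apply, powStd_apply]
      refine if_congr ⟨fun h j hj => ?_, fun h j hj => ?_⟩ (by simp) rfl
      · have := h (σ.symm j) (fun e => hj (by rw [← e, Equiv.apply_symm_apply]))
        simpa using this
      · have := h (σ j) (fun e => hj (σ.injective e))
        simpa using this
    rw [hmid, Matrix.mul_assoc, ← Units.val_mul, mul_inv_cancel, Units.val_one, Matrix.mul_one]
  induction hk using Subgroup.closure_induction with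
  | mem g hg =>
    rcases hg with ⟨gs, hgs⟩ | ⟨σ, hσ⟩
    · refine ⟨pure g gs (Matrix.ext hgs), pure g⁻¹ (fun i => (gs i)⁻¹) (left_inv_eq_right_inv
        (a := g.val) (by rw [← Units.val_mul, inv_mul_cancel, Units.val_one]) ?_)⟩
      rw [show g.val = pureTens (fun i => (gs i).val) from Matrix.ext hgs, pureTens_mul]
      simp only [← Units.val_mul, mul_inv_cancel, Units.val_one]
      exact pureTens_one
    · refine ⟨perm g σ hσ, perm g⁻¹ σ.symm fun x y => ?_⟩
      let S : Matrix (Fin t → Fin 2) (Fin t → Fin 2) F := Matrix.of fun x y => if y = x ∘ σ.symm then 1 else 0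
      have hS : g.val * S = 1 := by
        refine Matrix.ext fun a b => ?_
        simp only [Matrix.mul_apply, hσ, ite_mul, one_mul, zero_mul, Finset.sum_ite_eq', Finset.mem_univ, if_true,
          S, Matrix.of_apply, Matrix.one_apply, Function.comp_assoc, Equiv.self_comp_symm, Function.comp_id]
        exact if_congr eq_comm rfl rfl
      have : (g⁻¹).val = S := left_inv_eq_right_inv
        (a := g.val) (by rw [← Units.val_mul, inv_mul_cancel, Units.val_one]) hS
      rw [this]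
      rfl
  | one =>
    have h1 : Q (1 : GL (Fin t → Fin 2) F) := fun l q h h' => ⟨l, q, h, h', by simp⟩
    exact ⟨h1, by rwa [inv_one]⟩
  | mul a b _ _ ha hb =>
    have hm : ∀ a b : GL (Fin t → Fin 2) F, Q a → Q b → Q (a * b) := by
      intro a b ha hb l q h h'
      obtain ⟨l₁, q₁, h₁, h₁', e₁⟩ := hb l q h h'
      obtain ⟨l₂, q₂, h₂, h₂', e₂⟩ := ha l₁ q₁ h₁ h₁'
      refine ⟨l₂, q₂, h₂, h₂', ?_⟩
      rw [← e₂, ← e₁, mul_inv_rev, Units.val_mul, Units.val_mul]
      simp only [Matrix.mul_assoc]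
    exact ⟨hm a b ha.1 hb.1, by rw [mul_inv_rev]; exact hm _ _ hb.2 ha.2⟩
  | inv a _ ha => exact ⟨ha.2, by rw [inv_inv]; exact ha.1⟩

theorem mem_spGL_of_adjM {g : GL (Ix m) F} (h : adjM g.val * g.val = 1) : g ∈ Cfsg.spGL m F :=
  mem_spGL.2 fun u v => by rw [adjM_spec, Matrix.mulVec_mulVec, h, Matrix.one_mulVec]

/-- Over the field of three elements the stabiliser of three symplectic planes normalises a group of
symplectic type. -/
theorem wreath_eight_three (hq : Fintype.card F = 3) {H : Subgroup (GL (Ix 4) F)}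
    {e : Ix 4 ≃ (Fin 3 → Fin 2)} {P : GL (Ix 4) F} {f₁ : (Fin 2 → F) → (Fin 2 → F) → F} (hf₁ : IsSymplecticForm f₁)
    (hst : IsTensorPowerFormStructure id (Cfsg.sympForm 4 F) f₁ e P) (hle : H ≤ tensorWreathSubgroup 2 3 e P) :
    SixMember H := by
  classical
  have h2 : (2 : F) ≠ 0 := TensorFrame.two_ne hq
  obtain ⟨c, hc, hform⟩ := hst
  obtain ⟨a, -, hG⟩ := altTwo_gram hf₁
  have hgC : gC e P = c • pureTens (fun _ : Fin 3 => gramMatrix f₁) := by
    refine Matrix.ext fun i j => ?_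
    have h := hform (Pi.single i 1) (Pi.single j 1)
    rw [coord_form] at h
    simpa [Matrix.mulVec_single_one, pureTens, Pi.single_apply, ite_mul] using h
  have hGq : ∀ q : Matrix (Fin 2) (Fin 2) F, q.trace = 0 → qᵀ * gramMatrix f₁ = gramMatrix f₁ * (-q) := fun q hqt => by
    rw [Matrix.trace_fin_two] at hqt
    rw [hG, Matrix.mul_smul, Matrix.smul_mul]
    congr 1
    refine Matrix.ext fun i j => ?_
    fin_cases i <;> fin_cases j <;> simp [altTwo, Matrix.mul_apply, Fin.sum_univ_two]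
    · linear_combination hqt
    · linear_combination -hqt
  let S : Set (GL (Ix 4) F) :=
    {g | ∃ (l : Fin 3) (q : Matrix (Fin 2) (Fin 2) F), q.trace = 0 ∧ q.det = 1 ∧ g.val = tm e P (powStd l q)}
  have hadjS : ∀ (l : Fin 3) (q : Matrix (Fin 2) (Fin 2) F), q.trace = 0 →
      adjM (tm e P (powStd l q)) = tm e P (powStd l (-q)) := fun l q hqt => by
    refine adjM_tm e P ?_
    rw [hgC, Matrix.mul_smul, Matrix.smul_mul, powStd_transpose, powStd, powStd, pureTens_mul, pureTens_mul]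
    congr 2
    funext i
    rcases eq_or_ne i l with rfl | hi
    · simp only [Function.update_self]; exact hGq q hqt
    · simp [hi]
  have hneg1 : ∀ l : Fin 3, powStd l (-1 : Matrix (Fin 2) (Fin 2) F) = -1 := fun l => by
    have h := (powStdLin (F := F) (d := 2) l).map_neg 1
    exact h.trans (congrArg Neg.neg (powStd_one l))
  have hS : ∀ (l : Fin 3) (q : Matrix (Fin 2) (Fin 2) F), q.trace = 0 → q.det = 1 →
      ∃ g ∈ S, g.val = tm e P (powStd l q) := fun l q hqt hqd => by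
    let g : GL (Ix 4) F := ⟨tm e P (powStd l q), tm e P (powStd l (-q)),
      by rw [← tm_mul, powStd_mul, mul_neg, quat_sq hqt hqd, neg_neg, powStd_one, tm_one],
      by rw [← tm_mul, powStd_mul, neg_mul, quat_sq hqt hqd, neg_neg, powStd_one, tm_one]⟩
    exact ⟨g, ⟨l, q, hqt, hqd, rfl⟩, rfl⟩
  refine sixMember_of_signed h2 (by norm_num : Nat.Prime 3) (by decide) hq (k := 3) (by norm_num) (by norm_num)
    (S := S) ?_ ?_ ?_ ?_ ?_
  · rintro g ⟨l, q, hqt, hqd, hg⟩
    refine mem_spGL_of_adjM ?_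
    rw [hg, hadjS l q hqt, ← tm_mul, powStd_mul, neg_mul, quat_sq hqt hqd, neg_neg, powStd_one, tm_one]
  · rintro g ⟨l, q, hqt, hqd, hg⟩
    right
    rw [hg, ← tm_mul, powStd_mul, quat_sq hqt hqd, hneg1, ← neg_one_smul F (1 : Matrix (Fin 3 → Fin 2) (Fin 3 → Fin 2) F),
      tm_smul, tm_one, neg_one_smul]
  · rintro g ⟨l, q, hqt, hqd, hg⟩ g' ⟨l', q', hqt', hqd', hg'⟩
    simp only [SignComm, hg, hg', ← tm_mul]
    by_cases hll : l = l'
    · subst hll
      rcases quat_sign hq hqt hqd hqt' hqd' with h | h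
      · exact Or.inl (by rw [powStd_mul, powStd_mul, h])
      · refine Or.inr ?_
        rw [powStd_mul, powStd_mul, h, show powStd l (-(q' * q)) = (-1 : F) • powStd l (q' * q) from by
          rw [neg_one_smul]; exact (powStdLin (F := F) (d := 2) l).map_neg _, tm_smul, neg_one_smul]
    · refine Or.inl (congrArg (tm e P) ?_)
      rw [powStd, powStd, pureTens_mul, pureTens_mul]
      congr 1
      funext i
      rcases eq_or_ne i l with rfl | hi
      · simp [hll]
      · simp [hi]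
  · set A := Algebra.adjoin F ((fun g : GL (Ix 4) F => g.val) '' S)
    have hslot : ∀ (l : Fin 3) (M : Matrix (Fin 2) (Fin 2) F), tm e P (powStd l M) ∈ A := by
      intro l M
      have hM : M ∈ Algebra.adjoin F {q : Matrix (Fin 2) (Fin 2) F | q.trace = 0 ∧ q.det = 1} :=
        quat_span h2 hq ▸ Algebra.mem_top
      induction hM using Algebra.adjoin_induction with
      | mem q hq' =>
        obtain ⟨g, hg, hgv⟩ := hS l q hq'.1 hq'.2
        exact Algebra.subset_adjoin ⟨g, hg, hgv⟩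
      | algebraMap r =>
        rw [Algebra.algebraMap_eq_smul_one, show powStd l (r • (1 : Matrix (Fin 2) (Fin 2) F)) = r • 1 from
          ((powStdLin (F := F) (d := 2) l).map_smul r 1).trans (congrArg (r • ·) (powStd_one l)), tm_smul, tm_one]
        exact A.smul_mem (one_mem A) _
      | add a b _ _ ha hb =>
        rw [show powStd l (a + b) = powStd l a + powStd l b from (powStdLin (F := F) (d := 2) l).map_add a b, tm_add]
        exact add_mem ha hb
      | mul a b _ _ ha hb => rw [← powStd_mul, tm_mul]; exact mul_mem ha hb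
    let T : Matrix (Fin 3 → Fin 2) (Fin 3 → Fin 2) F →ₗ[F] Matrix (Ix 4) (Ix 4) F :=
      { toFun := tm e P, map_add' := tm_add e P, map_smul' := tm_smul e P }
    have hT : Function.Surjective T := by
      refine (LinearMap.injective_iff_surjective_of_finrank_eq_finrank ?_).1 (tm_inj e P)
      rw [Module.finrank_matrix, Module.finrank_matrix, Fintype.card_congr e]
    rw [eq_top_iff]
    intro M _
    obtain ⟨X, rfl⟩ := hT M
    rw [Matrix.matrix_eq_sum_single X, map_sum]
    refine sum_mem fun x _ => ?_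
    rw [map_sum]
    refine sum_mem fun y _ => ?_
    have hsingle : (Matrix.single x y (X x y) : Matrix (Fin 3 → Fin 2) (Fin 3 → Fin 2) F) =
        X x y • (powStd 0 (Matrix.single (x 0) (y 0) 1) * powStd 1 (Matrix.single (x 1) (y 1) 1) *
          powStd 2 (Matrix.single (x 2) (y 2) 1)) := by
      simp only [powStd, pureTens_mul]
      refine Matrix.ext fun a b => ?_
      simp only [Matrix.smul_apply, pureTens, Matrix.of_apply, Fin.prod_univ_three]
      simp [Matrix.single_apply, Function.update, ← ite_and, funext_iff, Fin.forall_fin_succ]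
      aesop
    rw [hsingle, map_smul]
    refine A.smul_mem ?_ _
    show tm e P _ ∈ A
    rw [tm_mul, tm_mul]
    exact mul_mem (mul_mem (hslot _ _) (hslot _ _)) (hslot _ _)
  · intro g hg s hs
    obtain ⟨l, q, hqt, hqd, hsv⟩ := hs
    obtain ⟨_, ⟨k, hk, rfl⟩, hkg⟩ := hle hg
    obtain ⟨l', q', hqt', hqd', hconj⟩ := wreath_conj hk l q hqt hqd
    refine Subgroup.subset_closure ⟨l', q', hqt', hqd', ?_⟩
    have hgv : g.val = tm e P k.val := by rw [← hkg]; exact tm_glReindex e P k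
    have hgi : (g⁻¹).val = tm e P (k⁻¹).val := left_inv_eq_right_inv
      (a := g.val) (by rw [← Units.val_mul, inv_mul_cancel, Units.val_one])
      (by rw [hgv, ← tm_mul, ← Units.val_mul, mul_inv_cancel, Units.val_one, tm_one])
    rw [Units.val_mul, Units.val_mul, hsv, hgv, hgi, ← tm_mul, ← tm_mul, hconj]

end Wreath

section Herm

variable {F : Type*} [Field F] [Fintype F]

/-- The Pauli matrices. -/
def sZ : Matrix (Fin 2) (Fin 2) F := !![1, 0; 0, -1]

def sX : Matrix (Fin 2) (Fin 2) F := !![0, 1; 1, 0]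

/-- The five anticommuting involutions in the frame of a hermitian plane. -/
def five : Fin 5 → Matrix (Fin 2 × Fin 2) (Fin 2 × Fin 2) F :=
  ![sZ ⊗ₖ 1, sX ⊗ₖ 1, altTwo ⊗ₖ altTwo, altTwo ⊗ₖ !![1, 1; 1, -1], altTwo ⊗ₖ (altTwo * !![1, 1; 1, -1])]

theorem five_sq (h3 : (3 : F) = 0) (i : Fin 5) : (five i : Matrix _ _ F) * five i = 1 := by
  fin_cases i <;> refine Matrix.ext (fun a b => ?_) <;> obtain ⟨a₁, a₂⟩ := a <;> obtain ⟨b₁, b₂⟩ := b <;>
    fin_cases a₁ <;> fin_cases a₂ <;> fin_cases b₁ <;> fin_cases b₂ <;>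
    simp [five, sZ, sX, altTwo, Matrix.mul_apply, Fintype.sum_prod_type, Fin.sum_univ_two, Matrix.one_apply] <;>
    grind

theorem five_anti (i j : Fin 5) (hij : i ≠ j) : (five i : Matrix _ _ F) * five j = -(five j * five i) := by
  fin_cases i <;> fin_cases j <;> simp at hij <;>
    simp [five, sZ, sX, altTwo, ← Matrix.mul_kronecker_mul, Matrix.mul_fin_two, Matrix.one_fin_two] <;>
    (refine Matrix.ext fun a b => ?_) <;> obtain ⟨a₁, a₂⟩ := a <;> obtain ⟨b₁, b₂⟩ := b <;>
    fin_cases a₁ <;> fin_cases a₂ <;> fin_cases b₁ <;> fin_cases b₂ <;> simp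

theorem five_gram (i : Fin 5) : (five i : Matrix _ _ F)ᵀ * ((1 : Matrix (Fin 2) (Fin 2) F) ⊗ₖ altTwo) =
    ((1 : Matrix (Fin 2) (Fin 2) F) ⊗ₖ altTwo) * five i := by
  fin_cases i <;> refine Matrix.ext (fun a b => ?_) <;> obtain ⟨a₁, a₂⟩ := a <;> obtain ⟨b₁, b₂⟩ := b <;>
    fin_cases a₁ <;> fin_cases a₂ <;> fin_cases b₁ <;> fin_cases b₂ <;>
    simp [five, sZ, sX, altTwo, Matrix.mul_apply, Fintype.sum_prod_type, Fin.sum_univ_two, Matrix.one_apply]

theorem five_comm (i : Fin 5) :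
    ((five i : Matrix _ _ F) * ((1 : Matrix (Fin 2) (Fin 2) F) ⊗ₖ (-altTwo)) =
      ((1 : Matrix (Fin 2) (Fin 2) F) ⊗ₖ (-altTwo)) * five i) ∨
    ((five i : Matrix _ _ F) * ((1 : Matrix (Fin 2) (Fin 2) F) ⊗ₖ (-altTwo)) =
      -(((1 : Matrix (Fin 2) (Fin 2) F) ⊗ₖ (-altTwo)) * five i)) := by
  fin_cases i <;>
    simp [five, sZ, sX, altTwo, ← Matrix.mul_kronecker_mul, Matrix.mul_fin_two, Matrix.one_fin_two] <;>
    first
      | (left; refine Matrix.ext fun a b => ?_; obtain ⟨a₁, a₂⟩ := a; obtain ⟨b₁, b₂⟩ := b;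
         fin_cases a₁ <;> fin_cases a₂ <;> fin_cases b₁ <;> fin_cases b₂ <;> simp <;> done)
      | (right; refine Matrix.ext fun a b => ?_; obtain ⟨a₁, a₂⟩ := a; obtain ⟨b₁, b₂⟩ := b;
         fin_cases a₁ <;> fin_cases a₂ <;> fin_cases b₁ <;> fin_cases b₂ <;> simp <;> done)

set_option maxHeartbeats 2000000 in
theorem five_cases [Fintype F] (hq : Fintype.card F = 3) {Z : Matrix (Fin 2 × Fin 2) (Fin 2 × Fin 2) F}
    (hZa : Zᵀ * ((1 : Matrix (Fin 2) (Fin 2) F) ⊗ₖ altTwo) = ((1 : Matrix (Fin 2) (Fin 2) F) ⊗ₖ altTwo) * Z)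
    (hZtr : ∑ z, Z z z = 0) (hZZ : Z * Z = 1)
    (hcases : (Z * ((1 : Matrix (Fin 2) (Fin 2) F) ⊗ₖ (-altTwo)) = ((1 : Matrix (Fin 2) (Fin 2) F) ⊗ₖ (-altTwo)) * Z) ∨
      (Z * ((1 : Matrix (Fin 2) (Fin 2) F) ⊗ₖ (-altTwo)) = -(((1 : Matrix (Fin 2) (Fin 2) F) ⊗ₖ (-altTwo)) * Z))) :
    ∃ (j : Fin 5) (sg : F), (sg = 1 ∨ sg = -1) ∧ Z = sg • five j := by
  have h2 : (2 : F) ≠ 0 := TensorFrame.two_ne hq
  have h3 : (3 : F) = 0 := TensorFrame.three_cast hq
  have A := fun a b => congrFun (congrFun hZa a) b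
  simp [Matrix.mul_apply, Fintype.sum_prod_type, Fin.sum_univ_two, altTwo, Prod.forall, Fin.forall_fin_two,
    Matrix.one_apply] at A
  simp [Fintype.sum_prod_type, Fin.sum_univ_two] at hZtr
  have Q0 := congrFun (congrFun hZZ (0, 0)) (0, 0)
  simp [Matrix.mul_apply, Fintype.sum_prod_type, Fin.sum_univ_two] at Q0
  rcases hcases with hc' | hc'
  · have C := fun a b => congrFun (congrFun hc' a) b
    simp [Matrix.mul_apply, Fintype.sum_prod_type, Fin.sum_univ_two, altTwo, Prod.forall, Fin.forall_fin_two,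
      Matrix.one_apply] at C
    have hform : Z = Z (0, 0) (0, 0) • five 0 + Z (0, 0) (1, 0) • five 1 + Z (0, 0) (1, 1) • five 2 := by
      refine Matrix.ext fun a b => ?_
      obtain ⟨a₁, a₂⟩ := a; obtain ⟨b₁, b₂⟩ := b
      fin_cases a₁ <;> fin_cases a₂ <;> fin_cases b₁ <;> fin_cases b₂ <;>
        simp [five, sZ, sX, altTwo] <;> grind
    have hsum : Z (0, 0) (0, 0) * Z (0, 0) (0, 0) + Z (0, 0) (1, 0) * Z (0, 0) (1, 0) +
        Z (0, 0) (1, 1) * Z (0, 0) (1, 1) = 1 := by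
      rw [hform] at Q0
      simp [five, sZ, sX, altTwo] at Q0
      linear_combination Q0
    rcases three_squares hq hsum with ⟨x, y, z⟩ | ⟨x, y, z⟩ | ⟨x, y, z⟩
    · exact ⟨2, _, z, hform.trans (by rw [x, y]; simp)⟩
    · exact ⟨1, _, z, hform.trans (by rw [x, y]; simp)⟩
    · exact ⟨0, _, z, hform.trans (by rw [x, y]; simp)⟩
  · have C := fun a b => congrFun (congrFun hc' a) b
    simp [Matrix.mul_apply, Fintype.sum_prod_type, Fin.sum_univ_two, altTwo, Prod.forall, Fin.forall_fin_two,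
      Matrix.one_apply] at C
    have hform : Z = ((Z (0, 0) (1, 0) + Z (0, 0) (1, 1)) / 2) • five 3 +
        ((Z (0, 0) (1, 0) - Z (0, 0) (1, 1)) / 2) • five 4 := by
      refine Matrix.ext fun a b => ?_
      obtain ⟨a₁, a₂⟩ := a; obtain ⟨b₁, b₂⟩ := b
      fin_cases a₁ <;> fin_cases a₂ <;> fin_cases b₁ <;> fin_cases b₂ <;>
        simp [five, sZ, sX, altTwo, Matrix.mul_apply, Fin.sum_univ_two] <;> grind
    have hsum : (Z (0, 0) (1, 0) + Z (0, 0) (1, 1)) / 2 * ((Z (0, 0) (1, 0) + Z (0, 0) (1, 1)) / 2) +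
        (Z (0, 0) (1, 0) - Z (0, 0) (1, 1)) / 2 * ((Z (0, 0) (1, 0) - Z (0, 0) (1, 1)) / 2) = 1 := by
      rw [hform] at Q0
      simp [five, sZ, sX, altTwo, Matrix.mul_apply, Fin.sum_univ_two] at Q0
      grind
    rcases two_squares hq hsum with ⟨x, z⟩ | ⟨x, z⟩
    · exact ⟨4, _, z, hform.trans (by rw [x]; simp)⟩
    · exact ⟨3, _, z, hform.trans (by rw [x]; simp)⟩

set_option maxHeartbeats 1000000 in
/-- Over the field of three elements a hermitian structure of degree two on four-space carries a group of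
symplectic type. -/
theorem herm_four_three (hq : Fintype.card F = 3) {H : Subgroup (GL (Ix 2) F)} (hH : H ≤ Cfsg.spGL 2 F)
    {K : Subalgebra F (Matrix (Ix 2) (Ix 2) F)} (hK : IsFieldSubalgebra 2 K)
    (hadj : IsAdjointClosedFor (Cfsg.sympForm 2 F) K) (hne : ¬ IsSelfAdjointFor (Cfsg.sympForm 2 F) K)
    (hle : H ≤ subalgebraNormalizer K) : SixMember H := by
  classical
  have h2 : (2 : F) ≠ 0 := TensorFrame.two_ne hq
  have h3 : (3 : F) = 0 := TensorFrame.three_cast hq
  have hcl : ∀ k ∈ K, adjM k ∈ K := fun k hk => by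
    obtain ⟨k', hk', h⟩ := hadj k hk
    rw [adjM_unique h]; exact hk'
  obtain ⟨k, hk, hkne⟩ : ∃ k ∈ K, adjM k ≠ k := by
    by_contra h
    push Not at h
    exact hne fun k hk u v => by rw [adjM_spec, h k hk]
  set T₀ := k - adjM k with hT₀
  have hT₀K : T₀ ∈ K := sub_mem hk (hcl k hk)
  have hT₀a : adjM T₀ = -T₀ := by
    have h1 : adjM (k + (-1 : F) • adjM k) = adjM k + (-1 : F) • k := by rw [adjM_add, adjM_smul, adjM_adjM]
    rw [neg_one_smul, neg_one_smul, ← sub_eq_add_neg, ← sub_eq_add_neg] at h1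
    rw [h1, neg_sub]
  have hT₀0 : T₀ ≠ 0 := sub_ne_zero.2 (Ne.symm hkne)
  have hns : ∀ b : F, T₀ ≠ b • 1 := fun b hb => hT₀0 (by
    have h := hT₀a
    rw [hb, adjM_smul, adjM_one, ← neg_smul] at h
    have h1 : (b + b) • (1 : Matrix (Ix 2) (Ix 2) F) = 0 := by
      rw [add_smul]; nth_rewrite 1 [h]; rw [neg_smul, neg_add_cancel]
    rw [smul_eq_zero] at h1
    rcases h1 with h1 | h1
    · rw [hb, (mul_eq_zero.1 (show (2 : F) * b = 0 by linear_combination h1)).resolve_left h2, zero_smul]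
    · exact absurd h1 one_ne_zero)
  have hKspan : ∀ X ∈ K, ∃ a b : F, X = a • 1 + b • T₀ := by
    intro X hX
    let v : Fin 2 → K := ![1, ⟨T₀, hT₀K⟩]
    have hli : LinearIndependent F v := by
      rw [LinearIndependent.pair_iff]
      intro s t hst
      have h := congrArg Subtype.val hst
      simp only [Subalgebra.coe_add, Subalgebra.coe_smul, Subalgebra.coe_one, Subalgebra.coe_zero] at h
      by_cases ht : t = 0
      · subst ht
        rw [zero_smul, add_zero, smul_eq_zero] at h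
        exact ⟨h.resolve_right one_ne_zero, rfl⟩
      · refine absurd ?_ (hns (-s / t))
        rw [div_eq_inv_mul, mul_smul, neg_smul, eq_neg_of_add_eq_zero_left h, neg_neg, smul_smul,
          inv_mul_cancel₀ ht, one_smul]
    have hsp := hli.span_eq_top_of_card_eq_finrank' (by rw [Fintype.card_fin]; exact hK.finrank_eq.symm)
    have hmem : (⟨X, hX⟩ : K) ∈ Submodule.span F (Set.range v) := hsp ▸ Submodule.mem_top
    rw [show Set.range v = {(1 : K), ⟨T₀, hT₀K⟩} from Matrix.range_cons_cons_empty _ _ _,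
      Submodule.mem_span_pair] at hmem
    obtain ⟨a, b, h⟩ := hmem
    exact ⟨a, b, (congrArg Subtype.val h).symm⟩
  obtain ⟨c, b₀, hcb⟩ := hKspan _ (mul_mem hT₀K hT₀K)
  have hTT₀ : T₀ * T₀ = c • 1 := by
    have h := congrArg adjM hcb
    rw [adjM_mul, hT₀a, neg_mul_neg, adjM_add, adjM_smul, adjM_smul, adjM_one, hT₀a, hcb, smul_neg, add_right_inj] at h
    have h1 : ((2 : F) * b₀) • T₀ = 0 := by
      rw [two_mul, add_smul]; nth_rewrite 1 [h]; rw [neg_add_cancel]
    rw [hcb, (mul_eq_zero.1 ((smul_eq_zero.1 h1).resolve_right hT₀0)).resolve_left h2, zero_smul, add_zero]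
  have hc : c = -1 := by
    by_cases hc0 : c = 0
    · obtain ⟨y, -, hy⟩ := hK.inv _ hT₀K hT₀0
      refine absurd ?_ hT₀0
      calc T₀ = T₀ * (T₀ * y) := by rw [hy, Matrix.mul_one]
        _ = 0 := by rw [← Matrix.mul_assoc, hTT₀, hc0, zero_smul, Matrix.zero_mul]
    rcases mul_self_eq_one_iff.1 (TensorFrame.sq_one hq hc0) with h | h
    · exfalso
      rw [h, one_smul] at hTT₀
      have hz : (T₀ - 1) * (T₀ + 1) = 0 := by
        rw [Matrix.sub_mul, Matrix.mul_add, Matrix.one_mul, Matrix.mul_one, hTT₀]; abel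
      obtain ⟨y, -, hy⟩ := hK.inv (T₀ - 1) (sub_mem hT₀K (one_mem K))
        (fun h0 => hns 1 (by rw [one_smul]; exact sub_eq_zero.1 h0))
      have hcm := hK.comm _ (sub_mem hT₀K (one_mem K)) _ (add_mem hT₀K (one_mem K))
      refine hns (-1) ?_
      rw [neg_one_smul, eq_neg_iff_add_eq_zero]
      calc T₀ + 1 = (T₀ + 1) * ((T₀ - 1) * y) := by rw [hy, Matrix.mul_one]
        _ = 0 := by rw [← Matrix.mul_assoc, ← hcm, hz, Matrix.zero_mul]
    · exact h
  rw [hc, neg_one_smul] at hTT₀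
  -- an orthonormal basis over the quadratic extension
  set f := Cfsg.sympForm 2 F with hf
  have hsym : ∀ u v, f u (T₀ *ᵥ v) = f v (T₀ *ᵥ u) := fun u v => by
    rw [hf, sp_skew u (T₀ *ᵥ v), adjM_spec, hT₀a, Matrix.neg_mulVec,
      show -(T₀ *ᵥ u) = (-1 : F) • (T₀ *ᵥ u) from (neg_one_smul F _).symm, sp_bilinear.smul_right]
    ring
  have htt : ∀ u v, f (T₀ *ᵥ u) (T₀ *ᵥ v) = f u v := fun u v => by
    rw [hf, adjM_spec, hT₀a, Matrix.mulVec_mulVec, neg_mul, hTT₀, neg_neg, Matrix.one_mulVec]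
  have hT2 : ∀ u, T₀ *ᵥ (T₀ *ᵥ u) = -u := fun u => by
    rw [Matrix.mulVec_mulVec, hTT₀, Matrix.neg_mulVec, Matrix.one_mulVec]
  have hone : ∀ u, f u (T₀ *ᵥ u) ≠ 0 → ∃ a b : F, f (a • u + b • (T₀ *ᵥ u)) (T₀ *ᵥ (a • u + b • (T₀ *ᵥ u))) = 1 := by
    intro u hu
    have hval : ∀ a b : F, f (a • u + b • (T₀ *ᵥ u)) (T₀ *ᵥ (a • u + b • (T₀ *ᵥ u))) =
        (a * a + b * b) * f u (T₀ *ᵥ u) := fun a b => by
      simp only [Matrix.mulVec_add, Matrix.mulVec_smul, hT2, smul_neg, ← neg_smul, hf, sp_bilinear.add_left,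
        sp_bilinear.add_right, sp_bilinear.smul_left, sp_bilinear.smul_right, sp_alt, sp_skew (T₀ *ᵥ u) u]
      ring
    rcases mul_self_eq_one_iff.1 (TensorFrame.sq_one hq hu) with h | h
    · exact ⟨1, 0, by rw [hval, h]; ring⟩
    · exact ⟨1, 1, by rw [hval, h]; linear_combination -h3⟩
  have hexists : ∀ W : Submodule F (Ix 2 → F), (∀ w ∈ W, T₀ *ᵥ w ∈ W) → W ⊓ perp W = ⊥ → W ≠ ⊥ →
      ∃ v ∈ W, f v (T₀ *ᵥ v) = 1 := by
    intro W hWT hWnd hW0
    obtain ⟨u, hu, hne'⟩ : ∃ u ∈ W, f u (T₀ *ᵥ u) ≠ 0 := by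
      by_contra h
      push Not at h
      obtain ⟨w, hw, hw0⟩ := Submodule.exists_mem_ne_zero_of_ne_bot hW0
      have hall : ∀ u ∈ W, f u (T₀ *ᵥ w) = 0 := fun u hu => by
        have h1 := h _ (W.add_mem hu hw)
        simp only [Matrix.mulVec_add, hf, sp_bilinear.add_left, sp_bilinear.add_right] at h1
        simp only [← hf] at h1
        rw [h u hu, h w hw, hsym w u] at h1
        exact (mul_eq_zero.1 (show (2 : F) * f u (T₀ *ᵥ w) = 0 by linear_combination h1)).resolve_left h2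
      have : T₀ *ᵥ w ∈ W ⊓ perp W := ⟨hWT w hw, mem_perp.2 fun u hu => hall u hu⟩
      rw [hWnd, Submodule.mem_bot] at this
      exact hw0 (by have h4 := hT2 w; rw [this, Matrix.mulVec_zero] at h4; exact neg_eq_zero.1 h4.symm)
    obtain ⟨a, b, hab⟩ := hone u hne'
    exact ⟨_, W.add_mem (W.smul_mem a hu) (W.smul_mem b (hWT u hu)), hab⟩
  obtain ⟨v₁, -, hv₁⟩ := hexists ⊤ (fun _ _ => Submodule.mem_top) (by
    rw [top_inf_eq, Submodule.eq_bot_iff]
    intro x hx
    by_contra hx0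
    obtain ⟨y, hy⟩ := (sp_nondeg x hx0).1
    exact hy (mem_perp.1 hx y Submodule.mem_top)) top_ne_bot
  let W : Submodule F (Ix 2 → F) := Submodule.span F {v₁, T₀ *ᵥ v₁}
  have hperp : ∀ x, x ∈ perp W ↔ f v₁ x = 0 ∧ f (T₀ *ᵥ v₁) x = 0 := fun x => by
    rw [mem_perp]
    refine ⟨fun h => ⟨h _ (Submodule.subset_span (by simp)), h _ (Submodule.subset_span (by simp))⟩, fun h u hu => ?_⟩
    obtain ⟨a, b, rfl⟩ := Submodule.mem_span_pair.1 hu
    rw [sp_bilinear.add_left, sp_bilinear.smul_left, sp_bilinear.smul_left, ← hf, h.1, h.2]; ring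
  have hdim : Module.finrank F W ≤ 2 := by
    refine (finrank_span_le_card _).trans ?_
    simpa using Finset.card_le_two (a := v₁) (b := T₀ *ᵥ v₁)
  have hW'0 : perp W ≠ ⊥ := fun h => by
    have h1 := finrank_perp W
    rw [h, finrank_bot] at h1
    omega
  obtain ⟨v₂, hv₂W, hv₂⟩ := hexists (perp W) (fun w hw => by
      rw [hperp] at hw ⊢
      refine ⟨?_, by rw [htt]; exact hw.1⟩
      rw [hsym, hf, sp_skew, ← hf, hw.2, neg_zero]) (by
      rw [Submodule.eq_bot_iff]
      rintro x ⟨hx, hx'⟩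
      rw [SetLike.mem_coe, hperp] at hx
      by_contra hx0
      obtain ⟨y, hy⟩ := (sp_nondeg x hx0).2
      set α := f v₁ y with hα
      set β := f (T₀ *ᵥ v₁) y with hβ
      have hmem : y - α • (T₀ *ᵥ v₁) + β • v₁ ∈ perp W := (hperp _).2 ⟨by
          rw [sub_eq_add_neg, ← neg_smul, hf, sp_bilinear.add_right, sp_bilinear.add_right, sp_bilinear.smul_right,
            sp_bilinear.smul_right, sp_alt, ← hf, ← hα, hv₁]; ring, by
          rw [sub_eq_add_neg, ← neg_smul, hf, sp_bilinear.add_right, sp_bilinear.add_right, sp_bilinear.smul_right,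
            sp_bilinear.smul_right, sp_alt, sp_skew (T₀ *ᵥ v₁) v₁, ← hf, ← hβ, hv₁]; ring⟩
      have h5 := mem_perp.1 hx' _ hmem
      rw [sp_skew, neg_eq_zero, sub_eq_add_neg, ← neg_smul, sp_bilinear.add_right, sp_bilinear.add_right,
        sp_bilinear.smul_right, sp_bilinear.smul_right, sp_skew x (T₀ *ᵥ v₁), sp_skew x v₁, ← hf, hx.1, hx.2] at h5
      exact hy (by rw [← hf]; linear_combination h5)) hW'0
  have o1 := ((hperp v₂).1 hv₂W).1
  have o2 := ((hperp v₂).1 hv₂W).2
  -- the frame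
  let e : Ix 2 ≃ Fin 2 × Fin 2 :=
    { toFun := fun s => Sum.elim (fun i => (i, 0)) (fun i => (i, 1)) s
      invFun := fun z => if z.2 = 0 then Sum.inl z.1 else Sum.inr z.1
      left_inv := fun s => by rcases s with i | i <;> simp
      right_inv := fun z => by obtain ⟨i, j⟩ := z; fin_cases j <;> simp }
  let w : Fin 2 × Fin 2 → Ix 2 → F := fun z => ![![v₁, T₀ *ᵥ v₁], ![v₂, T₀ *ᵥ v₂]] z.1 z.2
  let Pm : Matrix (Ix 2) (Ix 2) F := Matrix.of fun i a => w (e a) i
  have hw : ∀ i j, f (w i) (w j) = ((1 : Matrix (Fin 2) (Fin 2) F) ⊗ₖ (altTwo : Matrix (Fin 2) (Fin 2) F)) i j := by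
    have o3 : f v₁ (T₀ *ᵥ v₂) = 0 := by rw [hsym, hf, sp_skew, ← hf, o2, neg_zero]
    rintro ⟨i, j⟩ ⟨k, l⟩
    fin_cases i <;> fin_cases j <;> fin_cases k <;> fin_cases l <;>
      simp [w, altTwo, htt, hv₁, hv₂, o1, o2, o3, hf ▸ sp_alt v₁, hf ▸ sp_alt v₂,
        hf ▸ sp_skew (T₀ *ᵥ v₁) v₁, hf ▸ sp_skew (T₀ *ᵥ v₂) v₂, hf ▸ sp_skew v₂ v₁,
        hf ▸ sp_skew v₂ (T₀ *ᵥ v₁), hf ▸ sp_skew (T₀ *ᵥ v₂) v₁]
  have hgr : (Pmᵀ * Matrix.J (Fin 2) F * Pm).submatrix e.symm e.symm =
      (1 : Matrix (Fin 2) (Fin 2) F) ⊗ₖ (altTwo : Matrix (Fin 2) (Fin 2) F) := by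
    refine Matrix.ext fun i j => ?_
    rw [← hw, Matrix.submatrix_apply, Matrix.mul_assoc, Matrix.mul_apply, hf, Cfsg.sympForm]
    simp only [dotProduct, Matrix.transpose_apply, Pm, Matrix.of_apply, Equiv.apply_symm_apply]
    refine Finset.sum_congr rfl fun x _ => ?_
    rw [Matrix.mul_apply]
    simp [Matrix.mulVec, dotProduct, Matrix.of_apply]
  have hPu : IsUnit Pm.det := by
    have h := congrArg Matrix.det hgr
    rw [Matrix.det_submatrix_equiv_self, Matrix.det_mul, Matrix.det_mul, Matrix.det_kronecker] at h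
    have hu : IsUnit (Pmᵀ.det * (Matrix.J (Fin 2) F).det * Pm.det) := by
      rw [h]; simp [altTwo, Matrix.det_fin_two]
    exact (IsUnit.mul_iff.1 hu).2
  let P : GL (Ix 2) F := Matrix.nonsingInvUnit Pm hPu
  have hgC : gC e P = (1 : Matrix (Fin 2) (Fin 2) F) ⊗ₖ (altTwo : Matrix (Fin 2) (Fin 2) F) := hgr
  have hT : T₀ = tm e P ((1 : Matrix (Fin 2) (Fin 2) F) ⊗ₖ (-altTwo : Matrix (Fin 2) (Fin 2) F)) := by
    have h1 : T₀ * Pm = Pm * ((1 : Matrix (Fin 2) (Fin 2) F) ⊗ₖ (-altTwo : Matrix (Fin 2) (Fin 2) F)).submatrix e e := by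
      refine Matrix.ext fun i a => ?_
      have hl : (T₀ * Pm) i a = (T₀ *ᵥ w (e a)) i := by
        simp [Matrix.mul_apply, Pm, Matrix.mulVec, dotProduct]
      have hr : (Pm * ((1 : Matrix (Fin 2) (Fin 2) F) ⊗ₖ (-altTwo : Matrix (Fin 2) (Fin 2) F)).submatrix e e) i a =
          ∑ z, w z i * ((1 : Matrix (Fin 2) (Fin 2) F) ⊗ₖ (-altTwo : Matrix (Fin 2) (Fin 2) F)) z (e a) := by
        rw [Matrix.mul_apply, ← Equiv.sum_comp e]
        rfl
      rw [hl, hr]
      generalize e a = z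
      obtain ⟨x, y⟩ := z
      fin_cases x <;> fin_cases y <;> simp [w, altTwo, hT2, Fintype.sum_prod_type, Fin.sum_univ_two]
    rw [tm]
    show T₀ = Pm * _ * (P⁻¹).val
    rw [← h1, Matrix.mul_assoc]
    exact (by rw [show Pm * (P⁻¹).val = 1 from P.mul_inv, Matrix.mul_one] : T₀ = T₀ * (Pm * (P⁻¹).val))
  -- five involutions
  have hsq := five_sq (F := F) h3
  have hanti := five_anti (F := F)
  have hfadj : ∀ i, adjM (tm e P (five i)) = tm e P (five i : Matrix _ _ F) := fun i =>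
    adjM_tm e P (by rw [hgC]; exact five_gram i)
  let s : Fin 5 → GL (Ix 2) F := fun i => ⟨tm e P (five i), tm e P (five i),
    by rw [← tm_mul, hsq, tm_one], by rw [← tm_mul, hsq, tm_one]⟩
  refine sixMember_of_signed h2 (by norm_num : Nat.Prime 3) (by decide) hq (k := 2) le_rfl (by norm_num)
    (S := Set.range s) ?_ ?_ ?_ ?_ ?_
  · rintro _ ⟨i, rfl⟩
    refine mem_spGL_of_adjM ?_
    show adjM (tm e P (five i)) * _ = 1
    rw [hfadj]; show tm e P (five i) * tm e P (five i) = 1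
    rw [← tm_mul, hsq, tm_one]
  · rintro _ ⟨i, rfl⟩
    left
    show tm e P (five i) * tm e P (five i) = 1
    rw [← tm_mul, hsq, tm_one]
  · rintro _ ⟨i, rfl⟩ _ ⟨j, rfl⟩
    show SignComm (tm e P (five i)) (tm e P (five j))
    by_cases hij : i = j
    · subst hij; exact Or.inl rfl
    · refine Or.inr ?_
      rw [← tm_mul, ← tm_mul, hanti i j hij, ← neg_one_smul F (five j * five i), tm_smul, neg_one_smul]
  · set A := Algebra.adjoin F ((fun g : GL (Ix 2) F => g.val) '' Set.range s)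
    let B : Subalgebra F (Matrix (Fin 2 × Fin 2) (Fin 2 × Fin 2) F) :=
      { carrier := {X | tm e P X ∈ A}
        mul_mem' := fun {X Y} hX hY => by
          show tm e P (X * Y) ∈ A
          rw [tm_mul]; exact mul_mem hX hY
        add_mem' := fun {X Y} hX hY => by
          show tm e P (X + Y) ∈ A
          rw [tm_add]; exact add_mem hX hY
        algebraMap_mem' := fun r => by
          show tm e P _ ∈ A
          rw [Algebra.algebraMap_eq_smul_one, tm_smul, tm_one]; exact A.smul_mem (one_mem A) _ }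
    have hB : ∀ i, (five i : Matrix _ _ F) ∈ B := fun i => Algebra.subset_adjoin ⟨s i, ⟨i, rfl⟩, rfl⟩
    have hy : (sZ * sX : Matrix (Fin 2) (Fin 2) F) = altTwo := by
      simp [sZ, sX, altTwo, Matrix.mul_fin_two]
    have hYn : ∀ X : Matrix (Fin 2) (Fin 2) F, (altTwo ⊗ₖ X) ∈ B → ((1 : Matrix (Fin 2) (Fin 2) F) ⊗ₖ X) ∈ B := fun X hX => by
      have h := mul_mem (mul_mem (hB 0) (hB 1)) hX
      simp only [five, Matrix.cons_val_zero, Matrix.cons_val_one, ← Matrix.mul_kronecker_mul, hy, one_mul] at h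
      have h4 : (altTwo * altTwo : Matrix (Fin 2) (Fin 2) F) = (-1 : F) • 1 := by
        refine Matrix.ext fun i j => ?_
        fin_cases i <;> fin_cases j <;> simp [altTwo, Matrix.mul_apply, Fin.sum_univ_two]
      rw [h4, Matrix.smul_kronecker] at h
      simpa using B.smul_mem h (-1 : F)
    have hleft : ∀ X : Matrix (Fin 2) (Fin 2) F, (X ⊗ₖ (1 : Matrix (Fin 2) (Fin 2) F)) ∈ B := by
      intro X
      have hX : X = ((X 0 0 + X 1 1) / 2) • (1 : Matrix (Fin 2) (Fin 2) F) + ((X 0 0 - X 1 1) / 2) • sZ +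
          ((X 0 1 + X 1 0) / 2) • sX + ((X 0 1 - X 1 0) / 2) • altTwo := by
        refine Matrix.ext fun i j => ?_
        fin_cases i <;> fin_cases j <;> simp [sZ, sX, altTwo] <;> field_simp <;> ring
      rw [hX]
      simp only [Matrix.add_kronecker, Matrix.smul_kronecker]
      refine add_mem (add_mem (add_mem (B.smul_mem ?_ _) (B.smul_mem ?_ _)) (B.smul_mem ?_ _)) (B.smul_mem ?_ _)
      · rw [Matrix.one_kronecker_one]; exact one_mem B
      · exact hB 0
      · exact hB 1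
      · have h := mul_mem (hB 0) (hB 1)
        simpa [five, ← Matrix.mul_kronecker_mul, hy] using h
    have hright : ∀ X : Matrix (Fin 2) (Fin 2) F, ((1 : Matrix (Fin 2) (Fin 2) F) ⊗ₖ X) ∈ B := by
      intro X
      have hX : X = ((X 0 0 + X 1 1) / 2) • (1 : Matrix (Fin 2) (Fin 2) F) + ((X 0 1 - X 1 0) / 2) • altTwo +
          (((X 0 0 - X 1 1) / 2 + (X 0 1 + X 1 0) / 2) / 2) • !![1, 1; 1, -1] +
          (((X 0 0 - X 1 1) / 2 - (X 0 1 + X 1 0) / 2) / 2) • (altTwo * !![1, 1; 1, -1]) := by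
        refine Matrix.ext fun i j => ?_
        fin_cases i <;> fin_cases j <;> simp [altTwo, Matrix.mul_apply, Fin.sum_univ_two] <;> field_simp <;> ring
      rw [hX]
      simp only [Matrix.kronecker_add, Matrix.kronecker_smul]
      refine add_mem (add_mem (add_mem (B.smul_mem ?_ _) (B.smul_mem ?_ _)) (B.smul_mem ?_ _)) (B.smul_mem ?_ _)
      · rw [Matrix.one_kronecker_one]; exact one_mem B
      · exact hYn _ (hB 2)
      · exact hYn _ (hB 3)
      · exact hYn _ (hB 4)
    have hall : ∀ X : Matrix (Fin 2 × Fin 2) (Fin 2 × Fin 2) F, X ∈ B := fun X => by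
      rw [Matrix.matrix_eq_sum_single X]
      refine sum_mem fun a _ => sum_mem fun b _ => ?_
      have h1 : Matrix.single a b (X a b) = (Matrix.single a.1 b.1 (X a b) ⊗ₖ (1 : Matrix (Fin 2) (Fin 2) F)) *
          ((1 : Matrix (Fin 2) (Fin 2) F) ⊗ₖ Matrix.single a.2 b.2 1) := by
        rw [← Matrix.mul_kronecker_mul, Matrix.mul_one, Matrix.one_mul]
        rw [Matrix.single_kronecker_single, mul_one]
      rw [h1]
      exact mul_mem (hleft _) (hright _)
    rw [eq_top_iff]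
    intro M _
    let X : Matrix (Fin 2 × Fin 2) (Fin 2 × Fin 2) F := ((P⁻¹).val * M * P.val).submatrix e.symm e.symm
    have hX : tm e P X = M := by
      simp only [tm, X, Matrix.submatrix_submatrix, Equiv.symm_comp_self, Matrix.submatrix_id_id]
      simp [← Matrix.mul_assoc, ← Units.val_mul, Matrix.mul_assoc]
    exact hX ▸ hall X
  · intro g hg u hu
    obtain ⟨i, rfl⟩ := hu
    have hgT : ∃ b : F, (b = 1 ∨ b = -1) ∧ g.val * T₀ * (g⁻¹).val = b • T₀ := by
      obtain ⟨a, b, hab⟩ := hKspan _ ((hle hg T₀).1 hT₀K)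
      have ha : adjM (g.val * T₀ * (g⁻¹).val) = -(g.val * T₀ * (g⁻¹).val) := by
        rw [adjM_conj hH hg, hT₀a, mul_neg, neg_mul]
      rw [hab, adjM_add, adjM_smul, adjM_smul, adjM_one, hT₀a, smul_neg, neg_add, add_left_inj] at ha
      have ha0 : a = 0 := by
        have h1 : ((2 : F) * a) • (1 : Matrix (Ix 2) (Ix 2) F) = 0 := by
          rw [two_mul, add_smul]; nth_rewrite 1 [ha]; rw [neg_add_cancel]
        exact (mul_eq_zero.1 ((smul_eq_zero.1 h1).resolve_right one_ne_zero)).resolve_left h2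
      rw [ha0, zero_smul, zero_add] at hab
      refine ⟨b, ?_, hab⟩
      have hb : (g.val * T₀ * (g⁻¹).val) * (g.val * T₀ * (g⁻¹).val) = -1 := by
        calc _ = g.val * T₀ * ((g⁻¹).val * g.val) * T₀ * (g⁻¹).val := by simp only [Matrix.mul_assoc]
          _ = g.val * (T₀ * T₀) * (g⁻¹).val := by
              rw [← Units.val_mul, inv_mul_cancel, Units.val_one, Matrix.mul_one, Matrix.mul_assoc g.val]
          _ = -1 := by rw [hTT₀, mul_neg, Matrix.mul_one, neg_mul, ← Units.val_mul, mul_inv_cancel, Units.val_one]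
      rw [hab, smul_mul_smul_comm, hTT₀, smul_neg, neg_inj] at hb
      have hbb : b * b = 1 := by
        have h1 := congrFun (congrFun hb (Sum.inl 0)) (Sum.inl 0)
        simpa using h1
      exact mul_self_eq_one_iff.1 hbb
    obtain ⟨b, hb, hgT⟩ := hgT
    set Y := g.val * (s i).val * (g⁻¹).val with hY
    have hYa : adjM Y = Y := by rw [hY, adjM_conj hH hg]; exact congrArg (fun M => g.val * M * (g⁻¹).val) (hfadj i)
    have hYY : Y * Y = 1 := by
      rw [hY, ← Units.val_mul, ← Units.val_mul, ← Units.val_mul]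
      have hii : s i * s i = 1 := Units.ext (by show tm e P _ * tm e P _ = 1; rw [← tm_mul, hsq, tm_one])
      rw [show g * s i * g⁻¹ * (g * s i * g⁻¹) = g * (s i * s i) * g⁻¹ by group, hii, mul_one, mul_inv_cancel,
        Units.val_one]
    have hYtr : Y.trace = 0 := by
      rw [hY, Matrix.trace_mul_cycle, ← Units.val_mul, inv_mul_cancel, Units.val_one, Matrix.one_mul]
      show (tm e P (five i)).trace = 0
      rw [tm, Matrix.trace_mul_cycle, ← Units.val_mul, inv_mul_cancel, Units.val_one, Matrix.one_mul]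
      simp only [Matrix.trace, Matrix.diag, Matrix.submatrix_apply]
      rw [Equiv.sum_comp e (fun z => (five i : Matrix _ _ F) z z)]
      fin_cases i <;> simp [five, sZ, sX, altTwo, Fintype.sum_prod_type, Fin.sum_univ_two]
    let t0 : Matrix (Fin 2 × Fin 2) (Fin 2 × Fin 2) F := (1 : Matrix (Fin 2) (Fin 2) F) ⊗ₖ (-altTwo)
    have hcomm : (five i * t0 = t0 * five i) ∨ (five i * t0 = -(t0 * five i)) := five_comm i
    let Z : Matrix (Fin 2 × Fin 2) (Fin 2 × Fin 2) F := ((P⁻¹).val * Y * P.val).submatrix e.symm e.symm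
    have hZ : tm e P Z = Y := by
      simp only [tm, Z, Matrix.submatrix_submatrix, Equiv.symm_comp_self, Matrix.submatrix_id_id]
      simp [← Matrix.mul_assoc, ← Units.val_mul, Matrix.mul_assoc]
    have hZa : Zᵀ * gC e P = gC e P * Z := tm_adjM e P (by rw [hZ, hYa])
    have hZZ : Z * Z = 1 := tm_inj e P (by rw [tm_mul, hZ, hYY, tm_one])
    have hZtr : ∑ z, Z z z = 0 := by
      have h := hYtr
      rw [← hZ, tm, Matrix.trace_mul_cycle, ← Units.val_mul, inv_mul_cancel, Units.val_one, Matrix.one_mul] at h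
      simp only [Matrix.trace, Matrix.diag, Matrix.submatrix_apply] at h
      rwa [Equiv.sum_comp e (fun z => Z z z)] at h
    have hcases : (Z * t0 = t0 * Z) ∨ (Z * t0 = -(t0 * Z)) := by
      have hb' : Y * T₀ = T₀ * Y ∨ Y * T₀ = -(T₀ * Y) := by
        have key : ∀ M : Matrix (Ix 2) (Ix 2) F, Y * (g.val * M * (g⁻¹).val) = g.val * ((s i).val * M) * (g⁻¹).val ∧
            (g.val * M * (g⁻¹).val) * Y = g.val * (M * (s i).val) * (g⁻¹).val := fun M => by
          constructor <;>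
            simp only [hY, Matrix.mul_assoc] <;>
            rw [← Matrix.mul_assoc (g⁻¹).val g.val, ← Units.val_mul, inv_mul_cancel, Units.val_one, Matrix.one_mul]
        obtain ⟨k1, k2⟩ := key T₀
        rw [hgT, Matrix.mul_smul] at k1
        rw [hgT, Matrix.smul_mul] at k2
        have hb0 : b ≠ 0 := by rcases hb with rfl | rfl <;> simp
        have hTi : (s i).val * T₀ = T₀ * (s i).val ∨ (s i).val * T₀ = -(T₀ * (s i).val) := by
          show tm e P _ * T₀ = _ ∨ tm e P _ * T₀ = -(T₀ * tm e P _)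
          rw [hT, ← tm_mul, ← tm_mul]
          rcases hcomm with h | h
          · exact Or.inl (congrArg _ h)
          · refine Or.inr ((congrArg _ h).trans ?_)
            rw [← neg_one_smul F (t0 * five i), tm_smul, neg_one_smul]
        rcases hTi with h | h
        · exact Or.inl (smul_right_injective _ hb0 (show b • (Y * T₀) = b • (T₀ * Y) by rw [k1, k2, h]))
        · refine Or.inr (smul_right_injective _ hb0 (show b • (Y * T₀) = b • -(T₀ * Y) from ?_))
          rw [smul_neg, k1, k2, h, mul_neg, neg_mul]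
      rw [← hZ, hT, ← tm_mul, ← tm_mul] at hb'
      rcases hb' with h | h
      · exact Or.inl (tm_inj e P h)
      · refine Or.inr (tm_inj e P (h.trans ?_))
        rw [← neg_one_smul F (t0 * Z), tm_smul, neg_one_smul]
    -- the coordinates of the image
    obtain ⟨j, sg, hsg, hj⟩ := five_cases hq (by rw [← hgC]; exact hZa) hZtr hZZ hcases
    have hneg : (-1 : GL (Ix 2) F) ∈ Subgroup.closure (Set.range s) := by
      have h1 : s 0 * s 1 * (s 0 * s 1) = -1 := by
        refine Units.ext ?_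
        show tm e P (five 0) * tm e P (five 1) * (tm e P (five 0) * tm e P (five 1)) = -1
        simp only [← tm_mul]
        have h5 : (five 0 * five 1 * (five 0 * five 1) : Matrix (Fin 2 × Fin 2) (Fin 2 × Fin 2) F) = (-1 : F) • 1 := by
          rw [Matrix.mul_assoc, ← Matrix.mul_assoc (five 1) (five 0), hanti 1 0 (by decide)]
          simp only [neg_mul, mul_neg, Matrix.mul_assoc, hsq, Matrix.mul_one]
          simp [hsq]
        rw [h5, tm_smul, tm_one, neg_one_smul]
      exact h1 ▸ mul_mem (mul_mem (Subgroup.subset_closure ⟨0, rfl⟩) (Subgroup.subset_closure ⟨1, rfl⟩))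
        (mul_mem (Subgroup.subset_closure ⟨0, rfl⟩) (Subgroup.subset_closure ⟨1, rfl⟩))
    have hgY : (g * s i * g⁻¹).val = Y := by rw [hY, Units.val_mul, Units.val_mul]
    rcases hsg with rfl | rfl
    · rw [show g * s i * g⁻¹ = s j from Units.ext (by
        rw [hgY, ← hZ, hj, one_smul])]
      exact Subgroup.subset_closure ⟨j, rfl⟩
    · rw [show g * s i * g⁻¹ = -1 * s j from Units.ext (by
        rw [hgY, ← hZ, hj, tm_smul, neg_one_smul, Units.val_mul, Units.val_neg, Units.val_one, neg_one_mul])]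
      exact mul_mem hneg (Subgroup.subset_closure ⟨j, rfl⟩)

end Herm

end Cfsg.Lib.Linear.AschSp
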